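import Cfsg.Agent.Lib.TwoCover.Herm

/-!
The standard hermitian space: isometry matrices, Witt transitivity, scalar centre, perpendiculars.
-/

set_option autoImplicit false

namespace CfsgLib.TwoCover.Unitary

open Matrix Cfsg CfsgLib.TwoCover.Herm

variable {F : Type*} [Field F] {n q : ℕ}

/-- The matrix preserves the hermitian form. -/
def IsU (q : ℕ) (M : Matrix (Fin n) (Fin n) F) : Prop :=
  ∀ u v, hermForm n F q (M *ᵥ u) (M *ᵥ v) = hermForm n F q u v

theorem IsU.mul {A B : Matrix (Fin n) (Fin n) F} (hA : IsU q A) (hB : IsU q B) : IsU q (A * B) :=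
  fun u v => by rw [← mulVec_mulVec, ← mulVec_mulVec, hA, hB]

theorem isU_one : IsU q (1 : Matrix (Fin n) (Fin n) F) := fun u v => by rw [one_mulVec, one_mulVec]

theorem su_mem (g : SU n F q) : IsU q g.1.1 := g.2

theorem exists_su {M : Matrix (Fin n) (Fin n) F} (hM : IsU q M) (hd : M.det = 1) :
    ∃ g : SU n F q, g.1.1 = M := ⟨⟨⟨M, hd⟩, hM⟩, rfl⟩

theorem isU_diagonal {d : Fin n → F} (hd : ∀ i, d i * d i ^ q = 1) : IsU q (diagonal d) := by
  intro u v
  simp only [hermForm, mulVec_diagonal, mul_pow]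
  exact Finset.sum_congr rfl fun i _ => by linear_combination u i * v i ^ q * hd i

theorem isU_perm (e : Equiv.Perm (Fin n)) : IsU q (e.permMatrix F) := by
  intro u v
  simp only [hermForm, Matrix.permMatrix_mulVec, Function.comp_apply]
  exact Equiv.sum_comp e (fun i => u i * v i ^ q)

theorem su_mul_coe (a b : SU n F q) : (a * b).1.1 = a.1.1 * b.1.1 := rfl

theorem su_inv_mul (a : SU n F q) : (a⁻¹).1.1 * a.1.1 = 1 := by
  rw [← su_mul_coe, inv_mul_cancel]; rfl

theorem su_mul_inv (a : SU n F q) : a.1.1 * (a⁻¹).1.1 = 1 := by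
  rw [← su_mul_coe, mul_inv_cancel]; rfl

theorem su_mulVec_mul (a b : SU n F q) (v : Fin n → F) :
    (a * b).1.1 *ᵥ v = a.1.1 *ᵥ (b.1.1 *ᵥ v) := by rw [su_mul_coe, mulVec_mulVec]

theorem su_inv_mulVec (a : SU n F q) (v : Fin n → F) : (a⁻¹).1.1 *ᵥ (a.1.1 *ᵥ v) = v := by
  rw [mulVec_mulVec, su_inv_mul, one_mulVec]

theorem su_injective (a : SU n F q) : Function.Injective (a.1.1 *ᵥ ·) := fun x y h => by
  simpa only [su_inv_mulVec] using congrArg ((a⁻¹).1.1 *ᵥ ·) h

variable [Fintype F] {φ : F →+* F}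

/-- Field data. -/
structure FD (q : ℕ) (φ : F →+* F) : Prop where
  card : Fintype.card F = q ^ 2
  pow : ∀ a, φ a = a ^ q
  invol : ∀ a, φ (φ a) = a
  ne_id : φ ≠ RingHom.id F

theorem exists_FD (hF : Fintype.card F = q ^ 2) : ∃ φ : F →+* F, FD q φ := by
  obtain ⟨φ, h1, h2, w, hw⟩ := Conj.exists_frob hF
  exact ⟨φ, hF, h1, h2, fun e => hw (by rw [e]; rfl)⟩

variable (D : FD q φ)

include D

theorem FD.two_le : 2 ≤ q := ClassicalMax.Unit.two_le_of_card_eq_sq D.card

theorem FD.exists_ne : ∃ w, φ w ≠ w := by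
  by_contra h
  push Not at h
  exact D.ne_id (RingHom.ext h)

theorem hs : HS φ (hermForm n F q) := by
  obtain ⟨σ, hσ, -, hne⟩ := ClassicalMax.Unit.exists_powEquiv D.card
  have h := ClassicalMax.Unit.isUnitaryForm_hermForm D.card n hσ hne
  refine ⟨h.add_left, h.smul_left, fun x y => ?_, fun x hx => ?_⟩
  · rw [h.herm, hσ, D.pow]
  · by_contra hne0
    obtain ⟨⟨y, hy⟩, -⟩ := h.nondegenerate x hne0
    first | exact hy (hx y) | exact hy (by rw [h.herm, hx y, map_zero])

theorem FD.exists_norm {s : F} (hs : φ s = s) : ∃ a : F, a * φ a = s := by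
  obtain ⟨σ, hσ, h2, hne⟩ := ClassicalMax.Unit.exists_powEquiv D.card
  have e : ∀ a, σ a = φ a := fun a => by rw [hσ, D.pow]
  obtain ⟨a, ha⟩ := ClassicalMax.Unit.exists_norm_eq hne h2 (by rw [e]; exact hs)
  exact ⟨a, by rw [← e]; exact ha⟩

theorem isU_injective {M : Matrix (Fin n) (Fin n) F} (hM : IsU q M) :
    Function.Injective (M *ᵥ ·) := by
  intro x y e
  refine ext_right (hs D) fun z => ?_
  rw [← hM z x, ← hM z y]
  exact congrArg (hermForm n F q (M *ᵥ z)) e

theorem isU_det {M : Matrix (Fin n) (Fin n) F} (hM : IsU q M) : M.det * φ M.det = 1 := by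
  have hu := Matrix.mulVec_injective_iff_isUnit.1 (isU_injective D hM)
  have hg : hu.unit ∈ GU n F q := hM
  have h2 := congrArg Matrix.det ((Conj.mem_GU_iff φ D.pow D.invol hu.unit).1 hg)
  rw [det_mul, det_one, IsUnit.unit_spec,
    show Conj.conjT φ M = Semisimple.Unitary.ct φ M from rfl, Semisimple.Unitary.det_ct] at h2
  rw [mul_comm]; exact h2

/-- Hermitian forms as semilinear maps. -/
noncomputable def sesq : (Fin n → F) →ₛₗ[φ] (Fin n → F) →ₗ[F] F :=
  LinearMap.mk₂'ₛₗ φ (RingHom.id F) (fun x y => hermForm n F q y x)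
    (fun x x' y => add_right (hs D) y x x') (fun c x y => smul_right (hs D) c y x)
    (fun x y y' => (hs D).add_left y y' x) (fun c x y => (hs D).smul_left c y x)

theorem exists_isU_map (X : Submodule F (Fin n → F)) (f : (Fin n → F) →ₗ[F] (Fin n → F))
    (hf : ∀ x ∈ X, ∀ y ∈ X, hermForm n F q (f x) (f y) = hermForm n F q x y)
    (hinj : ∀ x ∈ X, f x = 0 → x = 0) :
    ∃ M : Matrix (Fin n) (Fin n) F, IsU q M ∧ ∀ x ∈ X, M *ᵥ x = f x := by
  obtain ⟨g, hg, hgX⟩ := Forms.witt_hermitian (sesq D) D.ne_id D.invol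
    ⟨fun x y => ((hs D).herm x y).symm⟩
    ⟨fun x hx => (hs D).nondeg x fun y => Herm.eq_zero_comm (hs D) (hx y),
      fun y hy => (hs D).nondeg y fun x => hy x⟩
    X f (fun x hx y hy => hf y hy x hx) hinj
  refine ⟨LinearMap.toMatrix' g.toLinearMap, fun u v => ?_, fun x hx => ?_⟩
  · rw [LinearMap.toMatrix'_mulVec, LinearMap.toMatrix'_mulVec]; exact hg v u
  · rw [LinearMap.toMatrix'_mulVec]; exact hgX x hx

theorem exists_isU_vec {v w : Fin n → F} (hv : hermForm n F q v v ≠ 0)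
    (hw : hermForm n F q w w ≠ 0) :
    ∃ M : Matrix (Fin n) (Fin n) F, IsU q M ∧ ∃ c : F, c ≠ 0 ∧ M *ᵥ v = c • w := by
  obtain ⟨c, hc⟩ := D.exists_norm (s := hermForm n F q v v / hermForm n F q w w) (by
    rw [map_div₀, ← (hs D).herm, ← (hs D).herm])
  have hc0 : c ≠ 0 := by
    rintro rfl
    rw [zero_mul] at hc
    exact div_ne_zero hv hw hc.symm
  have hv0 : v ≠ 0 := fun e => hv (by rw [e, zero_left (hs D)])
  have hw0 : w ≠ 0 := fun e => hw (by rw [e, zero_left (hs D)])
  obtain ⟨l, -, hl⟩ := Forms.exists_dual_eq (⊥ : Submodule F (Fin n → F))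
    (x := v) (by rwa [Submodule.mem_bot]) 1
  obtain ⟨M, hM, hMX⟩ := exists_isU_map D (F ∙ v) (l.smulRight (c • w)) (by
    intro x hx y hy
    obtain ⟨a, rfl⟩ := Submodule.mem_span_singleton.1 hx
    obtain ⟨b, rfl⟩ := Submodule.mem_span_singleton.1 hy
    simp only [LinearMap.smulRight_apply, map_smul, hl, smul_eq_mul, mul_one, one_mul, (hs D).smul_left,
      smul_right (hs D)]
    field_simp at hc
    simp only [map_mul, map_one, mul_one]
    linear_combination a * φ b * hc) (by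
    intro x hx h0
    obtain ⟨a, rfl⟩ := Submodule.mem_span_singleton.1 hx
    simp only [LinearMap.smulRight_apply, map_smul, hl, smul_eq_mul, mul_one, one_mul, smul_smul] at h0
    rcases smul_eq_zero.1 h0 with h1 | h1
    · rw [(mul_eq_zero.1 h1).resolve_right hc0, zero_smul]
    · exact absurd h1 hw0)
  refine ⟨M, hM, c, hc0, ?_⟩
  rw [hMX v (Submodule.mem_span_singleton_self v), LinearMap.smulRight_apply, hl, one_smul]

/-- The perpendicular of an invariant subspace is invariant. -/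
theorem perp_invariant {M : Matrix (Fin n) (Fin n) F} (hM : IsU q M)
    {U : Submodule F (Fin n → F)} (hU : ∀ u ∈ U, M *ᵥ u ∈ U) {y : Fin n → F}
    (hy : ∀ u ∈ U, hermForm n F q u y = 0) : ∀ u ∈ U, hermForm n F q u (M *ᵥ y) = 0 := by
  intro u hu
  let f : U → U := fun x => ⟨M *ᵥ x.1, hU x.1 x.2⟩
  haveI : Finite U := Module.finite_of_finite F
  obtain ⟨x, hx⟩ := (Finite.injective_iff_surjective (f := f)).1
    (fun a b h => Subtype.ext (isU_injective D hM (congrArg Subtype.val h))) ⟨u, hu⟩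
  rw [← show M *ᵥ x.1 = u from congrArg Subtype.val hx, hM]
  exact hy x x.2

/-- The perpendicular of a hyperplane is a line. -/
theorem exists_perp {U : Submodule F (Fin n → F)} (hU : Module.finrank F U + 1 = n) :
    ∃ y : Fin n → F, y ≠ 0 ∧ (∀ u ∈ U, hermForm n F q u y = 0) ∧
      ∀ z, (∀ u ∈ U, hermForm n F q u z = 0) → ∃ c : F, z = c • y := by
  obtain ⟨w, hw⟩ : ∃ w, w ∉ U := by
    by_contra h
    push Not at h
    have : U = ⊤ := eq_top_iff.2 fun x _ => h x
    rw [this, finrank_top, Module.finrank_fin_fun] at hU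
    omega
  obtain ⟨l, hlU, hlw⟩ := Forms.exists_dual_eq U hw 1
  obtain ⟨y, hy⟩ := Forms.herm_represent (sesq D) D.invol
    ⟨fun x y => ((hs D).herm x y).symm⟩
    ⟨fun x hx => (hs D).nondeg x fun y => Herm.eq_zero_comm (hs D) (hx y),
      fun y hy => (hs D).nondeg y fun x => hy x⟩ l
  have hy' : ∀ x, hermForm n F q x y = l x := hy
  have hwy : hermForm n F q w y = 1 := by rw [hy', hlw]
  refine ⟨y, fun e => ?_, fun u hu => by rw [hy', hlU u hu], fun z hz => ?_⟩
  · rw [e, zero_right (hs D)] at hwy; exact zero_ne_one hwy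
  refine ⟨φ (hermForm n F q w z), sub_eq_zero.1 (ext_right (hs D) fun x => ?_)⟩
  rw [zero_right (hs D)]
  have hx : x ∈ U ⊔ (F ∙ w) := by
    have : U ⊔ (F ∙ w) = ⊤ := by
      refine Submodule.eq_top_of_finrank_eq ?_
      have h1 : U < U ⊔ (F ∙ w) := lt_of_le_of_ne le_sup_left fun e => hw (e ▸
        Submodule.mem_sup_right (Submodule.mem_span_singleton_self w))
      have h2 := Submodule.finrank_lt_finrank_of_lt h1
      have h3 := (U ⊔ (F ∙ w)).finrank_le
      rw [Module.finrank_fin_fun] at h3 ⊢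
      omega
    rw [this]; trivial
  obtain ⟨u, hu, d, hd, rfl⟩ := Submodule.mem_sup.1 hx
  obtain ⟨a, rfl⟩ := Submodule.mem_span_singleton.1 hd
  simp only [(hs D).add_left, (hs D).smul_left, sub_right (hs D), smul_right (hs D), D.invol,
    hz u hu, hy' u, hlU u hu, hwy]
  ring

/-- A matrix commuting with enough of `SU` is scalar. -/
theorem center_scalar (hn : 3 ≤ n) {z : SU n F q} (hz : z ∈ Subgroup.center (SU n F q)) :
    ∃ c : F, c ≠ 0 ∧ ∀ v, z.1.1 *ᵥ v = c • v := by
  classical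
  obtain ⟨γ, hγ⟩ := IsCyclic.exists_generator (α := Fˣ)
  set δ : F := ((γ ^ (q - 1) : Fˣ) : F) with hδ
  have hq2 := D.two_le
  have hord : orderOf γ = q ^ 2 - 1 := by
    rw [orderOf_eq_card_of_forall_mem_zpowers hγ, Nat.card_units, Nat.card_eq_fintype_card, D.card]
  have hpow : ∀ k, δ ^ k = 1 ↔ q ^ 2 - 1 ∣ (q - 1) * k := fun k => by
    rw [hδ, ← Units.val_pow_eq_pow_val, Units.val_eq_one, ← pow_mul, ← orderOf_dvd_iff_pow_eq_one, hord]
  have hsq : q ^ 2 - 1 = (q - 1) * (q + 1) := by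
    rw [mul_comm]; simpa using Nat.sq_sub_sq q 1
  have hδn : δ * δ ^ q = 1 := by
    rw [← pow_succ', hpow, hsq]
  have hδ0 : δ ≠ 0 := Units.ne_zero _
  have hδ2 : δ * δ ≠ 1 := by
    rw [← pow_two, Ne, hpow, hsq]
    intro h
    have h2 := Nat.dvd_of_mul_dvd_mul_left (by omega) h
    have := Nat.le_of_dvd two_pos h2
    omega
  have hδ1 : δ ≠ 1 := fun e => hδ2 (by rw [e, mul_one])
  have hoff : ∀ i j, i ≠ j → z.1.1 i j = 0 := by
    intro i j hij
    obtain ⟨k, hki, hkj⟩ := exists_third hn i j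
    set d : Fin n → F := fun l => if l = i then δ else if l = k then δ⁻¹ else 1
    have hd : ∀ l, d l * d l ^ q = 1 := fun l => by
      simp only [d]
      split_ifs
      · exact hδn
      · rw [inv_pow, ← mul_inv, hδn, inv_one]
      · rw [one_pow, mul_one]
    obtain ⟨g, hg⟩ := exists_su (isU_diagonal hd) (by
      rw [det_diagonal, Finset.prod_eq_mul i k hki.symm
        (fun l _ hl => by simp [d, hl.1, hl.2]) (by simp) (by simp)]
      simp [d, hki, hδ0])
    have hc := congrArg (fun x : SU n F q => x.1.1 i j) (Subgroup.mem_center_iff.1 hz g)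
    simp only [su_mul_coe, hg, diagonal_mul, mul_diagonal] at hc
    have : d i ≠ d j := by simp [d, hij.symm, hkj.symm, hδ1]
    exact mul_left_cancel₀ (sub_ne_zero.2 this) (by linear_combination hc)
  have hdiag : ∀ i j, z.1.1 i i = z.1.1 j j := by
    intro i j
    by_cases hij : i = j
    · rw [hij]
    obtain ⟨k, hki, hkj⟩ := exists_third hn i j
    set e : Equiv.Perm (Fin n) := Equiv.swap i k * Equiv.swap i j
    have hsign : Equiv.Perm.sign e = 1 := by
      rw [map_mul, Equiv.Perm.sign_swap hki.symm, Equiv.Perm.sign_swap hij, neg_mul_neg, one_mul]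
    obtain ⟨g, hg⟩ := exists_su (q := q) (isU_perm (F := F) e) (by
      rw [Matrix.det_permutation, hsign]; simp)
    have hei : e i = j := by
      simp [e, Equiv.swap_apply_left, Equiv.swap_apply_of_ne_of_ne (Ne.symm hij) hkj.symm]
    have hc := congrArg (fun x : SU n F q => x.1.1 i j) (Subgroup.mem_center_iff.1 hz g)
    simp only [su_mul_coe, hg] at hc
    rw [Matrix.mul_apply, Matrix.mul_apply, Finset.sum_eq_single j, Finset.sum_eq_single i] at hc
    · simpa [Equiv.Perm.permMatrix, PEquiv.toMatrix_apply, hei, eq_comm] using hc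
    · intro b _ hb; rw [hoff i b (Ne.symm hb), zero_mul]
    · simp
    · intro b _ hb; rw [hoff b j hb, mul_zero]
    · simp
  have h0 : 0 < n := by omega
  have hzd : z.1.1 = diagonal fun _ => z.1.1 ⟨0, h0⟩ ⟨0, h0⟩ := by
    ext i j
    by_cases hij : i = j
    · subst hij; rw [diagonal_apply_eq, hdiag]
    · rw [diagonal_apply_ne _ hij, hoff i j hij]
  refine ⟨z.1.1 ⟨0, h0⟩ ⟨0, h0⟩, fun e => ?_, fun v => ?_⟩
  · have hd : z.1.1.det = 1 := z.1.2
    rw [hzd, det_diagonal, e, Finset.prod_const, Finset.card_univ, Fintype.card_fin,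
      zero_pow (by omega)] at hd
    exact zero_ne_one hd
  · conv_lhs => rw [hzd]
    funext i
    rw [mulVec_diagonal, Pi.smul_apply, smul_eq_mul]
where
  exists_third {n : ℕ} (hn : 3 ≤ n) (i j : Fin n) : ∃ k : Fin n, k ≠ i ∧ k ≠ j := by
    classical
    by_contra h
    push Not at h
    have h2 : (Finset.univ : Finset (Fin n)) ⊆ {i, j} := fun k _ => by
      by_cases hk : k = i
      · simp [hk]
      · simp [h k hk]
    have h3 := (Finset.card_le_card h2).trans Finset.card_le_two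
    simp at h3
    omega

end CfsgLib.TwoCover.Unitary
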