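import Mathlib

/-!
Tools for matrices annihilated by an irreducible polynomial over a finite field.
-/

set_option autoImplicit false

namespace CfsgLib.TwoCover

open Polynomial Matrix

variable {F : Type*} [Field F]

/-- Evaluation of `F[X]/(f)` at a matrix killed by `f`. -/
noncomputable def evalHom {n : Type*} [Fintype n] [DecidableEq n] {f : F[X]} (M : Matrix n n F)
    (hM : aeval M f = 0) : AdjoinRoot f →ₐ[F] Matrix n n F :=
  (Algebra.adjoin F {M}).val.comp (AdjoinRoot.liftAlgHom f (Algebra.ofId F (Algebra.adjoin F {M}))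
    ⟨M, Algebra.self_mem_adjoin_singleton F M⟩ (Subtype.ext (by
      have h2 := (aeval_algHom_apply (Algebra.adjoin F {M}).val
        (⟨M, Algebra.self_mem_adjoin_singleton F M⟩ : Algebra.adjoin F {M}) f).symm.trans hM
      simpa [← Polynomial.aeval_def] using h2)))

theorem evalHom_root {n : Type*} [Fintype n] [DecidableEq n] {f : F[X]} (M : Matrix n n F)
    (hM : aeval M f = 0) : evalHom M hM (AdjoinRoot.root f) = M := by
  simp [evalHom]

variable [Fintype F]

/-- A power of `q` with `q` a power of the characteristic commutes with evaluation. -/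
theorem pow_aeval {p e q : ℕ} [Fact p.Prime] [CharP F p] (hq : q = p ^ e) (φ : F →+* F)
    (hφ : ∀ a, φ a = a ^ q) {R : Type*} [CommRing R] [Algebra F R] [Nontrivial R] (r : F[X]) (w : R) :
    (aeval w r) ^ q = aeval (w ^ q) (r.map φ) := by
  haveI : CharP R p := charP_of_injective_algebraMap' F p
  haveI : ExpChar R p := ExpChar.prime (Fact.out)
  have hΦ : ∀ x : R, iterateFrobenius R p e x = x ^ q := fun x => by rw [iterateFrobenius_def, hq]
  have hcomp : (iterateFrobenius R p e).comp (algebraMap F R) = (algebraMap F R).comp φ :=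
    RingHom.ext fun c => by rw [RingHom.comp_apply, RingHom.comp_apply, hΦ, hφ, map_pow]
  rw [← hΦ, aeval_def, hom_eval₂, hcomp, hΦ, aeval_def, eval₂_map]

theorem exists_prime_pow_of_sq {p q : ℕ} [Fact p.Prime] [CharP F p] (hq : Fintype.card F = q ^ 2) :
    ∃ e, q = p ^ e := by
  obtain ⟨k, hpp, hk⟩ := FiniteField.card F p
  have hdvd : q ∣ p ^ (k : ℕ) := by
    rw [← hk, hq]; exact dvd_pow_self q two_ne_zero
  obtain ⟨e, -, rfl⟩ := (Nat.dvd_prime_pow hpp).1 hdvd
  exact ⟨e, rfl⟩

theorem card_adjoinRoot {f : F[X]} (hf : Irreducible f) :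
    Nat.card (AdjoinRoot f) = Fintype.card F ^ f.natDegree := by
  haveI : Module.Finite F (AdjoinRoot f) := (AdjoinRoot.powerBasis hf.ne_zero).finite
  rw [Module.natCard_eq_pow_finrank (K := F) (V := AdjoinRoot f),
    (AdjoinRoot.powerBasis hf.ne_zero).finrank, AdjoinRoot.powerBasis_dim, Nat.card_eq_fintype_card]

theorem pow_card_adjoinRoot {f : F[X]} [hf : Fact (Irreducible f)] (z : AdjoinRoot f) :
    z ^ (Fintype.card F ^ f.natDegree) = z := by
  haveI : Module.Finite F (AdjoinRoot f) := (AdjoinRoot.powerBasis hf.out.ne_zero).finite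
  haveI : Finite (AdjoinRoot f) := Module.finite_of_finite F
  haveI := Fintype.ofFinite (AdjoinRoot f)
  rw [← card_adjoinRoot hf.out, Nat.card_eq_fintype_card, FiniteField.pow_card]

/-- The fixed field of `x ↦ x ^ |F|`. -/
theorem mem_range_of_pow_card {L : Type*} [Field L] [Algebra F L] {z : L}
    (hz : z ^ Fintype.card F = z) : ∃ c : F, algebraMap F L c = z := by
  classical
  have hroots : ((X ^ Fintype.card F - X : F[X]).map (algebraMap F L)).roots =
      (Finset.univ : Finset F).val.map (algebraMap F L) := by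
    rw [Polynomial.Splits.roots_map (by
      exact Polynomial.splits_iff_card_roots.2 (by
        rw [FiniteField.roots_X_pow_card_sub_X, FiniteField.X_pow_card_sub_X_natDegree_eq F Fintype.one_lt_card]
        rfl)), FiniteField.roots_X_pow_card_sub_X]
  have hmem : z ∈ ((X ^ Fintype.card F - X : F[X]).map (algebraMap F L)).roots := by
    rw [mem_roots (Polynomial.map_ne_zero (FiniteField.X_pow_card_sub_X_ne_zero F Fintype.one_lt_card))]
    simp [hz]
  rw [hroots, Multiset.mem_map] at hmem
  obtain ⟨c, -, hc⟩ := hmem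
  exact ⟨c, hc⟩

end CfsgLib.TwoCover
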