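import Mathlib

/-!
Coverings by two conjugacy classes of subgroups: passage to quotients, roots of a fixed
irreducible polynomial in commutative finite algebras.
-/

set_option autoImplicit false

namespace CfsgLib.TwoCover

open Polynomial

/-- A group covered by the conjugates of two proper subgroups. -/
theorem quotient_cover {G : Type*} [Group G] (Z : Subgroup G) [Z.Normal] (H K : Subgroup G)
    (hH : Z ≤ H) (hK : Z ≤ K) (hH1 : H ≠ ⊤) (hK1 : K ≠ ⊤)
    (hcov : ∀ g : G, ∃ x : G, x * g * x⁻¹ ∈ H ∨ x * g * x⁻¹ ∈ K) :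
    ∃ H' K' : Subgroup (G ⧸ Z), H' ≠ ⊤ ∧ K' ≠ ⊤ ∧
      ∀ g : G ⧸ Z, ∃ x : G ⧸ Z, x * g * x⁻¹ ∈ H' ∨ x * g * x⁻¹ ∈ K' := by
  have hne : ∀ S : Subgroup G, Z ≤ S → S ≠ ⊤ → S.map (QuotientGroup.mk' Z) ≠ ⊤ := fun S hS hS1 h => by
    refine hS1 ?_
    rw [← Subgroup.comap_map_eq_self (f := QuotientGroup.mk' Z) (H := S)
      (by rwa [QuotientGroup.ker_mk']), h, Subgroup.comap_top]
  refine ⟨H.map (QuotientGroup.mk' Z), K.map (QuotientGroup.mk' Z), hne H hH hH1, hne K hK hK1,
    fun g => ?_⟩
  obtain ⟨g, rfl⟩ := QuotientGroup.mk'_surjective Z g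
  obtain ⟨x, hx⟩ := hcov g
  refine ⟨QuotientGroup.mk' Z x, hx.imp ?_ ?_⟩ <;>
    intro h <;> simpa only [map_mul, map_inv] using Subgroup.mem_map_of_mem (QuotientGroup.mk' Z) h

section Roots

variable {F : Type*} [Field F] [Fintype F]

/-- An irreducible polynomial has a root in every finite extension of degree divisible by its own. -/
theorem exists_root_of_dvd_finrank {L : Type*} [Field L] [Algebra F L] [Finite L] {f : F[X]}
    (hf : Irreducible f) (hd : f.natDegree ∣ Module.finrank F L) : ∃ x : L, aeval x f = 0 := by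
  haveI := Fintype.ofFinite L
  haveI : Module.Finite F L := Module.Finite.of_finite
  have hdvd : f ∣ X ^ Fintype.card L - X := by
    have := (Irreducible.natDegree_dvd_iff_dvd_X_pow_card_pow_sub_X (hi := hf)).1 hd
    rwa [Module.card_eq_pow_finrank (K := F) (V := L), ← Nat.card_eq_fintype_card]
  have hs : ((X ^ Fintype.card L - X : F[X]).map (algebraMap F L)).Splits :=
    Polynomial.IsSplittingField.splits L (X ^ Fintype.card L - X : F[X])
  have hne : (X ^ Fintype.card L - X : F[X]).map (algebraMap F L) ≠ 0 :=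
    Polynomial.map_ne_zero (FiniteField.X_pow_card_sub_X_ne_zero F Fintype.one_lt_card)
  have hs2 := Splits.of_dvd hs hne (Polynomial.map_dvd (algebraMap F L) hdvd)
  obtain ⟨x, hx⟩ := hs2.exists_eval_eq_zero (by
    rw [degree_map, degree_eq_natDegree hf.ne_zero]
    exact_mod_cast (hf.natDegree_pos).ne')
  exact ⟨x, by rwa [aeval_def, ← eval_map]⟩

/-- Roots modulo all maximal ideals give a root. -/
theorem exists_root_of_residue {R : Type*} [CommRing R] [Algebra F R] [Finite R] (f : F[X])
    (h : ∀ m : Ideal R, m.IsMaximal → ∃ x : R, aeval x f ∈ m) : ∃ y : R, aeval y f = 0 := by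
  classical
  choose x hx using fun m : MaximalSpectrum R => h m.asIdeal m.isMaximal
  haveI : Finite (MaximalSpectrum R) :=
    Finite.of_injective (fun m : MaximalSpectrum R => (m.asIdeal : Set R)) fun a b hab => by
      ext1; exact SetLike.coe_injective hab
  obtain ⟨r, hr⟩ := Ideal.exists_forall_sub_mem_ideal (I := fun m : MaximalSpectrum R => m.asIdeal)
    (fun a b hab => Ideal.isCoprime_iff_sup_eq.2 (a.isMaximal.coprime_of_ne b.isMaximal
      fun he => hab (MaximalSpectrum.ext he))) x
  have hnil : IsNilpotent (aeval r f) := nilpotent_iff_mem_prime.2 fun J hJ => by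
    haveI := hJ
    have hJm : J.IsMaximal := IsArtinianRing.isMaximal_of_isPrime J
    have h1 : (Ideal.Quotient.mkₐ F J) r = Ideal.Quotient.mkₐ F J (x ⟨J, hJm⟩) := by
      rw [Ideal.Quotient.mkₐ_eq_mk, Ideal.Quotient.eq]; exact hr ⟨J, hJm⟩
    rw [← Ideal.Quotient.eq_zero_iff_mem, ← Ideal.Quotient.mkₐ_eq_mk F, ← aeval_algHom_apply, h1,
      aeval_algHom_apply, Ideal.Quotient.mkₐ_eq_mk, Ideal.Quotient.eq_zero_iff_mem]
    exact hx ⟨J, hJm⟩
  obtain ⟨k, hk⟩ := hnil
  refine ⟨((FiniteField.frobeniusAlgHom F R) ^ k) r, ?_⟩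
  rw [aeval_algHom_apply]
  have hiter : ∀ (j : ℕ) (z : R), ((FiniteField.frobeniusAlgHom F R) ^ j) z = z ^ Fintype.card F ^ j := by
    intro j
    induction j with
    | zero => intro z; simp
    | succ j ih =>
      intro z
      rw [pow_succ, AlgHom.mul_apply, ih, FiniteField.coe_frobeniusAlgHom, ← pow_mul, pow_succ']
  rw [hiter]
  exact pow_eq_zero_of_le (Nat.lt_pow_self Fintype.one_lt_card).le hk

/-- A polynomial expression of `g` which is a root of `f`. -/
theorem exists_root_adjoin {A : Type*} [Ring A] [Algebra F A] [Finite A] (g : A) {f : F[X]}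
    (hf : Irreducible f)
    (h : ∀ p : F[X], Irreducible p → p ∣ minpoly F g → f.natDegree ∣ p.natDegree) :
    ∃ J ∈ Algebra.adjoin F {g}, aeval J f = 0 := by
  haveI : Module.Finite F A := Module.Finite.of_finite
  have hint : IsIntegral F g := IsIntegral.of_finite F g
  haveI : Finite (AdjoinRoot (minpoly F g)) :=
    haveI := (AdjoinRoot.powerBasis (minpoly.ne_zero hint)).finite
    Module.finite_of_finite F
  obtain ⟨y, hy⟩ := exists_root_of_residue (R := AdjoinRoot (minpoly F g)) f fun m hm => by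
    haveI := hm
    letI : Field (AdjoinRoot (minpoly F g) ⧸ m) := Ideal.Quotient.field m
    haveI : Finite (AdjoinRoot (minpoly F g) ⧸ m) := Quotient.finite _
    haveI : Module.Finite F (AdjoinRoot (minpoly F g) ⧸ m) := Module.Finite.of_finite
    set π := Ideal.Quotient.mkₐ F m
    set α := π (AdjoinRoot.root (minpoly F g)) with hα
    have hroot : aeval α (minpoly F g) = 0 := by
      rw [hα, aeval_algHom_apply]
      simp [AdjoinRoot.aeval_eq]
    have htop : Algebra.adjoin F {α} = ⊤ := by
      rw [eq_top_iff]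
      rintro z -
      obtain ⟨z, rfl⟩ := Ideal.Quotient.mkₐ_surjective F m z
      induction z using AdjoinRoot.induction_on with
      | _ q =>
        rw [← AdjoinRoot.aeval_eq, ← aeval_algHom_apply]
        exact Polynomial.aeval_mem_adjoin_singleton F α
    have hαint : IsIntegral F α := IsIntegral.of_finite F α
    have hfr : Module.finrank F (AdjoinRoot (minpoly F g) ⧸ m) = (minpoly F α).natDegree := by
      rw [← PowerBasis.finrank (Algebra.adjoin.powerBasis hαint) |>.trans
        (Algebra.adjoin.powerBasis_dim hαint), htop]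
      exact (Subalgebra.topEquiv.toLinearEquiv.finrank_eq).symm
    obtain ⟨x, hx⟩ := exists_root_of_dvd_finrank (L := AdjoinRoot (minpoly F g) ⧸ m) hf
      (hfr ▸ h _ (minpoly.irreducible hαint) (minpoly.dvd F α hroot))
    obtain ⟨x, rfl⟩ := Ideal.Quotient.mkₐ_surjective F m x
    refine ⟨x, ?_⟩
    rw [aeval_algHom_apply] at hx
    exact Ideal.Quotient.eq_zero_iff_mem.1 hx
  refine ⟨AdjoinRoot.liftAlgHom (minpoly F g) (Algebra.ofId F (Algebra.adjoin F {g}))
    ⟨g, Algebra.self_mem_adjoin_singleton F g⟩ ?_ y |>.1, Subtype.prop _, ?_⟩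
  · refine Subtype.ext ?_
    have := minpoly.aeval F g
    simpa [← Polynomial.aeval_def] using
      (Polynomial.aeval_algHom_apply (Algebra.adjoin F {g}).val
        (⟨g, Algebra.self_mem_adjoin_singleton F g⟩ : Algebra.adjoin F {g}) (minpoly F g)).symm.trans this
  · show aeval ((Algebra.adjoin F {g}).val _) f = 0
    rw [aeval_algHom_apply, aeval_algHom_apply, hy, map_zero, map_zero]

end Roots

end CfsgLib.TwoCover
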