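import Mathlib
import Cfsg.Prelude.Def_Classical
import Cfsg.Agent.Lib.TwoCover.Basic
import Cfsg.Agent.Lib.Forms.Witt
import Cfsg.Agent.Lib.Forms.Classify
import Cfsg.Agent.Lib.ClassicalMax.UnitStd
import Cfsg.Agent.Lib.Conj.Unitary
import Cfsg.Agent.Lib.Semisimple.Unitary

/-!
Hermitian spaces over finite fields: isometries without invariant subspaces exist only in odd
dimension; adjoints inside a field generated by an isometry.
-/

set_option autoImplicit false

namespace CfsgLib.TwoCover.Herm

open Polynomial Module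

variable {F : Type*} [Field F] {σ : F →+* F} {V : Type*} [AddCommGroup V] [Module F V]
  {B : V → V → F}

/-- A nondegenerate hermitian form, linear in the first variable. -/
structure HS (σ : F →+* F) (B : V → V → F) : Prop where
  add_left : ∀ x y v, B (x + y) v = B x v + B y v
  smul_left : ∀ (c : F) x v, B (c • x) v = c * B x v
  herm : ∀ x y, B x y = σ (B y x)
  nondeg : ∀ x, (∀ y, B x y = 0) → x = 0

variable (h : HS σ B)

include h

theorem add_right (v x y : V) : B v (x + y) = B v x + B v y := by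
  rw [h.herm, h.add_left, map_add, ← h.herm, ← h.herm]

theorem smul_right (c : F) (v x : V) : B v (c • x) = σ c * B v x := by
  rw [h.herm, h.smul_left, map_mul, ← h.herm]

theorem zero_left (v : V) : B 0 v = 0 := by rw [← zero_smul F (0 : V), h.smul_left, zero_mul]

theorem zero_right (v : V) : B v 0 = 0 := by rw [h.herm, zero_left h, map_zero]

theorem sub_left (x y v : V) : B (x - y) v = B x v - B y v := by
  rw [sub_eq_add_neg, ← neg_one_smul F y, h.add_left, h.smul_left]; ring

theorem sub_right (v x y : V) : B v (x - y) = B v x - B v y := by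
  rw [sub_eq_add_neg, ← neg_one_smul F y, add_right h, smul_right h, map_neg, map_one]; ring

theorem eq_zero_comm {x y : V} (he : B x y = 0) : B y x = 0 := by rw [h.herm, he, map_zero]

/-- `x ↦ B x v`. -/
def lft (v : V) : V →ₗ[F] F where
  toFun x := B x v
  map_add' x y := h.add_left x y v
  map_smul' c x := by rw [h.smul_left, RingHom.id_apply, smul_eq_mul]

theorem lft_apply (v x : V) : lft h v x = B x v := rfl

theorem ext_right {a b : V} (he : ∀ x, B x a = B x b) : a = b := by
  refine sub_eq_zero.1 (h.nondeg _ fun y => eq_zero_comm h ?_)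
  rw [sub_right h, he, sub_self]

omit h in
theorem natDegree_eq_of_cyclic [FiniteDimensional F V] {m : F[X]} [Fact (Irreducible m)]
    (ψ : AdjoinRoot m →ₐ[F] Module.End F V) {v : V} (hv : v ≠ 0)
    (hno : ∀ U : Submodule F V, (∀ u ∈ U, ψ (AdjoinRoot.root m) u ∈ U) → U = ⊥ ∨ U = ⊤) :
    finrank F V = m.natDegree := by
  let l : AdjoinRoot m →ₗ[F] V := (LinearMap.applyₗ (R := F) v).comp ψ.toLinearMap
  have hinj : Function.Injective l := by
    rw [← LinearMap.ker_eq_bot, LinearMap.ker_eq_bot']
    intro z hz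
    by_contra h0
    have h2 : ψ z⁻¹ (ψ z v) = v := by
      rw [← Module.End.mul_apply, ← map_mul, inv_mul_cancel₀ h0, map_one, Module.End.one_apply]
    rw [show ψ z v = 0 from hz, map_zero] at h2
    exact hv h2.symm
  have hne : LinearMap.range l ≠ ⊥ := fun hb => hv (by
    have hmem : l 1 ∈ LinearMap.range l := LinearMap.mem_range_self l 1
    rw [hb, Submodule.mem_bot] at hmem
    simpa [l] using hmem)
  have htop := (hno (LinearMap.range l) (by
    rintro u ⟨z, rfl⟩
    refine ⟨AdjoinRoot.root m * z, ?_⟩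
    show ψ (AdjoinRoot.root m * z) v = ψ (AdjoinRoot.root m) (ψ z v)
    rw [map_mul, Module.End.mul_apply])).resolve_left hne
  have he := (LinearEquiv.ofBijective l ⟨hinj, LinearMap.range_eq_top.1 htop⟩).finrank_eq
  have hm0 : m ≠ 0 := (Fact.out : Irreducible m).ne_zero
  rw [← he, (AdjoinRoot.powerBasis hm0).finrank, AdjoinRoot.powerBasis_dim]

variable [Fintype F] {q : ℕ}

/-- An isometry without invariant subspaces: the dimension is odd; if it is `3`, the adjoint of
`p(T)` is `p(T) ^ (q ^ 3)`. -/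
theorem irred_facts [FiniteDimensional F V] [Nontrivial V] (hq : Fintype.card F = q ^ 2)
    (hσ : ∀ a, σ a = a ^ q) (hσ2 : ∀ a, σ (σ a) = a) (T : Module.End F V)
    (hT : ∀ x y, B (T x) (T y) = B x y)
    (hno : ∀ U : Submodule F V, (∀ u ∈ U, T u ∈ U) → U = ⊥ ∨ U = ⊤) :
    Odd (finrank F V) ∧ (minpoly F T).natDegree = finrank F V ∧ Irreducible (minpoly F T) ∧
      (finrank F V = 3 → ∀ J ∈ Algebra.adjoin F {T}, ∀ x y, B (J x) y = B x ((J ^ q ^ 3) y)) := by
  haveI : Finite V := Module.finite_of_finite F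
  haveI : Finite (Module.End F V) := Module.finite_of_finite F
  have hinj : Function.Injective T := by
    rw [← LinearMap.ker_eq_bot, LinearMap.ker_eq_bot']
    intro x hx
    exact h.nondeg x fun y => by rw [← hT, hx, zero_left h]
  let Te := LinearEquiv.ofBijective T ⟨hinj, Finite.surjective_of_injective hinj⟩
  set S : Module.End F V := Te.symm.toLinearMap with hS
  have hTS : T * S = 1 := by ext x; exact Te.apply_symm_apply x
  have hadjk : ∀ (k : ℕ) x y, B ((T ^ k) x) y = B x ((S ^ k) y) := by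
    intro k
    induction k with
    | zero => intro x y; rfl
    | succ k ih =>
      intro x y
      rw [pow_succ, pow_succ', Module.End.mul_apply, Module.End.mul_apply, ih]
      conv_lhs => rw [← show T (S ((S ^ k) y)) = (S ^ k) y from
        LinearMap.congr_fun hTS _]
      rw [hT]
  have hadj : ∀ (p : F[X]) x y, B (aeval T p x) y = B x (aeval S (p.map σ) y) := by
    intro p
    induction p using Polynomial.induction_on' with
    | add p r hp hr =>
      intro x y
      simp only [map_add, Polynomial.map_add, LinearMap.add_apply, h.add_left, add_right h, hp, hr]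
    | monomial k c =>
      intro x y
      rw [map_monomial, aeval_monomial, aeval_monomial, ← Algebra.smul_def, ← Algebra.smul_def,
        LinearMap.smul_apply, LinearMap.smul_apply, h.smul_left, smul_right h, hσ2, hadjk]
  have hint : IsIntegral F T := IsIntegral.of_finite F T
  set m := minpoly F T with hm
  have hm0 : m ≠ 0 := minpoly.ne_zero hint
  have hirr : Irreducible m := by
    refine ⟨minpoly.not_isUnit F T, fun a b hab => ?_⟩
    by_contra hu
    push Not at hu
    have hdeg : m.natDegree = a.natDegree + b.natDegree := by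
      rw [hab, natDegree_mul (fun e => hm0 (by rw [hab, e, zero_mul]))
        (fun e => hm0 (by rw [hab, e, mul_zero]))]
    have hb0 : 0 < b.natDegree := by
      refine Nat.pos_of_ne_zero fun e => hu.2 ?_
      rw [isUnit_iff_degree_eq_zero, degree_eq_natDegree (fun e2 => hm0 (by rw [hab, e2, mul_zero])), e]
      rfl
    have ha0 : 0 < a.natDegree := by
      refine Nat.pos_of_ne_zero fun e => hu.1 ?_
      rw [isUnit_iff_degree_eq_zero, degree_eq_natDegree (fun e2 => hm0 (by rw [hab, e2, zero_mul])), e]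
      rfl
    have ha : aeval T a ≠ 0 := fun e => by
      have h2 := natDegree_le_of_dvd (minpoly.dvd F T e) (fun e2 => hm0 (by rw [hab, e2, zero_mul]))
      rw [← hm] at h2; omega
    have hb : aeval T b ≠ 0 := fun e => by
      have h2 := natDegree_le_of_dvd (minpoly.dvd F T e) (fun e2 => hm0 (by rw [hab, e2, mul_zero]))
      rw [← hm] at h2; omega
    rcases hno (LinearMap.ker (aeval T a)) (fun u hu' => by
      rw [LinearMap.mem_ker] at hu' ⊢
      have hc : aeval T a * T = T * aeval T a :=
        (Algebra.commute_of_mem_adjoin_singleton_of_commute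
          (Polynomial.aeval_mem_adjoin_singleton F T) (Commute.refl T)).symm.eq
      rw [← Module.End.mul_apply, hc, Module.End.mul_apply, hu', map_zero]) with h1 | h1
    · refine hb (LinearMap.ext fun u => ?_)
      have h2 : aeval T b u ∈ LinearMap.ker (aeval T a) := by
        rw [LinearMap.mem_ker, ← Module.End.mul_apply, ← map_mul, ← hab, hm, minpoly.aeval]; rfl
      rw [h1, Submodule.mem_bot] at h2
      exact h2
    · exact ha (LinearMap.ker_eq_top.1 h1)
  haveI := Fact.mk hirr
  haveI : Module.Finite F (AdjoinRoot m) := (AdjoinRoot.powerBasis hm0).finite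
  haveI : Finite (AdjoinRoot m) := Module.finite_of_finite F
  set α := AdjoinRoot.root m with hα
  let ψ : AdjoinRoot m →ₐ[F] Module.End F V := (Algebra.adjoin F {T}).val.comp
    (AdjoinRoot.liftAlgHom m (Algebra.ofId F (Algebra.adjoin F {T}))
      ⟨T, Algebra.self_mem_adjoin_singleton F T⟩ (Subtype.ext (by
        have h2 := (aeval_algHom_apply (Algebra.adjoin F {T}).val
          (⟨T, Algebra.self_mem_adjoin_singleton F T⟩ : Algebra.adjoin F {T}) m).symm.trans
            (minpoly.aeval F T)
        simpa [← Polynomial.aeval_def] using h2)))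
  have hψ : ψ α = T := by simp [ψ, hα]
  have hα0 : α ≠ 0 := fun e => by
    obtain ⟨v, hv⟩ := exists_ne (0 : V)
    exact hv (hinj (by rw [map_zero, ← hψ, e, map_zero]; rfl))
  have hψS : ψ α⁻¹ = S := by
    have h1 : S * T = 1 := by ext x; exact Te.symm_apply_apply x
    calc ψ α⁻¹ = S * T * ψ α⁻¹ := by rw [h1, one_mul]
      _ = S * ψ (α * α⁻¹) := by rw [map_mul, hψ, mul_assoc]
      _ = S := by rw [mul_inv_cancel₀ hα0, map_one, mul_one]
  obtain ⟨v, hv⟩ := exists_ne (0 : V)
  have hfr : finrank F V = m.natDegree :=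
    natDegree_eq_of_cyclic ψ hv (by rw [← hα, hψ]; exact hno)
  -- the conjugate reciprocal of `α` is again a root
  obtain ⟨p, hp⟩ := CharP.exists F
  haveI : Fact p.Prime := ⟨CharP.char_is_prime F p⟩
  haveI : CharP (AdjoinRoot m) p := charP_of_injective_algebraMap (algebraMap F (AdjoinRoot m)).injective p
  obtain ⟨e, -, he⟩ : ∃ e, e ≤ 2 * Fintype.card F ∧ q = p ^ e := by
    obtain ⟨k, hpp, hk⟩ := FiniteField.card F p
    have hdvd : q ∣ p ^ (k : ℕ) := by
      rw [← hk, hq]; exact dvd_pow_self q two_ne_zero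
    obtain ⟨e, he, rfl⟩ := (Nat.dvd_prime_pow hpp).1 hdvd
    refine ⟨e, ?_, rfl⟩
    have := Nat.lt_pow_self hpp.one_lt (n := (k : ℕ))
    omega
  set Φ : AdjoinRoot m →+* AdjoinRoot m := iterateFrobenius (AdjoinRoot m) p e with hΦdef
  have hΦ : ∀ x, Φ x = x ^ q := fun x => by rw [hΦdef, iterateFrobenius_def, he]
  have hcomp : Φ.comp (algebraMap F (AdjoinRoot m)) = (algebraMap F (AdjoinRoot m)).comp σ :=
    RingHom.ext fun c => by rw [RingHom.comp_apply, RingHom.comp_apply, hΦ, hσ, map_pow]
  have hΦaeval : ∀ (r : F[X]) (w : AdjoinRoot m), (aeval w r) ^ q = aeval (w ^ q) (r.map σ) := by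
    intro r w
    rw [← hΦ, aeval_def, hom_eval₂, hcomp, hΦ, aeval_def, eval₂_map]
  have hroot : aeval α⁻¹ (m.map σ) = 0 := by
    refine (ψ : AdjoinRoot m →+* Module.End F V).injective ?_
    show ψ (aeval α⁻¹ (m.map σ)) = ψ 0
    rw [← aeval_algHom_apply, hψS, map_zero]
    refine LinearMap.ext fun y => ext_right h fun x => ?_
    rw [LinearMap.zero_apply, zero_right h, ← hadj, hm, minpoly.aeval, LinearMap.zero_apply,
      zero_left h]
  obtain ⟨z, hz⟩ := Finite.surjective_of_injective Φ.injective α⁻¹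
  rw [hΦ] at hz
  have hzroot : aeval z m = 0 := by
    have h2 := hΦaeval m z
    rw [hz, hroot] at h2
    exact eq_zero_of_pow_eq_zero h2
  let χ : AdjoinRoot m →ₐ[F] AdjoinRoot m := AdjoinRoot.liftAlgHom m (Algebra.ofId F _) z hzroot
  obtain ⟨⟨j, hj⟩, hχ⟩ := (FiniteField.bijective_frobeniusAlgEquivOfAlgebraic_pow F (AdjoinRoot m)).2
    (AlgEquiv.ofBijective χ (Finite.injective_iff_bijective.1 (χ : AdjoinRoot m →+* AdjoinRoot m).injective))
  have hfrob : ∀ (k : ℕ) (w : AdjoinRoot m),
      (FiniteField.frobeniusAlgEquivOfAlgebraic F (AdjoinRoot m) ^ k) w = w ^ ((q ^ 2) ^ k) := by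
    intro k w
    rw [AlgEquiv.coe_pow, FiniteField.coe_frobeniusAlgEquivOfAlgebraic, pow_iterate, hq]
  have hzj : z = α ^ ((q ^ 2) ^ j) := by
    have := AlgEquiv.congr_fun hχ α
    rw [hfrob] at this
    rw [this]
    exact (AdjoinRoot.lift_root (f := m) (i := algebraMap F (AdjoinRoot m)) (a := z) hzroot).symm
  have hinv : α⁻¹ = α ^ (q ^ (2 * j + 1)) := by
    rw [← hz, hzj, ← pow_mul, ← pow_mul, ← pow_succ]
  have htwo : (FiniteField.frobeniusAlgEquivOfAlgebraic F (AdjoinRoot m) ^ (2 * j + 1)) α = α := by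
    have h1 : α = α⁻¹ ^ (q ^ (2 * j + 1)) := by rw [inv_pow, ← hinv, inv_inv]
    rw [hinv, ← pow_mul, ← pow_add, ← two_mul] at h1
    rw [hfrob, ← pow_mul]
    exact h1.symm
  have hone : FiniteField.frobeniusAlgEquivOfAlgebraic F (AdjoinRoot m) ^ (2 * j + 1) = 1 := by
    refine AlgEquiv.coe_toAlgHom_injective (AdjoinRoot.algHom_ext ?_)
    exact htwo
  have hdvd : finrank F V ∣ 2 * j + 1 := by
    rw [← orderOf_dvd_iff_pow_eq_one, FiniteField.orderOf_frobeniusAlgEquivOfAlgebraic] at hone
    rwa [(AdjoinRoot.powerBasis hm0).finrank, AdjoinRoot.powerBasis_dim, ← hfr] at hone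
  refine ⟨Odd.of_dvd_nat ⟨j, rfl⟩ hdvd, hfr.symm, hirr, ?_⟩
  intro h3 J hJ x y
  rw [h3] at hdvd
  rw [(AdjoinRoot.powerBasis hm0).finrank, AdjoinRoot.powerBasis_dim, ← hfr, h3] at hj
  have hj1 : j = 1 := by omega
  rw [Algebra.adjoin_singleton_eq_range_aeval] at hJ
  obtain ⟨r, rfl⟩ := hJ
  show B (aeval T r x) y = B x (((aeval T r) ^ q ^ 3) y)
  rw [hadj, ← hψS, ← hψ, aeval_algHom_apply, aeval_algHom_apply, ← map_pow]
  congr 2
  have hσ3 : (r.map σ).map σ = r := by
    rw [Polynomial.map_map, show σ.comp σ = RingHom.id F from RingHom.ext hσ2, Polynomial.map_id]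
  have e3 : (aeval α r) ^ q ^ 3 = aeval (α ^ q ^ 3) (r.map σ) := by
    rw [pow_succ q 2, pow_mul, show q ^ 2 = q * q from sq q, pow_mul α (q * q), pow_mul, hΦaeval, hΦaeval, hσ3,
      hΦaeval, pow_mul]
  rw [e3, hinv, hj1]

/-- A two-dimensional hermitian space: every isometry has an eigenvector. -/
theorem exists_eigen_two [FiniteDimensional F V] (h2 : finrank F V = 2) (hq : Fintype.card F = q ^ 2)
    (hσ : ∀ a, σ a = a ^ q) (hσ2 : ∀ a, σ (σ a) = a) (T : Module.End F V)
    (hT : ∀ x y, B (T x) (T y) = B x y) : ∃ u : V, u ≠ 0 ∧ ∃ c : F, T u = c • u := by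
  haveI : Nontrivial V := Module.nontrivial_of_finrank_pos (R := F) (by omega)
  by_contra hcon
  push Not at hcon
  have hno : ∀ U : Submodule F V, (∀ u ∈ U, T u ∈ U) → U = ⊥ ∨ U = ⊤ := by
    intro U hU
    have hle : finrank F U ≤ 2 := h2 ▸ U.finrank_le
    rcases Nat.lt_or_ge (finrank F U) 1 with h0 | h0
    · exact Or.inl (Submodule.finrank_eq_zero.1 (by omega))
    rcases Nat.lt_or_ge (finrank F U) 2 with h1 | h1
    · obtain ⟨u, hu0, hu⟩ := (finrank_eq_one_iff' (K := F) (V := U)).1 (by omega)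
      obtain ⟨c, hc⟩ := hu ⟨T u, hU u u.2⟩
      exact absurd (congrArg Subtype.val hc).symm
        (hcon u (fun e => hu0 (Subtype.ext e)) c)
    · exact Or.inr (Submodule.eq_top_of_finrank_eq (by omega))
  have h1 := (irred_facts h hq hσ hσ2 T hT hno).1
  rw [h2] at h1
  exact absurd h1 (by decide)

end CfsgLib.TwoCover.Herm
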