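import Cfsg.Agent.Lib.TwoCover.Basic
import Cfsg.Agent.Lib.MinIndexPSL.Basic
import Cfsg.Agent.Lib.LinFix.QuadSub

/-!
`PSL_n(q)`, `n = 2, 3, 4`: covered by point stabilisers and the commutant of a field generator.
-/

set_option autoImplicit false

namespace CfsgLib.TwoCover

open Polynomial Matrix

theorem exists_monic_irreducible (F : Type*) [Field F] [Finite F] (d : ℕ) [NeZero d] :
    ∃ f : F[X], f.Monic ∧ Irreducible f ∧ f.natDegree = d := by
  obtain ⟨p, hp⟩ := CharP.exists F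
  haveI : Fact p.Prime := ⟨CharP.char_is_prime F p⟩
  haveI : Module.Finite F (FiniteField.Extension F p d) := Module.Finite.of_finite
  obtain ⟨α, hα⟩ := Field.exists_primitive_element F (FiniteField.Extension F p d)
  have hint : IsIntegral F α := IsIntegral.of_finite F α
  refine ⟨minpoly F α, minpoly.monic hint, minpoly.irreducible hint, ?_⟩
  rw [← IntermediateField.adjoin.finrank hint, hα, IntermediateField.finrank_top',
    FiniteField.finrank_extension]

variable {F : Type*} [Field F] {n : ℕ}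

/-- The stabiliser of a line. -/
def lineStab (v : Fin n → F) : Subgroup (Matrix.SpecialLinearGroup (Fin n) F) where
  carrier := {g | ∃ c : F, c ≠ 0 ∧ g.1 *ᵥ v = c • v}
  one_mem' := ⟨1, one_ne_zero, by simp⟩
  mul_mem' := by
    rintro a b ⟨c, hc0, hc⟩ ⟨d, hd0, hd⟩
    exact ⟨c * d, mul_ne_zero hc0 hd0, by
      rw [Matrix.SpecialLinearGroup.coe_mul, ← mulVec_mulVec, hd, mulVec_smul, hc, smul_smul, mul_comm]⟩
  inv_mem' := by
    rintro a ⟨c, hc0, hc⟩
    refine ⟨c⁻¹, inv_ne_zero hc0, ?_⟩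
    have h2 : (a⁻¹).1 *ᵥ (a.1 *ᵥ v) = v := by
      rw [mulVec_mulVec, ← Matrix.SpecialLinearGroup.coe_mul, inv_mul_cancel, Matrix.SpecialLinearGroup.coe_one,
        one_mulVec]
    rw [hc, mulVec_smul] at h2
    conv_rhs => rw [← h2]
    rw [inv_smul_smul₀ hc0]

/-- The commutant of a matrix. -/
def commStab (J : Matrix (Fin n) (Fin n) F) : Subgroup (Matrix.SpecialLinearGroup (Fin n) F) where
  carrier := {g | g.1 * J = J * g.1}
  one_mem' := by simp
  mul_mem' := by
    intro a b ha hb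
    simp only [Set.mem_setOf_eq, Matrix.SpecialLinearGroup.coe_mul] at *
    rw [Matrix.mul_assoc, hb, ← Matrix.mul_assoc, ha, Matrix.mul_assoc]
  inv_mem' := by
    intro a ha
    simp only [Set.mem_setOf_eq] at *
    have h1 : (a⁻¹).1 * a.1 = 1 := by
      rw [← Matrix.SpecialLinearGroup.coe_mul, inv_mul_cancel, Matrix.SpecialLinearGroup.coe_one]
    have h2 : a.1 * (a⁻¹).1 = 1 := by
      rw [← Matrix.SpecialLinearGroup.coe_mul, mul_inv_cancel, Matrix.SpecialLinearGroup.coe_one]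
    calc (a⁻¹).1 * J = (a⁻¹).1 * J * (a.1 * (a⁻¹).1) := by rw [h2, Matrix.mul_one]
      _ = (a⁻¹).1 * (J * a.1) * (a⁻¹).1 := by simp only [Matrix.mul_assoc]
      _ = J * (a⁻¹).1 := by rw [← ha, ← Matrix.mul_assoc, h1, Matrix.one_mul]

theorem center_le_lineStab [NeZero n] (v : Fin n → F) :
    Subgroup.center (Matrix.SpecialLinearGroup (Fin n) F) ≤ lineStab v := by
  intro z hz
  obtain ⟨r, hr, hz⟩ := Matrix.SpecialLinearGroup.mem_center_iff.1 hz
  refine ⟨r, ?_, by rw [← hz]; simp⟩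
  rintro rfl
  rw [Fintype.card_fin, zero_pow (NeZero.ne n)] at hr
  exact zero_ne_one hr

theorem center_le_commStab (J : Matrix (Fin n) (Fin n) F) :
    Subgroup.center (Matrix.SpecialLinearGroup (Fin n) F) ≤ commStab J := by
  intro z hz
  obtain ⟨r, -, hz⟩ := Matrix.SpecialLinearGroup.mem_center_iff.1 hz
  show z.1 * J = J * z.1
  rw [← hz]
  exact scalar_commute r (Commute.all r) J

theorem lineStab_ne_top (hn : 2 ≤ n) :
    lineStab (Pi.single (⟨0, by omega⟩ : Fin n) (1 : F)) ≠ ⊤ := by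
  haveI : Nontrivial (Fin n) := Fin.nontrivial_iff_two_le.2 hn
  intro h
  obtain ⟨g, hg⟩ := MinIndexPSL.exists_mulVec_eq (n := Fin n) (F := F)
    (v := Pi.single (⟨0, by omega⟩ : Fin n) 1) (w := Pi.single (⟨1, by omega⟩ : Fin n) 1)
    (by simp) (by simp)
  obtain ⟨c, -, hc⟩ := (h ▸ Subgroup.mem_top g : g ∈ lineStab _)
  have := congrFun (hg.symm.trans hc) ⟨1, by omega⟩
  simp [Pi.single_apply] at this

theorem commStab_ne_top {J : Matrix (Fin n) (Fin n) F} {f : F[X]} (hJ : aeval J f = 0) [NeZero n]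
    (hf : ∀ c : F, f.eval c ≠ 0) : commStab J ≠ ⊤ := by
  intro h
  obtain ⟨c, hc⟩ := mem_range_scalar_of_commute_transvectionStruct (M := J)
    fun t => by
      have hm : t.toSpecialLinearGroup ∈ commStab J := by
        rw [h]; exact Subgroup.mem_top _
      exact hm
  refine hf c ?_
  have h2 : aeval (algebraMap F (Matrix (Fin n) (Fin n) F) c) f = 0 := by
    rw [show algebraMap F (Matrix (Fin n) (Fin n) F) c = scalar (Fin n) c from
      Matrix.algebraMap_eq_diagonal c, hc]; exact hJ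
  rw [aeval_algebraMap_apply, map_eq_zero_iff _ (algebraMap F _).injective] at h2
  simpa using h2

/-- Two matrices annihilated by the same irreducible polynomial of degree `n` are conjugate by a
matrix of determinant one. -/
theorem exists_sl_conj_full [Finite F] [NeZero n] {f : F[X]} (hf : Irreducible f)
    (hd : f.natDegree = n) {J D : Matrix (Fin n) (Fin n) F} (hJ : aeval J f = 0)
    (hD : aeval D f = 0) :
    ∃ P : Matrix.SpecialLinearGroup (Fin n) F, D * P.1 = P.1 * J := by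
  classical
  haveI := Fact.mk hf
  haveI : Module.Finite F (AdjoinRoot f) := (AdjoinRoot.powerBasis hf.ne_zero).finite
  haveI : Finite (AdjoinRoot f) := Module.finite_of_finite F
  have hfr : Module.finrank F (AdjoinRoot f) = Module.finrank F (Fin n → F) := by
    rw [(AdjoinRoot.powerBasis hf.ne_zero).finrank, AdjoinRoot.powerBasis_dim, hd,
      Module.finrank_fin_fun]
  set v : Fin n → F := Pi.single 0 1
  let φ : (M : Matrix (Fin n) (Fin n) F) → aeval M f = 0 →
      (AdjoinRoot f →ₐ[F] Matrix (Fin n) (Fin n) F) := fun M hM =>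
    (Algebra.adjoin F {M}).val.comp (AdjoinRoot.liftAlgHom f (Algebra.ofId F (Algebra.adjoin F {M}))
      ⟨M, Algebra.self_mem_adjoin_singleton F M⟩ (Subtype.ext (by
        have h2 := (aeval_algHom_apply (Algebra.adjoin F {M}).val
          (⟨M, Algebra.self_mem_adjoin_singleton F M⟩ : Algebra.adjoin F {M}) f).symm.trans hM
        simpa [← Polynomial.aeval_def] using h2)))
  have he : ∀ (M : Matrix (Fin n) (Fin n) F) (hM : aeval M f = 0),
      ∃ e : AdjoinRoot f ≃ₗ[F] (Fin n → F), ∀ z, e z = φ M hM z *ᵥ v := by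
    intro M hM
    let l : AdjoinRoot f →ₗ[F] (Fin n → F) :=
      { toFun := fun z => φ M hM z *ᵥ v
        map_add' := fun x y => by rw [map_add, add_mulVec]
        map_smul' := fun c x => by rw [map_smul, smul_mulVec, RingHom.id_apply] }
    have hinj : Function.Injective l := by
      rw [← LinearMap.ker_eq_bot, LinearMap.ker_eq_bot']
      intro z hz
      by_contra h0
      have h2 : φ M hM z⁻¹ *ᵥ (φ M hM z *ᵥ v) = v := by
        rw [mulVec_mulVec, ← map_mul, inv_mul_cancel₀ h0, map_one, one_mulVec]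
      rw [show φ M hM z *ᵥ v = 0 from hz, mulVec_zero] at h2
      exact one_ne_zero (α := F) (by simpa [v] using (congrFun h2 0).symm)
    exact ⟨LinearMap.linearEquivOfInjective l hinj hfr, fun z => rfl⟩
  obtain ⟨eJ, heJ⟩ := he J hJ
  obtain ⟨eD, heD⟩ := he D hD
  have hstep : ∀ (M : Matrix (Fin n) (Fin n) F) (hM : aeval M f = 0) (z : AdjoinRoot f),
      M *ᵥ (φ M hM z *ᵥ v) = φ M hM (AdjoinRoot.root f * z) *ᵥ v := fun M hM z => by
    rw [map_mul, ← mulVec_mulVec]
    simp [φ]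
  set P0 : (Fin n → F) →ₗ[F] (Fin n → F) := (eJ.symm.trans eD).toLinearMap
  have h0 : LinearMap.det P0 ≠ 0 := (LinearEquiv.isUnit_det' _).ne_zero
  obtain ⟨z, hz⟩ := FiniteField.norm_surjective F (AdjoinRoot f) (LinearMap.det P0)⁻¹
  set C : (Fin n → F) →ₗ[F] (Fin n → F) :=
    eD.toLinearMap ∘ₗ Algebra.lmul F (AdjoinRoot f) z ∘ₗ eD.symm.toLinearMap
  have hdetC : LinearMap.det C = (LinearMap.det P0)⁻¹ := by
    rw [LinearMap.det_conj, ← Algebra.norm_apply, hz]
  refine ⟨⟨LinearMap.toMatrix' (C ∘ₗ P0), by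
    rw [LinearMap.det_toMatrix', LinearMap.det_comp, hdetC, inv_mul_cancel₀ h0]⟩, ?_⟩
  show D * LinearMap.toMatrix' (C ∘ₗ P0) = LinearMap.toMatrix' (C ∘ₗ P0) * J
  refine Matrix.ext_iff_mulVec.2 fun u => ?_
  obtain ⟨y, rfl⟩ := eJ.surjective u
  rw [← mulVec_mulVec, ← mulVec_mulVec, LinearMap.toMatrix'_mulVec, LinearMap.toMatrix'_mulVec]
  have hJy : J *ᵥ eJ y = eJ (AdjoinRoot.root f * y) := by rw [heJ, heJ, hstep _ hJ]
  have hCP : ∀ w, (C ∘ₗ P0) (eJ w) = eD (z * w) := fun w => by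
    simp [C, P0]
  rw [hJy, hCP, hCP, heD, hstep _ hD, heD]
  congr 2
  ring

variable [Fintype F]

/-- A matrix with a root of `f`. -/
theorem exists_matrix_root [NeZero n] {f : F[X]} (hf : Irreducible f) (hd : f.natDegree ∣ n) :
    ∃ J : Matrix (Fin n) (Fin n) F, aeval J f = 0 := by
  obtain ⟨p, hp⟩ := CharP.exists F
  haveI : Fact p.Prime := ⟨CharP.char_is_prime F p⟩
  haveI : Module.Finite F (FiniteField.Extension F p n) := Module.Finite.of_finite
  obtain ⟨x, hx⟩ := exists_root_of_dvd_finrank (L := FiniteField.Extension F p n) hf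
    (by rwa [FiniteField.finrank_extension])
  let b := Module.finBasisOfFinrankEq F (FiniteField.Extension F p n) (FiniteField.finrank_extension F p n)
  exact ⟨Algebra.leftMulMatrix b x, by rw [aeval_algHom_apply, hx, map_zero]⟩

/-- An element without eigenvectors: degrees of the irreducible factors. -/
theorem eigen_or_root {f : F[X]} (hf : Irreducible f)
    (hdiv : ∀ k, 2 ≤ k → k ≤ n → k + 1 ≠ n → f.natDegree ∣ k) (g : Matrix (Fin n) (Fin n) F) :
    (∃ v : Fin n → F, v ≠ 0 ∧ ∃ c : F, g *ᵥ v = c • v) ∨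
      ∃ J : Matrix (Fin n) (Fin n) F, g * J = J * g ∧ aeval J f = 0 := by
  by_cases hev : ∃ c : F, g.charpoly.eval c = 0
  · left
    obtain ⟨c, hc⟩ := hev
    rw [eval_charpoly] at hc
    obtain ⟨v, hv0, hv⟩ := Matrix.exists_mulVec_eq_zero_iff.2 hc
    refine ⟨v, hv0, c, ?_⟩
    rw [sub_mulVec, sub_eq_zero] at hv
    simp at hv
    exact hv.symm
  right
  push Not at hev
  have hnd : g.charpoly.natDegree = n := by rw [charpoly_natDegree_eq_dim, Fintype.card_fin]
  obtain ⟨J, hJmem, hJ⟩ := exists_root_adjoin g hf fun p hp hpd => by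
    obtain ⟨r, hr⟩ := hpd.trans (Matrix.minpoly_dvd_charpoly g)
    have hr0 : r ≠ 0 := by
      rintro rfl
      exact g.charpoly_monic.ne_zero (by rw [hr, mul_zero])
    have hdeg : p.natDegree + r.natDegree = n := by
      rw [← natDegree_mul hp.ne_zero hr0, ← hr, hnd]
    refine hdiv _ ?_ (by omega) ?_
    · by_contra h
      have : p.natDegree = 1 := by have := hp.natDegree_pos; omega
      obtain ⟨c, hc⟩ := Polynomial.exists_root_of_degree_eq_one
        (p := p) (by rw [degree_eq_natDegree hp.ne_zero, this]; rfl)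
      exact hev c (by rw [hr, eval_mul, hc, zero_mul])
    · intro h
      obtain ⟨c, hc⟩ := Polynomial.exists_root_of_degree_eq_one
        (p := r) (by rw [degree_eq_natDegree hr0, show r.natDegree = 1 by omega]; rfl)
      exact hev c (by rw [hr, eval_mul, hc, mul_zero])
  refine ⟨J, ?_, hJ⟩
  exact ((Algebra.commute_of_mem_adjoin_singleton_of_commute hJmem (Commute.refl g))).eq

theorem sl_cover (hn : 2 ≤ n) {f : F[X]} (hf : Irreducible f) (hd2 : 2 ≤ f.natDegree) (hd : f.natDegree ∣ n)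
    (hdiv : ∀ k, 2 ≤ k → k ≤ n → k + 1 ≠ n → f.natDegree ∣ k)
    (hconj : ∀ J D : Matrix (Fin n) (Fin n) F, aeval J f = 0 → aeval D f = 0 →
      ∃ P : Matrix.SpecialLinearGroup (Fin n) F, D * P.1 = P.1 * J) :
    ∃ H K : Subgroup (Matrix.ProjectiveSpecialLinearGroup (Fin n) F), H ≠ ⊤ ∧ K ≠ ⊤ ∧
      ∀ g : Matrix.ProjectiveSpecialLinearGroup (Fin n) F, ∃ x : Matrix.ProjectiveSpecialLinearGroup (Fin n) F,
        x * g * x⁻¹ ∈ H ∨ x * g * x⁻¹ ∈ K := by
  haveI : NeZero n := ⟨by omega⟩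
  haveI : Nontrivial (Fin n) := Fin.nontrivial_iff_two_le.2 hn
  have hnr : ∀ c : F, f.eval c ≠ 0 := fun c hc => by
    have h1 : f.natDegree = 1 := natDegree_eq_of_degree_eq_some (degree_eq_one_of_irreducible_of_root hf (x := c) hc)
    omega
  obtain ⟨J0, hJ0⟩ := exists_matrix_root (n := n) hf hd
  refine quotient_cover _ (lineStab (Pi.single (⟨0, by omega⟩ : Fin n) (1 : F))) (commStab J0)
    (center_le_lineStab _) (center_le_commStab _) (lineStab_ne_top hn) (commStab_ne_top hJ0 hnr)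
    fun g => ?_
  rcases eigen_or_root hf hdiv g.1 with ⟨v, hv0, c, hc⟩ | ⟨J, hcomm, hJ⟩
  · obtain ⟨x, hx⟩ := MinIndexPSL.exists_mulVec_eq (n := Fin n) (F := F) (v := v)
      (w := Pi.single (⟨0, by omega⟩ : Fin n) 1) hv0 (by simp)
    refine ⟨x, Or.inl ⟨c, ?_, ?_⟩⟩
    · rintro rfl
      rw [zero_smul] at hc
      exact hv0 (Matrix.eq_zero_of_mulVec_eq_zero (by rw [g.2]; exact one_ne_zero) hc)
    · rw [← hx, Matrix.SpecialLinearGroup.coe_mul, Matrix.SpecialLinearGroup.coe_mul, ← mulVec_mulVec,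
        mulVec_mulVec _ (x⁻¹).1 x.1, ← Matrix.SpecialLinearGroup.coe_mul x⁻¹, inv_mul_cancel,
        Matrix.SpecialLinearGroup.coe_one, one_mulVec, ← mulVec_mulVec, hc, mulVec_smul]
  · obtain ⟨x, hx⟩ := hconj J J0 hJ hJ0
    refine ⟨x, Or.inr ?_⟩
    show (x * g * x⁻¹).1 * J0 = J0 * (x * g * x⁻¹).1
    have h1 : (x⁻¹).1 * x.1 = 1 := by
      rw [← Matrix.SpecialLinearGroup.coe_mul, inv_mul_cancel, Matrix.SpecialLinearGroup.coe_one]
    have h2 : x.1 * (x⁻¹).1 = 1 := by
      rw [← Matrix.SpecialLinearGroup.coe_mul, mul_inv_cancel, Matrix.SpecialLinearGroup.coe_one]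
    have hx2 : (x⁻¹).1 * J0 = J * (x⁻¹).1 := by
      calc (x⁻¹).1 * J0 = (x⁻¹).1 * J0 * (x.1 * (x⁻¹).1) := by rw [h2, Matrix.mul_one]
        _ = (x⁻¹).1 * (J0 * x.1) * (x⁻¹).1 := by simp only [Matrix.mul_assoc]
        _ = J * (x⁻¹).1 := by rw [hx, ← Matrix.mul_assoc, h1, Matrix.one_mul]
    rw [Matrix.SpecialLinearGroup.coe_mul, Matrix.SpecialLinearGroup.coe_mul, Matrix.mul_assoc, hx2,
      ← Matrix.mul_assoc, Matrix.mul_assoc x.1, hcomm, ← Matrix.mul_assoc, ← hx]
    simp only [Matrix.mul_assoc]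

theorem psl_two_cover :
    ∃ H K : Subgroup (Matrix.ProjectiveSpecialLinearGroup (Fin 2) F), H ≠ ⊤ ∧ K ≠ ⊤ ∧
      ∀ g : Matrix.ProjectiveSpecialLinearGroup (Fin 2) F, ∃ x : Matrix.ProjectiveSpecialLinearGroup (Fin 2) F,
        x * g * x⁻¹ ∈ H ∨ x * g * x⁻¹ ∈ K := by
  obtain ⟨f, -, hf, hd⟩ := exists_monic_irreducible F 2
  exact sl_cover le_rfl hf hd.ge (by rw [hd]) (fun k h1 h2 _ => by rw [hd]; exact ⟨1, by omega⟩)
    fun J D hJ hD => exists_sl_conj_full hf hd hJ hD

theorem psl_three_cover :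
    ∃ H K : Subgroup (Matrix.ProjectiveSpecialLinearGroup (Fin 3) F), H ≠ ⊤ ∧ K ≠ ⊤ ∧
      ∀ g : Matrix.ProjectiveSpecialLinearGroup (Fin 3) F, ∃ x : Matrix.ProjectiveSpecialLinearGroup (Fin 3) F,
        x * g * x⁻¹ ∈ H ∨ x * g * x⁻¹ ∈ K := by
  obtain ⟨f, -, hf, hd⟩ := exists_monic_irreducible F 3
  exact sl_cover (by norm_num) hf (by omega) (by rw [hd])
    (fun k h1 h2 h3 => by rw [hd]; exact ⟨1, by omega⟩)
    fun J D hJ hD => exists_sl_conj_full hf hd hJ hD

theorem psl_four_cover :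
    ∃ H K : Subgroup (Matrix.ProjectiveSpecialLinearGroup (Fin 4) F), H ≠ ⊤ ∧ K ≠ ⊤ ∧
      ∀ g : Matrix.ProjectiveSpecialLinearGroup (Fin 4) F, ∃ x : Matrix.ProjectiveSpecialLinearGroup (Fin 4) F,
        x * g * x⁻¹ ∈ H ∨ x * g * x⁻¹ ∈ K := by
  obtain ⟨f, hm, hf, hd⟩ := exists_monic_irreducible F 2
  refine sl_cover (by norm_num) hf hd.ge (by rw [hd]; exact ⟨2, rfl⟩)
    (fun k h1 h2 h3 => by rw [hd]; omega) fun J D hJ hD => ?_
  have hexp : f = X ^ 2 + C (f.coeff 1) * X + C (f.coeff 0) := by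
    conv_lhs => rw [hm.as_sum, hd]
    simp [Finset.sum_range_succ]
    ring
  have hrel : ∀ M : Matrix (Fin 4) (Fin 4) F, aeval M f = 0 →
      M * M = (-f.coeff 1) • M + (-f.coeff 0) • 1 := fun M hM => by
    rw [hexp] at hM
    simp only [map_add, map_pow, map_mul, aeval_X, aeval_C, pow_two, ← Algebra.smul_def,
      Algebra.algebraMap_eq_smul_one, smul_one_mul] at hM
    rw [neg_smul, neg_smul, ← neg_add]
    exact eq_neg_of_add_eq_zero_left ((add_assoc _ _ _).symm.trans hM)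
  refine LinFix.QuadSub.exists_sl_conj J D (hrel J hJ) (hrel D hD) fun c hc => ?_
  have h1 : f.natDegree = 1 := natDegree_eq_of_degree_eq_some (degree_eq_one_of_irreducible_of_root hf (x := c) (by
    show f.eval c = 0
    rw [hexp]; simp only [eval_add, eval_pow, eval_mul, eval_C, eval_X]
    linear_combination hc))
  omega

end CfsgLib.TwoCover
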