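import Cfsg.Agent.Lib.TwoCover.SympEven
import Cfsg.Agent.Lib.MinIndexPSL.Basic
import Cfsg.Agent.Lib.SylowAbel.G2Model

/-!
`G₂(2^a)`, `a ≥ 2`, is covered by the stabilisers of the two classes of quadratic subalgebras
`F + F x`, `x` of trace one: every element fixes such a coset `x + F`.
-/

set_option autoImplicit false

namespace CfsgLib.TwoCover.OctTwo

open Matrix Cfsg.Lie CfsgLib.SylowAbel

variable {F : Type*} [Field F]

theorem cross3_mulVec (A : Matrix (Fin 3) (Fin 3) F) (u v : Fin 3 → F) :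
    cross3 (A *ᵥ u) (A *ᵥ v) = (adjugate A)ᵀ *ᵥ cross3 u v := by
  funext i
  fin_cases i <;>
    simp [cross3, adjugate_fin_three, Matrix.mulVec, dotProduct, Fin.sum_univ_three] <;> ring

theorem dot3_eq (u v : Fin 3 → F) : dot3 u v = u ⬝ᵥ v := by
  simp [dot3, dotProduct, Fin.sum_univ_three]

/-- The inverse transpose. -/
def dualSL (A : Matrix.SpecialLinearGroup (Fin 3) F) : Matrix (Fin 3) (Fin 3) F := (adjugate A.1)ᵀ

theorem dot3_dual (A : Matrix.SpecialLinearGroup (Fin 3) F) (u v : Fin 3 → F) :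
    dot3 (A.1 *ᵥ u) (dualSL A *ᵥ v) = dot3 u v := by
  rw [dot3_eq, dot3_eq, dualSL, dotProduct_mulVec, vecMul_transpose, mulVec_mulVec,
    adjugate_mul, A.2, one_smul, one_mulVec]

theorem cross3_dual (A : Matrix.SpecialLinearGroup (Fin 3) F) (u v : Fin 3 → F) :
    cross3 (dualSL A *ᵥ u) (dualSL A *ᵥ v) = A.1 *ᵥ cross3 u v := by
  rw [cross3_mulVec, dualSL, adjugate_transpose, transpose_transpose, adjugate_adjugate A.1 (by simp),
    A.2, one_pow, one_smul]

/-- A vector of `F⁸` from its parts. -/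
def ofParts (α : F) (a b : Fin 3 → F) (β : F) : Fin 8 → F :=
  ![α, a 0, a 1, a 2, b 0, b 1, b 2, β]

theorem zA_ofParts (α : F) (a b : Fin 3 → F) (β : F) : zA F (ofParts α a b β) = a := by
  funext i; fin_cases i <;> rfl

theorem zB_ofParts (α : F) (a b : Fin 3 → F) (β : F) : zB F (ofParts α a b β) = b := by
  funext i; fin_cases i <;> rfl

theorem ofParts_self (x : Fin 8 → F) : ofParts (x 0) (zA F x) (zB F x) (x 7) = x := by
  funext i; fin_cases i <;> rfl

theorem ofParts_zero (α : F) (a b : Fin 3 → F) (β : F) : ofParts α a b β 0 = α := rfl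

theorem ofParts_seven (α : F) (a b : Fin 3 → F) (β : F) : ofParts α a b β 7 = β := rfl

theorem zornMul_parts (x y : Fin 8 → F) : zornMul x y =
    ofParts (x 0 * y 0 + dot3 (zA F x) (zB F y))
      (x 0 • zA F y + y 7 • zA F x - cross3 (zB F x) (zB F y))
      (y 0 • zB F x + x 7 • zB F y + cross3 (zA F x) (zA F y))
      (dot3 (zB F x) (zA F y) + x 7 * y 7) := by
  funext i; fin_cases i <;> rfl

/-- The action of `SL₃`. -/
def slLin (A : Matrix.SpecialLinearGroup (Fin 3) F) : (Fin 8 → F) →ₗ[F] (Fin 8 → F) where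
  toFun x := ofParts (x 0) (A.1 *ᵥ zA F x) (dualSL A *ᵥ zB F x) (x 7)
  map_add' x y := by
    funext i
    fin_cases i <;> simp [ofParts, Matrix.mulVec, dotProduct, Fin.sum_univ_three] <;> ring
  map_smul' k x := by
    funext i
    fin_cases i <;> simp [ofParts, Matrix.mulVec, dotProduct, Fin.sum_univ_three] <;> ring

theorem slLin_injective (A : Matrix.SpecialLinearGroup (Fin 3) F) :
    Function.Injective (slLin A) := by
  intro x y h
  have h1 : A.1 *ᵥ zA F x = A.1 *ᵥ zA F y := by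
    have := congrArg (zA F) h
    simpa only [slLin, LinearMap.coe_mk, AddHom.coe_mk, zA_ofParts] using this
  have h2 : dualSL A *ᵥ zB F x = dualSL A *ᵥ zB F y := by
    have := congrArg (zB F) h
    simpa only [slLin, LinearMap.coe_mk, AddHom.coe_mk, zB_ofParts] using this
  have hA : IsUnit A.1 := (Matrix.isUnit_iff_isUnit_det _).2 (by rw [A.2]; exact isUnit_one)
  have hd : IsUnit (dualSL A) := (Matrix.isUnit_iff_isUnit_det _).2 (by
    rw [dualSL, det_transpose, det_adjugate, A.2, one_pow]; exact isUnit_one)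
  rw [← ofParts_self x, ← ofParts_self y, (Matrix.mulVec_injective_iff_isUnit.2 hA) h1,
    (Matrix.mulVec_injective_iff_isUnit.2 hd) h2,
    show x 0 = y 0 from congrFun h 0, show x 7 = y 7 from congrFun h 7]

/-- The element of `G₂` given by `A ∈ SL₃`. -/
theorem exists_slG2 [Finite F] (A : Matrix.SpecialLinearGroup (Fin 3) F) :
    ∃ g : G2 F, ∀ x, g.1.val *ᵥ x =
      ofParts (x 0) (A.1 *ᵥ zA F x) (dualSL A *ᵥ zB F x) (x 7) := by
  have hinj : Function.Injective (LinearMap.toMatrix' (slLin A)).mulVec := by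
    intro x y h
    rw [LinearMap.toMatrix'_mulVec, LinearMap.toMatrix'_mulVec] at h
    exact slLin_injective A h
  have hU := Matrix.mulVec_injective_iff_isUnit.1 hinj
  refine ⟨⟨hU.unit, fun x y => ?_⟩, fun x => LinearMap.toMatrix'_mulVec _ _⟩
  show hU.unit.val *ᵥ zornMul x y = zornMul (hU.unit.val *ᵥ x) (hU.unit.val *ᵥ y)
  simp only [IsUnit.unit_spec, LinearMap.toMatrix'_mulVec, slLin, LinearMap.coe_mk, AddHom.coe_mk]
  rw [zornMul_parts x y, zornMul_parts (ofParts _ _ _ _) (ofParts _ _ _ _)]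
  simp only [zA_ofParts, zB_ofParts, ofParts_zero, ofParts_seven, mulVec_add, mulVec_sub,
    mulVec_smul, cross3_dual, dot3_dual]
  rw [show cross3 (A.1 *ᵥ zA F x) (A.1 *ᵥ zA F y) = dualSL A *ᵥ cross3 (zA F x) (zA F y) from
    cross3_mulVec _ _ _]
  rw [show dot3 (dualSL A *ᵥ zB F x) (A.1 *ᵥ zA F y) = dot3 (zB F x) (zA F y) by
    rw [dot3_eq, dotProduct_comm, ← dot3_eq, dot3_dual, dot3_eq, dotProduct_comm, ← dot3_eq]]

/-- The identity of the algebra. -/
def octOne (F : Type*) [Field F] : Fin 8 → F := ofParts 1 0 0 1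

theorem octOne_mul (y : Fin 8 → F) : zornMul (octOne F) y = y := by
  funext i; fin_cases i <;> simp [octOne, ofParts, zornMul, dot3, cross3]

theorem mul_octOne (y : Fin 8 → F) : zornMul y (octOne F) = y := by
  funext i; fin_cases i <;> simp [octOne, ofParts, zornMul, dot3, cross3]

theorem act_mul (g h : G2 F) (x : Fin 8 → F) :
    (g * h).1.val *ᵥ x = g.1.val *ᵥ (h.1.val *ᵥ x) := by
  rw [mulVec_mulVec]; rfl

theorem act_one (x : Fin 8 → F) : (1 : G2 F).1.val *ᵥ x = x := one_mulVec x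

theorem act_inv (g : G2 F) (x : Fin 8 → F) : (g⁻¹).1.val *ᵥ (g.1.val *ᵥ x) = x := by
  rw [← act_mul, inv_mul_cancel, act_one]

theorem act_inv' (g : G2 F) (x : Fin 8 → F) : g.1.val *ᵥ ((g⁻¹).1.val *ᵥ x) = x := by
  rw [← act_mul, mul_inv_cancel, act_one]

theorem act_octOne (g : G2 F) : g.1.val *ᵥ octOne F = octOne F := by
  have h : g.1.val *ᵥ zornMul (octOne F) ((g⁻¹).1.val *ᵥ octOne F) =
      zornMul (g.1.val *ᵥ octOne F) (g.1.val *ᵥ ((g⁻¹).1.val *ᵥ octOne F)) := g.2 _ _
  rw [octOne_mul, act_inv', mul_octOne] at h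
  exact h.symm

/-- The trace. -/
def octT (x : Fin 8 → F) : F := x 0 + x 7

/-- The norm. -/
def octQ (x : Fin 8 → F) : F := x 0 * x 7 - dot3 (zA F x) (zB F x)

theorem sq_eq (x : Fin 8 → F) : zornMul x x = octT x • x - octQ x • octOne F := by
  funext i
  fin_cases i <;> simp [octT, octQ, octOne, ofParts, zornMul, dot3, cross3] <;> ring

theorem octQ_act (g : G2 F) (x : Fin 8 → F) :
    octQ (g.1.val *ᵥ x) = octQ x ∧ octT (g.1.val *ᵥ x) = octT x := by
  by_cases hx : ∃ c : F, x = c • octOne F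
  · obtain ⟨c, rfl⟩ := hx
    rw [mulVec_smul, act_octOne]; exact ⟨rfl, rfl⟩
  · have h : g.1.val *ᵥ zornMul x x = zornMul (g.1.val *ᵥ x) (g.1.val *ᵥ x) := g.2 x x
    rw [sq_eq, sq_eq, mulVec_sub, mulVec_smul, mulVec_smul, act_octOne] at h
    have h2 : (octT x - octT (g.1.val *ᵥ x)) • (g.1.val *ᵥ x) =
        (octQ x - octQ (g.1.val *ᵥ x)) • octOne F := by
      rw [sub_smul, sub_smul]
      linear_combination (norm := module) h
    by_cases h0 : octT x - octT (g.1.val *ᵥ x) = 0
    · rw [h0, zero_smul] at h2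
      refine ⟨(sub_eq_zero.1 ((smul_eq_zero.1 h2.symm).resolve_right ?_)).symm,
        (sub_eq_zero.1 h0).symm⟩
      intro h1
      simpa [octOne, ofParts] using congrFun h1 0
    · exfalso
      refine hx ⟨(octT x - octT (g.1.val *ᵥ x))⁻¹ * (octQ x - octQ (g.1.val *ᵥ x)), ?_⟩
      have h3 : g.1.val *ᵥ x = ((octT x - octT (g.1.val *ᵥ x))⁻¹ *
          (octQ x - octQ (g.1.val *ᵥ x))) • octOne F := by
        rw [mul_smul, ← h2, inv_smul_smul₀ h0]
      have h4 := congrArg ((g⁻¹).1.val *ᵥ ·) h3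
      simp only [act_inv, mulVec_smul, act_octOne] at h4
      exact h4

variable [CharP F 2]

/-- The bilinear form. -/
def octB (x y : Fin 8 → F) : F :=
  x 0 * y 7 + x 7 * y 0 + dot3 (zA F x) (zB F y) + dot3 (zA F y) (zB F x)

theorem octQ_add (x y : Fin 8 → F) : octQ (x + y) = octQ x + octQ y + octB x y := by
  simp only [octQ, octB, dot3, zA, zB, Pi.add_apply, CharTwo.sub_eq_add, cons_val_zero, cons_val_one,
    cons_val_two, head_cons, tail_cons]
  ring

theorem octB_act (g : G2 F) (x y : Fin 8 → F) :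
    octB (g.1.val *ᵥ x) (g.1.val *ᵥ y) = octB x y := by
  have h := (octQ_act g (x + y)).1
  rw [mulVec_add, octQ_add, octQ_add, (octQ_act g x).1, (octQ_act g y).1] at h
  exact add_left_cancel h

theorem octB_add_right (v x y : Fin 8 → F) : octB v (x + y) = octB v x + octB v y := by
  simp [octB, dot3]; ring

theorem octB_smul_right (v x : Fin 8 → F) (c : F) : octB v (c • x) = c * octB v x := by
  simp [octB, dot3]; ring

theorem octB_comm (x y : Fin 8 → F) : octB x y = octB y x := by simp [octB, dot3]; ring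

theorem octB_one (x : Fin 8 → F) : octB (octOne F) x = octT x := by
  simp [octB, octT, octOne, ofParts, dot3]; ring

/-- The functional of a vector. -/
def octDual (v : Fin 8 → F) : (Fin 8 → F) →ₗ[F] F where
  toFun x := octB v x
  map_add' := octB_add_right v
  map_smul' c x := by rw [octB_smul_right, RingHom.id_apply, smul_eq_mul]

theorem eq_of_octB {v w : Fin 8 → F} (h : ∀ x, octB v x = octB w x) : v = w := by
  funext i
  fin_cases i
  · simpa [octB, dot3] using h (Pi.single 7 1)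
  · simpa [octB, dot3] using h (Pi.single 4 1)
  · simpa [octB, dot3] using h (Pi.single 5 1)
  · simpa [octB, dot3] using h (Pi.single 6 1)
  · simpa [octB, dot3] using h (Pi.single 1 1)
  · simpa [octB, dot3] using h (Pi.single 2 1)
  · simpa [octB, dot3] using h (Pi.single 3 1)
  · simpa [octB, dot3] using h (Pi.single 0 1)

theorem exists_fixed (g : G2 F) : ∃ (x : Fin 8 → F) (c : F), octT x = 1 ∧
    g.1.val *ᵥ x = x + c • octOne F ∧ c ^ 2 + c = 0 := by
  let L : Submodule F (Fin 8 → F) := F ∙ octOne F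
  let φ : (Fin 8 → F) →ₗ[F] (Fin 8 → F) ⧸ L := L.mkQ ∘ₗ (mulVecLin g.1.val - LinearMap.id)
  have hT : ∃ u, u ∈ LinearMap.ker φ ∧ octT u ≠ 0 := by
    by_contra h
    push Not at h
    have hmem : octDual (octOne F) ∈ LinearMap.range φ.dualMap := by
      rw [LinearMap.range_dualMap_eq_dualAnnihilator_ker, Submodule.mem_dualAnnihilator]
      intro u hu
      show octB (octOne F) u = 0
      rw [octB_one]; exact h u hu
    obtain ⟨μ, hμ⟩ := hmem
    let ν : (Fin 8 → F) →ₗ[F] F := μ ∘ₗ L.mkQ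
    let v : Fin 8 → F := ofParts (ν (Pi.single 7 1))
      ![ν (Pi.single 4 1), ν (Pi.single 5 1), ν (Pi.single 6 1)]
      ![ν (Pi.single 1 1), ν (Pi.single 2 1), ν (Pi.single 3 1)] (ν (Pi.single 0 1))
    have hv : ∀ x, octB v x = ν x := by
      have : octDual v = ν := (Pi.basisFun F _).ext fun j => by
        rw [Pi.basisFun_apply]
        show octB v (Pi.single j 1) = _
        fin_cases j <;> simp [v, octB, dot3, ofParts]
      exact fun x => LinearMap.congr_fun this x
    have hv1 : octT v = 0 := by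
      rw [← octB_one, octB_comm, hv]
      show μ (L.mkQ (octOne F)) = 0
      rw [Submodule.mkQ_apply, (Submodule.Quotient.mk_eq_zero L).2 (Submodule.mem_span_singleton_self _),
        map_zero]
    have key : ∀ x, octB v (g.1.val *ᵥ x) = octB (v + octOne F) x := by
      intro x
      have h1 : octB v (g.1.val *ᵥ x - x) = octT x := by
        rw [hv, ← octB_one]
        exact LinearMap.congr_fun hμ x
      have h2 : octB v (g.1.val *ᵥ x) = octB v (g.1.val *ᵥ x - x) + octB v x := by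
        rw [← octB_add_right, sub_add_cancel]
      rw [h2, h1, octB_comm (v + _), octB_add_right, octB_comm x v, octB_comm x (octOne F), octB_one]
      ring
    have hgv : (g⁻¹).1.val *ᵥ v = v + octOne F := eq_of_octB fun x => by
      rw [← key, ← octB_act g, act_inv']
    have h1 := (octQ_act g⁻¹ v).1
    rw [hgv, octQ_add, octB_comm, octB_one, hv1, add_zero] at h1
    have : octQ (octOne F) = 1 := by simp [octQ, octOne, ofParts, dot3]
    rw [this] at h1
    exact one_ne_zero (add_eq_left.1 h1)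
  obtain ⟨u, hu, hu1⟩ := hT
  rw [LinearMap.mem_ker] at hu
  have hu' : g.1.val *ᵥ u - u ∈ L := by
    rw [← Submodule.Quotient.mk_eq_zero L]; exact hu
  obtain ⟨c, hc⟩ := Submodule.mem_span_singleton.1 hu'
  have hgx : g.1.val *ᵥ ((octT u)⁻¹ • u) = (octT u)⁻¹ • u + ((octT u)⁻¹ * c) • octOne F := by
    rw [mulVec_smul, mul_smul, hc, smul_sub, add_sub_cancel]
  have hT1 : octT ((octT u)⁻¹ • u) = 1 := by
    show (octT u)⁻¹ * u 0 + (octT u)⁻¹ * u 7 = 1
    rw [← mul_add]
    exact inv_mul_cancel₀ hu1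
  refine ⟨_, _, hT1, hgx, ?_⟩
  have h1 := (octQ_act g ((octT u)⁻¹ • u)).1
  rw [hgx, octQ_add, octB_smul_right, octB_comm, octB_one, hT1, mul_one, add_assoc, add_eq_left] at h1
  rw [← h1]
  simp [octQ, octOne, ofParts, dot3]
  ring

/-- The stabiliser of the class of `x`. -/
def classStab (x : Fin 8 → F) : Subgroup (G2 F) where
  carrier := {g | ∃ c : F, g.1.val *ᵥ x = x + c • octOne F}
  one_mem' := ⟨0, by rw [act_one, zero_smul, add_zero]⟩
  mul_mem' := by
    rintro a b ⟨c, hc⟩ ⟨d, hd⟩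
    exact ⟨c + d, by rw [act_mul, hd, mulVec_add, hc, mulVec_smul, act_octOne, add_smul, add_assoc]⟩
  inv_mem' := by
    rintro a ⟨c, hc⟩
    refine ⟨-c, ?_⟩
    have h := congrArg ((a⁻¹).1.val *ᵥ ·) hc
    simp only [act_inv, mulVec_add, mulVec_smul, act_octOne] at h
    rw [neg_smul]
    exact eq_add_neg_of_add_eq h.symm

/-- The standard point of norm `n` and trace one. -/
def stdPt (n : F) : Fin 8 → F := ofParts 0 ![n, 0, 0] ![1, 0, 0] 1

theorem classStab_ne_top [Finite F] (n : F) : classStab (stdPt n) ≠ ⊤ := by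
  intro h
  let A : Matrix.SpecialLinearGroup (Fin 3) F :=
    ⟨!![0, 0, 1; 1, 0, 0; 0, 1, 0], by simp [det_fin_three]⟩
  obtain ⟨g, hg⟩ := exists_slG2 A
  obtain ⟨c, hc⟩ := (h ▸ Subgroup.mem_top g : g ∈ classStab (stdPt n))
  rw [hg] at hc
  have := congrFun hc 5
  simp [stdPt, octOne, ofParts, dualSL, A, adjugate_fin_three, Matrix.mulVec, dotProduct,
    Fin.sum_univ_three] at this

theorem pair_move [Finite F] {x : Fin 8 → F} (hT : octT x = 1) (hN : octN x = 0) :
    ∃ g : G2 F, g.1.val *ᵥ x = stdPt (octQ x) := by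
  set M := octM x with hM
  obtain ⟨w0, w1, hw⟩ : ∃ w0 w1 : F,
      w0 * (x 4 * w0 + x 7 * w1) - w1 * (x 0 * w0 + x 1 * w1) ≠ 0 := by
    by_cases h4 : x 4 = 0
    · by_cases h1 : x 1 = 0
      · refine ⟨1, 1, fun h => one_ne_zero (α := F) ?_⟩
        rw [← hT, octT]
        rw [h4, h1] at h
        linear_combination h + CharTwo.add_self_eq_zero (x 0)
      · exact ⟨0, 1, by simpa using h1⟩
    · exact ⟨1, 0, by simpa using h4⟩
  let P : Matrix (Fin 2) (Fin 2) F := !![w0, x 0 * w0 + x 1 * w1; w1, x 4 * w0 + x 7 * w1]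
  have hP : IsUnit P := (Matrix.isUnit_iff_isUnit_det _).2 (isUnit_iff_ne_zero.2 (by
    rw [det_fin_two]; simp only [P, of_apply, cons_val', cons_val_zero, cons_val_one, cons_val_fin_one]
    intro h; exact hw (by linear_combination h)))
  let h : pairGroup F := ⟨(hP.unit⁻¹, hP.unit⁻¹), rfl⟩
  refine ⟨toG2 F h, ?_⟩
  show (pairGL h).val *ᵥ x = _
  rw [pairGL_mulVec]
  apply oct_ext
  · rw [octM_ofPair]
    have e : M * P = P * !![0, -(M 0 0 * M 1 1 - M 0 1 * M 1 0); 1, M 0 0 + M 1 1] := by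
      ext i j
      fin_cases i <;> fin_cases j <;>
        simp [P, hM, octM, Matrix.mul_apply, Fin.sum_univ_two] <;> ring
    show (hP.unit⁻¹).val * M * (hP.unit⁻¹)⁻¹.val = _
    rw [inv_inv, IsUnit.unit_spec, Matrix.mul_assoc, e, ← Matrix.mul_assoc, IsUnit.val_inv_mul,
      Matrix.one_mul]
    have h2 : x 2 = 0 := by simpa [octN] using congrFun (congrFun hN 0) 0
    have h3 : x 3 = 0 := by simpa [octN] using congrFun (congrFun hN 1) 0
    ext i j
    fin_cases i <;> fin_cases j <;> simp [hM, octM, stdPt, ofParts, octQ, dot3, h2, h3]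
    · linear_combination CharTwo.add_self_eq_zero (x 1 * x 4) - CharTwo.add_self_eq_zero (x 0 * x 7)
    · exact hT
  · rw [octN_ofPair, hN, mul_zero, zero_mul]
    ext i j
    fin_cases i <;> fin_cases j <;> simp [octN, stdPt, ofParts]

theorem octN_eq_zero {x : Fin 8 → F} (h2 : x 2 = 0) (h3 : x 3 = 0) (h5 : x 5 = 0) (h6 : x 6 = 0) :
    octN x = 0 := by
  ext i j
  fin_cases i <;> fin_cases j <;> simp [octN, h2, h3, h5, h6]

theorem dual_eq_of_inv {A B : Matrix.SpecialLinearGroup (Fin 3) F} (h : A.1 * B.1ᵀ = 1) :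
    dualSL A = B.1 := by
  have h2 : adjugate A.1 = B.1ᵀ := by
    calc adjugate A.1 = adjugate A.1 * (A.1 * B.1ᵀ) := by rw [h, Matrix.mul_one]
      _ = B.1ᵀ := by rw [← Matrix.mul_assoc, adjugate_mul, A.2, one_smul, Matrix.one_mul]
  rw [dualSL, h2, transpose_transpose]

theorem reduce_axial [Finite F] {x : Fin 8 → F} (hT : octT x = 1)
    (hx : dot3 (zA F x) (zB F x) ≠ 0 ∨ zA F x = 0 ∨ zB F x = 0) :
    ∃ g : G2 F, g.1.val *ᵥ x = stdPt (octQ x) := by
  have finish : ∀ g : G2 F, octN (g.1.val *ᵥ x) = 0 →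
      ∃ g' : G2 F, g'.1.val *ᵥ x = stdPt (octQ x) := by
    intro g hg
    obtain ⟨k, hk⟩ := pair_move ((octQ_act g x).2.trans hT) hg
    exact ⟨k * g, by rw [act_mul, hk, (octQ_act g x).1]⟩
  have hzero : (Pi.single 0 1 : Fin 3 → F) ≠ 0 := fun h => by simpa using congrFun h 0
  by_cases ha : zA F x = 0
  · by_cases hb : zB F x = 0
    · refine finish 1 (by
        rw [act_one]
        exact octN_eq_zero (congrFun ha 1) (congrFun ha 2) (congrFun hb 1) (congrFun hb 2))
    · obtain ⟨B, hB⟩ := MinIndexPSL.exists_mulVec_eq (n := Fin 3) hb hzero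
      let A : Matrix.SpecialLinearGroup (Fin 3) F := ⟨(B⁻¹).1ᵀ, by rw [det_transpose]; exact (B⁻¹).2⟩
      have hA : dualSL A = B.1 := dual_eq_of_inv (by
        show (B⁻¹).1ᵀ * B.1ᵀ = 1
        rw [← transpose_mul, ← Matrix.SpecialLinearGroup.coe_mul, mul_inv_cancel,
          Matrix.SpecialLinearGroup.coe_one, transpose_one])
      obtain ⟨g, hg⟩ := exists_slG2 A
      refine finish g ?_
      rw [hg, hA, hB, ha, mulVec_zero]
      apply octN_eq_zero <;> simp [ofParts]
  · obtain ⟨A, hA⟩ := MinIndexPSL.exists_mulVec_eq (n := Fin 3) ha hzero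
    obtain ⟨g, hg⟩ := exists_slG2 A
    by_cases hb : zB F x = 0
    · refine finish g ?_
      rw [hg, hA, hb, mulVec_zero]
      apply octN_eq_zero <;> simp [ofParts]
    · have hs : (dualSL A *ᵥ zB F x) 0 ≠ 0 := by
        rcases hx with h | h | h
        · have h2 := dot3_dual A (zA F x) (zB F x)
          rw [hA] at h2
          rw [← h2] at h
          simpa [dot3] using h
        · exact absurd h ha
        · exact absurd h hb
      set b := dualSL A *ᵥ zB F x
      let A2 : Matrix.SpecialLinearGroup (Fin 3) F :=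
        ⟨!![1, b 1 / b 0, b 2 / b 0; 0, 1, 0; 0, 0, 1], by simp [det_fin_three]⟩
      obtain ⟨g2, hg2⟩ := exists_slG2 A2
      refine finish (g2 * g) ?_
      rw [act_mul, hg, hA, hg2, zA_ofParts, zB_ofParts, show dualSL A *ᵥ zB F x = b from rfl]
      clear_value b
      apply octN_eq_zero <;>
        simp [ofParts, A2, dualSL, adjugate_fin_three, Matrix.mulVec, dotProduct, Fin.sum_univ_three] <;>
        field_simp <;> ring

theorem reduce [Fintype F] (h4 : 4 ≤ Fintype.card F) {x : Fin 8 → F} (hT : octT x = 1) :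
    ∃ g : G2 F, g.1.val *ᵥ x = stdPt (octQ x) := by
  by_cases hx : dot3 (zA F x) (zB F x) ≠ 0 ∨ zA F x = 0 ∨ zB F x = 0
  · exact reduce_axial hT hx
  push Not at hx
  obtain ⟨hs, ha, hb⟩ := hx
  obtain ⟨A, hA⟩ := MinIndexPSL.exists_mulVec_eq (n := Fin 3) (w := Pi.single 0 1) ha
    (fun h => by simpa using congrFun h 0)
  obtain ⟨g, hg⟩ := exists_slG2 A
  set b := dualSL A *ᵥ zB F x with hbdef
  have hb0 : b 0 = 0 := by
    have h2 := dot3_dual A (zA F x) (zB F x)
    rw [hA, hs] at h2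
    simpa [dot3] using h2
  have hb12 : ![b 1, b 2] ≠ 0 := by
    intro h
    refine hb ((Matrix.mulVec_injective_iff_isUnit.2 ((Matrix.isUnit_iff_isUnit_det (dualSL A)).2
      (by rw [dualSL, det_transpose, det_adjugate, A.2, one_pow]; exact isUnit_one))) ?_)
    show b = dualSL A *ᵥ 0
    rw [mulVec_zero]
    funext i
    fin_cases i
    · exact hb0
    · simpa using congrFun h 0
    · simpa using congrFun h 1
  obtain ⟨B, hB⟩ := MinIndexPSL.exists_mulVec_eq (n := Fin 2) (w := ![1, 0]) hb12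
    (fun h => by simpa using congrFun h 0)
  have hB0 : B.1 0 0 * b 1 + B.1 0 1 * b 2 = 1 := by
    simpa [Matrix.mulVec, dotProduct, Fin.sum_univ_two] using congrFun hB 0
  have hB1 : B.1 1 0 * b 1 + B.1 1 1 * b 2 = 0 := by
    simpa [Matrix.mulVec, dotProduct, Fin.sum_univ_two] using congrFun hB 1
  have hBdet : B.1 0 0 * B.1 1 1 - B.1 0 1 * B.1 1 0 = 1 := by rw [← det_fin_two, B.2]
  let A2 : Matrix.SpecialLinearGroup (Fin 3) F :=
    ⟨!![1, 0, 0; 0, B.1 1 1, -B.1 1 0; 0, -B.1 0 1, B.1 0 0], by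
      rw [det_fin_three]; simp; linear_combination hBdet⟩
  obtain ⟨g2, hg2⟩ := exists_slG2 A2
  obtain ⟨t, ht0, ht1⟩ : ∃ t : F, t ≠ 0 ∧ t ≠ 1 := by
    classical
    by_contra h
    push Not at h
    have h2 : (Finset.univ : Finset F) ⊆ {0, 1} := fun t _ => by
      by_cases h0 : t = 0
      · simp [h0]
      · simp [h t h0]
    have h3 := (Finset.card_le_card h2).trans Finset.card_le_two
    rw [Finset.card_univ] at h3
    omega
  have hU : IsUnit (!![1, 0; t, 1] : Matrix (Fin 2) (Fin 2) F) :=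
    (Matrix.isUnit_iff_isUnit_det _).2 (by simp)
  let h : pairGroup F := ⟨(hU.unit, hU.unit), rfl⟩
  have hinv : (hU.unit⁻¹).val = !![1, 0; t, 1] := by
    refine (eq_comm.1 (Units.eq_inv_of_mul_eq_one_left (u := hU.unit) ?_))
    rw [IsUnit.unit_spec]
    ext i j
    fin_cases i <;> fin_cases j <;> simp [CharTwo.add_self_eq_zero]
  set y := g2.1.val *ᵥ (g.1.val *ᵥ x) with hydef
  have hy : y = ofParts (x 0) ![1, 0, 0] ![0, 1, 0] (x 7) := by
    rw [hydef, hg, hA, hg2, zA_ofParts, zB_ofParts, ← hbdef]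
    funext i
    fin_cases i <;>
      simp [ofParts, A2, dualSL, adjugate_fin_three, Matrix.mulVec, dotProduct, Fin.sum_univ_three, hb0] <;>
      first | linear_combination hB0 | linear_combination hB1
  set z := (toG2 F h).1.val *ᵥ y with hzdef
  have hTz : octT z = 1 := by
    rw [hzdef, (octQ_act _ y).2, hydef, (octQ_act _ _).2, (octQ_act _ _).2, hT]
  obtain ⟨k, hk⟩ := reduce_axial hTz (Or.inl (by
    have hz : z = (pairGL h).val *ᵥ y := rfl
    rw [pairGL_mulVec] at hz
    rw [hz]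
    show dot3 (zA F (ofPair (hU.unit.val * octM y * (hU.unit⁻¹).val)
      (hU.unit.val * octN y * (hU.unit⁻¹).val))) (zB F (ofPair (hU.unit.val * octM y * (hU.unit⁻¹).val)
      (hU.unit.val * octN y * (hU.unit⁻¹).val))) ≠ 0
    rw [hinv, IsUnit.unit_spec, hy]
    simp [dot3, ofPair, octM, octN, ofParts, Matrix.mul_apply, Fin.sum_univ_two]
    intro h0
    have hT' : x 0 + x 7 = 1 := hT
    exact mul_ne_zero ht0 (fun h1 => ht1 (CharTwo.add_eq_zero.1 h1))
      (by linear_combination h0 - t * hT' + CharTwo.add_self_eq_zero (0 : F))))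
  refine ⟨k * toG2 F h * g2 * g, ?_⟩
  rw [act_mul, act_mul, act_mul, ← hydef, ← hzdef, hk, hzdef, (octQ_act _ y).1, hydef,
    (octQ_act _ _).1, (octQ_act _ _).1]

/-- The two classes. -/
theorem g2_cover [Fintype F] (h4 : 4 ≤ Fintype.card F) :
    ∃ H K : Subgroup (G2 F), H ≠ ⊤ ∧ K ≠ ⊤ ∧
      ∀ g : G2 F, ∃ x : G2 F, x * g * x⁻¹ ∈ H ∨ x * g * x⁻¹ ∈ K := by
  obtain ⟨s, hs⟩ : ∃ s : F, s ∉ (SympEven.asHom (F := F)).range := by
    by_contra h
    push Not at h
    have : (SympEven.asHom (F := F)).range = ⊤ := (AddSubgroup.eq_top_iff' _).2 h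
    have h2 := SympEven.index_range_asHom (F := F)
    rw [this, AddSubgroup.index_top] at h2
    exact absurd h2 (by norm_num)
  refine ⟨classStab (stdPt 0), classStab (stdPt s), classStab_ne_top _, classStab_ne_top _, fun g => ?_⟩
  obtain ⟨x, c, hT, hgx, -⟩ := exists_fixed g
  have hshift : ∀ d : F, octQ (x + d • octOne F) = octQ x + (d ^ 2 + d) ∧
      octT (x + d • octOne F) = 1 := by
    intro d
    constructor
    · rw [octQ_add, octB_smul_right, octB_comm, octB_one, hT]
      simp [octQ, octOne, ofParts, dot3]; ring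
    · show (x + d • octOne F) 0 + (x + d • octOne F) 7 = 1
      simp [octOne, ofParts]
      have hT' : x 0 + x 7 = 1 := hT
      linear_combination hT' + CharTwo.add_self_eq_zero d
  have key : ∀ n : F, octQ x + n ∈ (SympEven.asHom (F := F)).range →
      ∃ k : G2 F, k * g * k⁻¹ ∈ classStab (stdPt n) := by
    rintro n ⟨d, hd⟩
    change d ^ 2 + d = octQ x + n at hd
    obtain ⟨k, hk⟩ := reduce h4 (hshift d).2
    have hn : octQ (x + d • octOne F) = n := by
      rw [(hshift d).1, hd, ← add_assoc, CharTwo.add_self_eq_zero, zero_add]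
    rw [hn] at hk
    refine ⟨k, c, ?_⟩
    rw [← hk, act_mul, act_mul, act_inv, mulVec_add g.1.val, mulVec_smul, act_octOne, hgx,
      add_right_comm, mulVec_add, mulVec_smul, act_octOne, mulVec_add]
  by_cases hq : octQ x ∈ (SympEven.asHom (F := F)).range
  · obtain ⟨k, hk⟩ := key 0 (by rwa [add_zero])
    exact ⟨k, Or.inl hk⟩
  · obtain ⟨k, hk⟩ := key s ((AddSubgroup.add_mem_iff_of_index_two SympEven.index_range_asHom).2
      (iff_of_false hq hs))
    exact ⟨k, Or.inr hk⟩

end CfsgLib.TwoCover.OctTwo
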