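import Cfsg.Agent.Lib.TwoCover.Basic
import Cfsg.Agent.Lib.Linear.Symplectic
import Cfsg.Prelude.Def_Classical

/-!
`Sp_2m(2^a)` is covered by the two classes of orthogonal groups: every element fixes a quadratic
form polarising to the symplectic form.
-/

set_option autoImplicit false

namespace CfsgLib.TwoCover.SympEven

open CfsgLib.Linear.Symp Matrix Cfsg

variable {F : Type*} [Field F] {m : ℕ}

/-- The standard quadratic form. -/
def qf (x : Fin m ⊕ Fin m → F) : F := ∑ i, x (.inl i) * x (.inr i)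

/-- The translates of the standard quadratic form. -/
def qv (u x : Fin m ⊕ Fin m → F) : F := qf x + sympForm m F x u ^ 2

/-- The stabiliser of a quadratic form. -/
def qStab (u : Fin m ⊕ Fin m → F) : Subgroup (symplecticGroup (Fin m) F) where
  carrier := {g | ∀ x, qv u (g • x) = qv u x}
  one_mem' := fun x => by rw [one_smul]
  mul_mem' := fun {a b} ha hb x => by rw [mul_smul, ha, hb]
  inv_mem' := fun {a} ha x => by rw [← ha (a⁻¹ • x), smul_inv_smul]

theorem qf_smul (a : F) (x : Fin m ⊕ Fin m → F) : qf (a • x) = a ^ 2 * qf x := by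
  simp only [qf, Pi.smul_apply, smul_eq_mul, Finset.mul_sum]
  exact Finset.sum_congr rfl fun i _ => by ring

variable [CharP F 2]

theorem neg_eq (a : F) : -a = a := CharTwo.neg_eq a

theorem form_comm (x y : Fin m ⊕ Fin m → F) : sympForm m F x y = sympForm m F y x := by
  rw [form_swap, neg_eq]

theorem qf_add (x y : Fin m ⊕ Fin m → F) : qf (x + y) = qf x + qf y + sympForm m F x y := by
  rw [sympForm_eq_sum, qf, qf, qf, ← Finset.sum_add_distrib, ← Finset.sum_add_distrib]
  refine Finset.sum_congr rfl fun i _ => ?_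
  rw [Pi.add_apply, Pi.add_apply, CharTwo.sub_eq_add]
  ring

theorem qv_add_smul (u x a : Fin m ⊕ Fin m → F) (s : F) :
    qv u (x + s • a) = qv u x + (s ^ 2 * qv u a + s * sympForm m F x a) := by
  rw [qv, qv, qv, qf_add, qf_smul, form_add_left, form_smul_left, form_smul_right, CharTwo.add_sq]
  ring

theorem qv_tv (u w : Fin m ⊕ Fin m → F) {c : F} (hc : c ^ 2 * qv u w + c = 1)
    (x : Fin m ⊕ Fin m → F) : qv u (tv w c • x) = qv (u + w) x := by
  rw [tv_smul, qv_add_smul]
  have h : qv (u + w) x = qv u x + sympForm m F x w ^ 2 := by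
    rw [qv, qv, form_add_right, CharTwo.add_sq, add_assoc]
  rw [h]
  linear_combination sympForm m F x w ^ 2 * hc

theorem exists_fixed [Finite F] (g : symplecticGroup (Fin m) F) :
    ∃ v : Fin m ⊕ Fin m → F, g ∈ qStab v := by
  haveI : PerfectRing F 2 := inferInstance
  set D : (Fin m ⊕ Fin m → F) → F := fun x => qf (g • x) + qf x
  have hadd : ∀ x y, D (x + y) = D x + D y := fun x y => by
    simp only [D, smul_add, qf_add, form_smul_smul]
    linear_combination CharTwo.add_self_eq_zero (sympForm m F x y)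
  have hsm : ∀ (a : F) (x), D (a • x) = a ^ 2 * D x := fun a x => by
    have : g • (a • x) = a • (g • x) := by simp only [smul_def, mulVec_smul]
    simp only [D, this, qf_smul]; ring
  let l : (Fin m ⊕ Fin m → F) →ₗ[F] F :=
    { toFun := fun x => (frobeniusEquiv F 2).symm (D x)
      map_add' := fun x y => by rw [hadd, map_add]
      map_smul' := fun a x => by
        rw [hsm, map_mul, RingHom.id_apply, smul_eq_mul]
        congr 1
        exact (frobeniusEquiv F 2).symm_apply_eq.2 (by simp [frobenius_def]) }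
  have hl : ∀ x, l x ^ 2 = D x := fun x => by
    have := (frobeniusEquiv F 2).apply_symm_apply (D x)
    simpa [frobeniusEquiv_def, l] using this
  let T : (Fin m ⊕ Fin m → F) →ₗ[F] (Fin m ⊕ Fin m → F) := mulVecLin g.1 + LinearMap.id
  have hT : ∀ x, T x = g • x + x := fun x => by simp [T, smul_def]
  have hmem : l ∈ LinearMap.range T.dualMap := by
    rw [LinearMap.range_dualMap_eq_dualAnnihilator_ker, Submodule.mem_dualAnnihilator]
    intro x hx
    rw [LinearMap.mem_ker, hT] at hx
    have hx : g • x = x := funext fun i => CharTwo.add_eq_zero.1 (congrFun hx i)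
    have h2 : D x = 0 := by simp only [D, hx]; exact CharTwo.add_self_eq_zero _
    show (frobeniusEquiv F 2).symm (D x) = 0
    rw [h2, map_zero]
  obtain ⟨μ, hμ⟩ := hmem
  let v : Fin m ⊕ Fin m → F := Sum.elim (fun i => μ (Pi.single (.inr i) 1))
    (fun i => μ (Pi.single (.inl i) 1))
  have hv : ∀ x, sympForm m F x v = μ x := by
    let b : (Fin m ⊕ Fin m → F) →ₗ[F] F :=
      { toFun := fun x => sympForm m F x v
        map_add' := fun x y => form_add_left _ _ _
        map_smul' := fun a x => form_smul_left _ _ _ }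
    have : b = μ := (Pi.basisFun F _).ext fun j => by
      rw [Pi.basisFun_apply]
      show sympForm m F (Pi.single j 1) v = _
      rw [form_comm]
      rcases j with i | i
      · rw [form_single_inl]; rfl
      · rw [form_single_inr, neg_eq]; rfl
    exact fun x => LinearMap.congr_fun this x
  refine ⟨v, fun x => ?_⟩
  have h1 : sympForm m F (g • x + x) v ^ 2 = D x := by
    rw [hv, ← hT, ← hl, ← hμ]; rfl
  rw [form_add_left, CharTwo.add_sq] at h1
  simp only [D] at h1
  rw [qv, qv]
  linear_combination h1 + CharTwo.add_self_eq_zero (qf (g • x)) -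
    CharTwo.add_self_eq_zero (sympForm m F x v ^ 2)

theorem qStab_ne_top (hm : 2 ≤ m) (u : Fin m ⊕ Fin m → F) : qStab u ≠ ⊤ := by
  intro h
  have h1 : ∀ a : Fin m ⊕ Fin m → F, a ≠ 0 → qv u a = 1 := by
    intro a ha
    obtain ⟨x, hx⟩ := exists_form_ne_zero ha
    rw [form_comm] at hx
    have h2 := (h ▸ Subgroup.mem_top (tv a (1 : F)) : tv a (1 : F) ∈ qStab u) x
    rw [tv_smul, qv_add_smul, one_mul, add_eq_left] at h2
    have h3 : sympForm m F x a ^ 2 * (qv u a + 1) = 0 := by linear_combination h2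
    exact CharTwo.add_eq_zero.1 ((mul_eq_zero.1 h3).resolve_left (pow_ne_zero _ hx))
  set e0 : Fin m ⊕ Fin m → F := Pi.single (.inl ⟨0, by omega⟩) 1
  set e1 : Fin m ⊕ Fin m → F := Pi.single (.inl ⟨1, by omega⟩) 1
  have h01 : sympForm m F e0 e1 = 0 := by rw [form_single_inl]; simp [e0]
  have hne : e0 + e1 ≠ 0 := fun h0 => by
    have := congrFun h0 (.inl ⟨0, by omega⟩)
    simp [e0, e1] at this
  have h2 := qv_add_smul u e0 e1 1
  rw [one_smul, h1 _ hne, h1 e0 (by simp [e0]), h1 e1 (by simp [e1]), h01] at h2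
  simp [CharTwo.add_self_eq_zero] at h2

theorem center_le_qStab (u : Fin m ⊕ Fin m → F) :
    Subgroup.center (symplecticGroup (Fin m) F) ≤ qStab u := by
  intro z hz
  obtain ⟨a, ha, hz⟩ := Linear.Symp.mem_center_iff.1 hz
  have : a = 1 := by
    have h2 : (a + 1) ^ 2 = 0 := by rw [CharTwo.add_sq, ha, one_pow, CharTwo.add_self_eq_zero]
    exact CharTwo.add_eq_zero.1 (pow_eq_zero_iff two_ne_zero |>.1 h2)
  intro x
  rw [hz, this, one_smul]

/-- The map `y ↦ y² + y`. -/
def asHom : F →+ F where
  toFun y := y ^ 2 + y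
  map_zero' := by ring
  map_add' x y := by rw [CharTwo.add_sq]; ring

theorem index_range_asHom [Finite F] : (asHom (F := F)).range.index = 2 := by
  classical
  have hk : Nat.card (asHom (F := F)).ker = 2 := by
    have h : ((asHom (F := F)).ker : Set F) = {0, 1} := by
      ext y
      simp only [SetLike.mem_coe, AddMonoidHom.mem_ker, Set.mem_insert_iff, Set.mem_singleton_iff]
      show y ^ 2 + y = 0 ↔ _
      rw [show y ^ 2 + y = y * (y + 1) by ring, mul_eq_zero, CharTwo.add_eq_zero]
    show Nat.card ((asHom (F := F)).ker : Set F) = 2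
    rw [Nat.card_coe_set_eq, h, Set.ncard_pair zero_ne_one]
  have h1 := (asHom (F := F)).ker.card_mul_index
  have h2 := (asHom (F := F)).range.card_mul_index
  rw [AddSubgroup.index_ker, hk] at h1
  have hpos : 0 < Nat.card (asHom (F := F)).range := Nat.card_pos
  exact Nat.eq_of_mul_eq_mul_left hpos (by rw [h2, ← h1, mul_comm])

theorem reach {s : F} (h : s ∈ (asHom (F := F)).range) : ∃ c : F, c ^ 2 * s + c = 1 := by
  obtain ⟨y, rfl⟩ := h
  show ∃ c : F, c ^ 2 * (y ^ 2 + y) + c = 1
  by_cases hy : y ^ 2 + y = 0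
  · exact ⟨1, by rw [hy]; ring⟩
  · refine ⟨(y + 1)⁻¹, ?_⟩
    have : y + 1 ≠ 0 := fun h0 => hy (by linear_combination y * h0)
    field_simp

theorem psp_even_cover [Fintype F] (hm : 2 ≤ m) :
    ∃ H K : Subgroup (PSp m F), H ≠ ⊤ ∧ K ≠ ⊤ ∧
      ∀ g : PSp m F, ∃ x : PSp m F, x * g * x⁻¹ ∈ H ∨ x * g * x⁻¹ ∈ K := by
  classical
  obtain ⟨s, hs⟩ : ∃ s : F, s ∉ (asHom (F := F)).range := by
    by_contra h
    push Not at h
    have : (asHom (F := F)).range = ⊤ := (AddSubgroup.eq_top_iff' _).2 h
    have h2 := index_range_asHom (F := F)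
    rw [this, AddSubgroup.index_top] at h2
    exact absurd h2 (by norm_num)
  set u0 : Fin m ⊕ Fin m → F := Pi.single (.inl ⟨0, by omega⟩) s + Pi.single (.inr ⟨0, by omega⟩) 1
  have hu0 : qf u0 = s := by
    rw [qf, Finset.sum_eq_single (⟨0, by omega⟩ : Fin m)]
    · simp [u0]
    · intro b _ hb; simp [u0, hb]
    · simp
  refine quotient_cover _ (qStab 0) (qStab u0) (center_le_qStab _) (center_le_qStab _)
    (qStab_ne_top hm _) (qStab_ne_top hm _) fun g => ?_
  obtain ⟨v, hv⟩ := exists_fixed g
  have key : ∀ u : Fin m ⊕ Fin m → F, qv u (u + v) ∈ (asHom (F := F)).range →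
      ∃ x : symplecticGroup (Fin m) F, x * g * x⁻¹ ∈ qStab u := by
    intro u hu
    obtain ⟨c, hc⟩ := reach hu
    refine ⟨tv (u + v) c, fun y => ?_⟩
    have huv : u + (u + v) = v := by
      funext i
      simp only [Pi.add_apply]
      linear_combination CharTwo.add_self_eq_zero (u i)
    rw [mul_smul, mul_smul, qv_tv u (u + v) hc, huv, hv]
    have h2 := qv_tv u (u + v) hc ((tv (u + v) c)⁻¹ • y)
    rw [smul_inv_smul, huv] at h2
    exact h2.symm
  by_cases hq : qf v ∈ (asHom (F := F)).range
  · obtain ⟨x, hx⟩ := key 0 (by simpa [qv, form_zero_right] using hq)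
    exact ⟨x, Or.inl hx⟩
  · obtain ⟨x, hx⟩ := key u0 (by
      have e : qv u0 (u0 + v) = (s + qf v) + (sympForm m F u0 v ^ 2 + sympForm m F u0 v) := by
        have hB : sympForm m F (u0 + v) u0 = sympForm m F u0 v := by
          rw [form_add_left u0 v u0, form_self, zero_add, form_comm]
        rw [qv, qf_add, hu0, hB]; ring
      rw [e]
      exact add_mem ((AddSubgroup.add_mem_iff_of_index_two index_range_asHom).2
        (iff_of_false hs hq)) ⟨sympForm m F u0 v, rfl⟩)
    exact ⟨x, Or.inr hx⟩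

end CfsgLib.TwoCover.SympEven
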