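import Cfsg.Agent.Lib.TwoCover.SympThreeSplit

/-!
`Sp₆(3^a)`: the semisimple and the unipotent part of an element with one eigenvalue of `g + g⁻¹`.
-/

set_option autoImplicit false

namespace CfsgLib.TwoCover.SympThree

theorem comm_split {F R : Type*} [Field F] [CommRing R] [Algebra F R] (h3 : (3 : R) = 0)
    {G S : R} (hGS : G * S = 1) (c : F) (hc : c ^ 2 - 4 ≠ 0) (hQ : (G + S - algebraMap F R c) ^ 3 = 0) :
    ∃ z d : R, d = (G - S) * (1 + z) ∧
      z = (c ^ 2 - 4)⁻¹ • ((G + S - algebraMap F R c) * (G + S + algebraMap F R c)) ∧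
      d * d = algebraMap F R (c ^ 2 - 4) ∧
      (-algebraMap F R c - d) * (-algebraMap F R c - d) =
        algebraMap F R c * (-algebraMap F R c - d) - 1 ∧
      (G * (algebraMap F R c - (-algebraMap F R c - d))) ^ 3 = 1 ∧
      G * (algebraMap F R c - (-algebraMap F R c - d)) * (-algebraMap F R c - d) = G := by
  set C := algebraMap F R c with hC
  set k := algebraMap F R (c ^ 2 - 4) with hk
  set ki := algebraMap F R ((c ^ 2 - 4)⁻¹) with hki
  have hkk : k * ki = 1 := by rw [hk, hki, ← map_mul, mul_inv_cancel₀ hc, map_one]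
  have hkC : k = C ^ 2 - 4 := by rw [hk, map_sub, map_pow, map_ofNat]
  set z := (c ^ 2 - 4)⁻¹ • ((G + S - C) * (G + S + C)) with hz
  have hz' : z = ki * ((G + S - C) * (G + S + C)) := by rw [hz, Algebra.smul_def]
  have hz3 : z ^ 3 = 0 := by rw [hz', mul_pow, mul_pow, hQ, zero_mul, mul_zero]
  refine ⟨z, (G - S) * (1 + z), rfl, rfl, ?_⟩
  have h1 : (G - S) * (G - S) = k * (1 + z) := by
    linear_combination (-(G + S - C) * (G + S + C)) * hkk - k * hz' - 4 * hGS - hkC
  have hdd : (G - S) * (1 + z) * ((G - S) * (1 + z)) = k := by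
    linear_combination (1 + z) ^ 2 * h1 + k * hz3 + k * (z + z ^ 2) * h3
  set d := (G - S) * (1 + z) with hd
  have hs : (-C - d) * (-C - d) = C * (-C - d) - 1 := by
    linear_combination hdd + hkC + (C ^ 2 + C * d - 1) * h3
  refine ⟨hdd, hs, ?_, ?_⟩
  · have hs3 : (-C - d) ^ 3 = G ^ 3 := by
      have hd3 : d ^ 3 = (G - S) ^ 3 := by
        rw [hd]; linear_combination (G - S) ^ 3 * hz3 + (G - S) ^ 3 * (z + z ^ 2) * h3
      linear_combination (-1 : R) * hd3 + hQ
        + ((-C ^ 2 * d - C * d ^ 2) + (G + S) * C * (G + S - C) - G ^ 3 - 2 * G * S ^ 2) * h3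
    calc (G * (C - (-C - d))) ^ 3 = G ^ 3 * (C - (-C - d)) ^ 3 := mul_pow _ _ _
      _ = ((-C - d) * (C - (-C - d))) ^ 3 := by rw [← hs3, ← mul_pow]
      _ = 1 := by
        rw [show (-C - d) * (C - (-C - d)) = 1 by linear_combination -hs, one_pow]
  · linear_combination (-G) * hs

theorem comm_sq {R : Type*} [CommRing R] {G S C s σ : R} (hGS : G * S = 1) (hσs : σ * s = G)
    (hσ3 : σ ^ 3 = 1) (hs : s * s = C * s - 1) (h3 : (3 : R) = 0) :
    (G + S - C) ^ 2 = (1 + σ + σ * σ) * (s + (σ + 1) * (C - s)) ^ 2 := by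
  have hS : S = σ * σ * (C - s) := by
    have h1 : G * (σ * σ * (C - s)) = 1 := by
      linear_combination (-(σ * σ * (C - s))) * hσs + s * (C - s) * hσ3 - hs
    linear_combination (S) * h1.symm + (σ * σ * (C - s)) * hGS
  rw [show G + S - C = (σ - 1) * (s + (σ + 1) * (C - s)) by linear_combination hS - hσs,
    mul_pow, show (σ - 1) ^ 2 = 1 + σ + σ * σ by linear_combination (-σ) * h3]

end CfsgLib.TwoCover.SympThree
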