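import Cfsg.Agent.Lib.TwoCover.SympThreeReg
import Cfsg.Agent.Lib.Forms.Classify
import Cfsg.Agent.Lib.Forms.Witt

/-!
`Sp₆`: perpendiculars, parity of nondegenerate subspaces, invariant planes.
-/

set_option autoImplicit false

namespace CfsgLib.TwoCover.SympThree

open Matrix Cfsg CfsgLib.Linear.Symp

variable {F : Type*} [Field F]

local notation "V6" => Fin 3 ⊕ Fin 3 → F
local notation "M6" => Matrix (Fin 3 ⊕ Fin 3) (Fin 3 ⊕ Fin 3) F

/-- The symplectic form as a bilinear form. -/
def bil (F : Type*) [Field F] : LinearMap.BilinForm F (Fin 3 ⊕ Fin 3 → F) :=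
  LinearMap.mk₂ F (fun x y => sympForm 3 F x y) form_add_left
    (fun a x y => form_smul_left a x y) form_add_right (fun a x y => form_smul_right a x y)

theorem bil_apply (x y : V6) : bil F x y = sympForm 3 F x y := rfl

theorem bil_nondeg : (bil F).Nondegenerate :=
  ⟨fun x hx => eq_zero_of_forall_form hx,
    fun y hy => eq_zero_of_forall_form fun w => by rw [form_swap]; simp [← bil_apply, hy w]⟩

/-- Any functional is `B(·, w)`. -/
theorem exists_rep (l : V6 →ₗ[F] F) : ∃ w, ∀ x, sympForm 3 F x w = l x := by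
  obtain ⟨a, ha⟩ := Forms.bilin_represent (bil F) bil_nondeg (-l)
  refine ⟨a, fun x => ?_⟩
  rw [form_swap, ← bil_apply, ha x, LinearMap.neg_apply, neg_neg]

/-- The perpendicular of a subspace. -/
def perp (W : Submodule F V6) : Submodule F V6 where
  carrier := {y | ∀ w ∈ W, sympForm 3 F w y = 0}
  add_mem' := fun {a b} ha hb w hw => by rw [form_add_right, ha w hw, hb w hw, add_zero]
  zero_mem' := fun w _ => form_zero_right w
  smul_mem' := fun c a ha w hw => by rw [form_smul_right, ha w hw, mul_zero]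

theorem mem_perp {W : Submodule F V6} {y : V6} : y ∈ perp W ↔ ∀ w ∈ W, sympForm 3 F w y = 0 :=
  Iff.rfl

theorem finrank_perp (W : Submodule F V6) :
    Module.finrank F (perp W) + Module.finrank F W = 6 := by
  let L : V6 →ₗ[F] Module.Dual F W := W.subtype.dualMap ∘ₗ (bil F).flip
  have hker : LinearMap.ker L = perp W := by
    ext y
    rw [LinearMap.mem_ker, mem_perp]
    exact ⟨fun h w hw => LinearMap.congr_fun h ⟨w, hw⟩, fun h => LinearMap.ext fun w => h w.1 w.2⟩
  have hsurj : LinearMap.range L = ⊤ := LinearMap.range_eq_top.2 fun l => by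
    obtain ⟨l', hl'⟩ := LinearMap.exists_extend l
    obtain ⟨w, hw⟩ := exists_rep l'
    refine ⟨w, LinearMap.ext fun u => ?_⟩
    show sympForm 3 F u.1 w = l u
    rw [hw, ← hl']; rfl
  have h := LinearMap.finrank_range_add_finrank_ker L
  rw [hsurj, hker, finrank_top, Subspace.dual_finrank_eq, Module.finrank_fintype_fun_eq_card] at h
  simp at h
  omega

/-- Totally isotropic subspaces have dimension at most three. -/
theorem ti_le {W : Submodule F V6} (h : ∀ x ∈ W, ∀ y ∈ W, sympForm 3 F x y = 0) :
    Module.finrank F W ≤ 3 := by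
  have h1 := Submodule.finrank_mono (show W ≤ perp W from fun y hy w hw => h w hw y hy)
  have h2 := finrank_perp W
  omega

/-- A nondegenerate alternating form lives in even dimension. -/
theorem even_of_nondeg (B : LinearMap.BilinForm F V6) (hA : B.IsAlt) (W : Submodule F V6)
    (hW : ∀ x ∈ W, (∀ y ∈ W, B x y = 0) → x = 0) : Even (Module.finrank F W) := by
  classical
  obtain ⟨m, k, b, hmk, hspan, -, -, -, hrad⟩ := Forms.exists_symplectic_family B hA _ W rfl
  have hb : ∀ j, b (.inr j) = 0 := fun j =>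
    hW _ (hspan ▸ Submodule.subset_span (Set.mem_range_self _)) (hrad j)
  have hle : Module.finrank F W ≤ m + m := by
    have h1 : W ≤ Submodule.span F (Set.range fun i : Fin m ⊕ Fin m => b (.inl i)) := by
      refine hspan.ge.trans (Submodule.span_le.2 ?_)
      rintro _ ⟨(i | j), rfl⟩
      · exact Submodule.subset_span ⟨i, rfl⟩
      · rw [hb]; exact Submodule.zero_mem _
    have h2 := (Submodule.finrank_mono h1).trans (finrank_range_le_card _)
    simpa [Set.finrank] using h2
  exact ⟨m, by omega⟩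

/-- `g` stabilises a nondegenerate plane. -/
def HasPlane (G : M6) : Prop :=
  ∃ u w : V6, sympForm 3 F u w = 1 ∧ G *ᵥ u ∈ Submodule.span F {u, w} ∧
    G *ᵥ w ∈ Submodule.span F {u, w}

theorem hasPlane_of_two {G : M6} {U : Submodule F V6} (hU : Module.finrank F U = 2)
    (hinv : ∀ x ∈ U, G *ᵥ x ∈ U) (hnd : ∀ x ∈ U, (∀ y ∈ U, sympForm 3 F x y = 0) → x = 0) :
    HasPlane G := by
  obtain ⟨x, hx, hx0⟩ := Submodule.exists_mem_ne_zero_of_ne_bot (p := U) fun e => by
    rw [e, finrank_bot] at hU; omega
  obtain ⟨y, hy, hxy⟩ : ∃ y ∈ U, sympForm 3 F x y ≠ 0 := by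
    by_contra hc
    push Not at hc
    exact hx0 (hnd x hx hc)
  set w := (sympForm 3 F x y)⁻¹ • y with hw
  have hxw : sympForm 3 F x w = 1 := by rw [hw, form_smul_right, inv_mul_cancel₀ hxy]
  have hspan : Submodule.span F {x, w} = U := by
    have hle : Submodule.span F {x, w} ≤ U := Submodule.span_le.2 (by
      rintro z (rfl | rfl)
      · exact hx
      · exact U.smul_mem _ hy)
    refine Submodule.eq_of_le_of_finrank_le hle ?_
    have hli : LinearIndependent F ![x, w] := by
      rw [LinearIndependent.pair_iff]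
      intro s t hst
      have h1 := congrArg (fun z => sympForm 3 F x z) hst
      simp only [form_add_right, form_smul_right, form_self, hxw, mul_zero, zero_add, mul_one,
        form_zero_right] at h1
      rw [h1, zero_smul, add_zero] at hst
      exact ⟨(smul_eq_zero.1 hst).resolve_right hx0, h1⟩
    have h2 := finrank_span_eq_card hli
    rw [Matrix.range_cons, Matrix.range_cons, Matrix.range_empty, Set.union_empty, Set.singleton_union,
      Fintype.card_fin] at h2
    omega
  exact ⟨x, w, hxw, by rw [hspan]; exact hinv x hx, by rw [hspan]; exact hinv w (U.smul_mem _ hy)⟩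

theorem hasPlane_of_ne {G : M6} {x : V6} {c : F} (hx : sympForm 3 F x (G *ᵥ x) ≠ 0)
    (hGG : G *ᵥ (G *ᵥ x) = c • (G *ᵥ x) - x) : HasPlane G := by
  refine ⟨x, (sympForm 3 F x (G *ᵥ x))⁻¹ • (G *ᵥ x), by rw [form_smul_right, inv_mul_cancel₀ hx], ?_, ?_⟩
  · refine Submodule.mem_span_pair.2 ⟨0, sympForm 3 F x (G *ᵥ x), ?_⟩
    rw [zero_smul, zero_add, smul_smul, mul_inv_cancel₀ hx, one_smul]
  · refine Submodule.mem_span_pair.2 ⟨-(sympForm 3 F x (G *ᵥ x))⁻¹, c, ?_⟩
    rw [mulVec_smul, hGG]
    module

end CfsgLib.TwoCover.SympThree
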