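import Cfsg.Agent.Lib.TwoCover.SympThreeAlg

/-!
`Sp₆(3^a)`: an element with one eigenvalue `c ≠ -2` of `g + g⁻¹` has an invariant plane or a model form.
-/

set_option autoImplicit false

namespace CfsgLib.TwoCover.SympThree

open Matrix Cfsg CfsgLib.Linear.Symp Polynomial

variable {F : Type*} [Field F] [CharP F 3]

local notation "V6" => Fin 3 ⊕ Fin 3 → F
local notation "M6" => Matrix (Fin 3 ⊕ Fin 3) (Fin 3 ⊕ Fin 3) F

/-- `G` is conjugate to a tensor model or to a regular unipotent model. -/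
def ToModel (G : M6) : Prop :=
  ∃ h : symplecticGroup (Fin 3) F,
    (∃ p r s u : F, p * u - s * r = 1 ∧
      G * h.1 = h.1 * fromBlocks (p • cyc F) (s • cyc F) (r • cyc F) (u • cyc F)) ∨
    ∃ μ : F, μ ≠ 0 ∧ G * h.1 = h.1 * regModel μ

omit [CharP F 3] in
theorem mem_ker_iff (A : M6) (v : V6) : v ∈ LinearMap.ker (mulVecLin A) ↔ A *ᵥ v = 0 := Iff.rfl

omit [CharP F 3] in
theorem rank_add_ker (A : M6) :
    Module.finrank F (LinearMap.range (mulVecLin A)) + Module.finrank F (LinearMap.ker (mulVecLin A)) = 6 := by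
  have h := LinearMap.finrank_range_add_finrank_ker (mulVecLin A)
  rw [Module.finrank_fintype_fun_eq_card] at h
  simpa using h

omit [CharP F 3] in
theorem exists_form_ne {A : M6} (hA : A ≠ 0) : ∃ x y, sympForm 3 F x (A *ᵥ y) ≠ 0 := by
  by_contra hc
  push Not at hc
  refine hA (Matrix.ext_iff_mulVec.2 fun y => ?_)
  rw [zero_mulVec]
  exact eq_zero_of_forall_form fun w => by rw [form_swap, hc, neg_zero]

theorem even_range {Q : M6} (hadj : ∀ u v, sympForm 3 F (Q *ᵥ u) v = sympForm 3 F u (Q *ᵥ v)) :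
    Even (Module.finrank F (LinearMap.range (mulVecLin Q))) := by
  let B : LinearMap.BilinForm F V6 := (bil F).compl₂ (mulVecLin Q)
  have hB : ∀ u v, B u v = sympForm 3 F u (Q *ᵥ v) := fun u v => rfl
  have hA : B.IsAlt := fun x => by
    rw [hB]
    have h := hadj x x
    rw [form_swap] at h
    have h2 : (2 : F) * sympForm 3 F x (Q *ᵥ x) = 0 := by linear_combination -h
    exact (mul_eq_zero.1 h2).resolve_left two_ne
  obtain ⟨W, hW⟩ := Submodule.exists_isCompl (LinearMap.ker (mulVecLin Q))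
  have hnd : ∀ x ∈ W, (∀ y ∈ W, B x y = 0) → x = 0 := by
    intro x hx h
    have h0 : Q *ᵥ x = 0 := eq_zero_of_forall_form fun v => by
      obtain ⟨k, hk, w, hw, rfl⟩ := Submodule.mem_sup.1 (hW.sup_eq_top ▸ Submodule.mem_top (x := v))
      rw [hadj, mulVec_add, (mem_ker_iff Q k).1 hk, zero_add, ← hB, h w hw]
    have : x ∈ LinearMap.ker (mulVecLin Q) ⊓ W := ⟨h0, hx⟩
    rwa [hW.inf_eq_bot, Submodule.mem_bot] at this
  have h := even_of_nondeg B hA W hnd
  have h1 := Submodule.finrank_add_eq_of_isCompl hW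
  rw [Module.finrank_fintype_fun_eq_card] at h1
  simp at h1
  have h2 := rank_add_ker Q
  rwa [show Module.finrank F W = Module.finrank F (LinearMap.range (mulVecLin Q)) by omega] at h

/-- From an adjusted pair to the tensor model. -/
theorem pair_model {G σ : M6} (hiso : ∀ u v, sympForm 3 F (σ *ᵥ u) (σ *ᵥ v) = sympForm 3 F u v)
    (h3 : σ * σ * σ = 1) (hcomm : G * σ = σ * G) {x y : V6} {e : F} (he : e ≠ 0)
    (hx : sympForm 3 F x (σ *ᵥ x) = 0) (hy : sympForm 3 F y (σ *ᵥ y) = 0)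
    (hxy1 : sympForm 3 F x (σ *ᵥ y) = 0) (hxy2 : sympForm 3 F x (σ *ᵥ (σ *ᵥ y)) = 0)
    (hxy : sympForm 3 F x y = e) {p r s u : F} (hdet : p * u - s * r = 1)
    (hGx : G *ᵥ x = p • (σ *ᵥ x) + r • ((-e⁻¹) • (σ *ᵥ y)))
    (hGy : G *ᵥ ((-e⁻¹) • y) = s • (σ *ᵥ x) + u • ((-e⁻¹) • (σ *ᵥ y))) : ToModel G := by
  obtain ⟨h, hh⟩ := pair_frame hiso h3 he hx hy hxy1 hxy2 hxy
  have s3 : ∀ v, σ *ᵥ (σ *ᵥ (σ *ᵥ v)) = v := fun v => by
    rw [mulVec_mulVec, mulVec_mulVec, h3, one_mulVec]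
  have hc : ∀ v, G *ᵥ (σ *ᵥ v) = σ *ᵥ (G *ᵥ v) := fun v => by
    rw [mulVec_mulVec, mulVec_mulVec, hcomm]
  have hGy' : G *ᵥ y = (-e) • (s • (σ *ᵥ x) + u • ((-e⁻¹) • (σ *ᵥ y))) := by
    rw [← hGy, mulVec_smul, smul_smul, neg_mul_neg, mul_inv_cancel₀ he, one_smul]
  refine ⟨h, Or.inl ⟨p, r, s, u, hdet, frame_conj fun j => ?_⟩⟩
  rw [hh, hh]
  simp only [mulVec_add, mulVec_smul, hc, hGx, hGy', s3]
  have hR : ∀ v w : Fin 3 → F, fromBlocks (p • cyc F) (s • cyc F) (r • cyc F) (u • cyc F) *ᵥ Sum.elim v w =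
      Sum.elim (p • ![v 2, v 0, v 1] + s • ![w 2, w 0, w 1]) (r • ![v 2, v 0, v 1] + u • ![w 2, w 0, w 1]) :=
    fun v w => by
      rw [fromBlocks_mulVec]
      simp [smul_mulVec, cyc_mulVec]
  rw [← Sum.elim_comp_inl_inr (Pi.single j (1 : F)), hR]
  rcases j with i | i <;> fin_cases i <;> simp <;> match_scalars <;> field_simp <;> ring

section

variable {g : symplecticGroup (Fin 3) F}

theorem form_polar {U : Submodule F V6} (hinv : ∀ x ∈ U, g.1 *ᵥ x ∈ U)
    (hno : ∀ x ∈ U, sympForm 3 F x (g.1 *ᵥ x) = 0) :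
    ∀ x ∈ U, ∀ y ∈ U, sympForm 3 F x ((g.1 - (g⁻¹).1) *ᵥ y) = 0 := by
  intro x hx y hy
  have _ := hinv x hx
  have h := hno _ (U.add_mem hx hy)
  rw [mulVec_add, form_add_left, form_add_right, form_add_right, hno x hx, hno y hy] at h
  rw [sub_mulVec, form_sub_right]
  have h2 : sympForm 3 F y (g.1 *ᵥ x) = -sympForm 3 F x ((g⁻¹).1 *ᵥ y) := by
    rw [form_swap, form_g_left]
  linear_combination h - h2

theorem ker_inv (g : symplecticGroup (Fin 3) F) (c : F) : ∀ x ∈ LinearMap.ker (mulVecLin (tr' g - c • 1)),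
    g.1 *ᵥ x ∈ LinearMap.ker (mulVecLin (tr' g - c • 1)) := by
  intro x hx
  rw [mem_ker_iff] at hx ⊢
  rw [mulVec_mulVec, show (tr' g - c • 1) * g.1 = g.1 * (tr' g - c • 1) by
    rw [sub_mul, mul_sub, tr_comm, smul_one_mul, mul_smul_one], ← mulVec_mulVec, hx, mulVec_zero]

theorem q_adj (g : symplecticGroup (Fin 3) F) (c : F) (u v : V6) :
    sympForm 3 F ((tr' g - c • 1) *ᵥ u) v = sympForm 3 F u ((tr' g - c • 1) *ᵥ v) := by
  simp only [sub_mulVec, smul_mulVec, one_mulVec, form_sub_left, form_sub_right, form_smul_left,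
    form_smul_right, tr_adj]

theorem gg_of_ker {c : F} {x : V6} (hx : (tr' g - c • 1) *ᵥ x = 0) :
    g.1 *ᵥ (g.1 *ᵥ x) = c • (g.1 *ᵥ x) - x ∧ (g⁻¹).1 *ᵥ x = c • x - g.1 *ᵥ x := by
  rw [sub_mulVec, smul_mulVec, one_mulVec, sub_eq_zero, tr', add_mulVec] at hx
  refine ⟨?_, by rw [← hx]; abel⟩
  rw [← mulVec_smul, ← hx, mulVec_add, mulVec_mulVec _ g.1 (g⁻¹).1, mul_inv_coe, one_mulVec]
  abel

theorem ker_ti (c : F) (hc : c ^ 2 - 4 ≠ 0)
    (hno : ∀ x ∈ LinearMap.ker (mulVecLin (tr' g - c • 1)), sympForm 3 F x (g.1 *ᵥ x) = 0) :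
    ∀ x ∈ LinearMap.ker (mulVecLin (tr' g - c • 1)), ∀ y ∈ LinearMap.ker (mulVecLin (tr' g - c • 1)),
      sympForm 3 F x y = 0 := by
  intro x hx y hy
  set U := LinearMap.ker (mulVecLin (tr' g - c • 1))
  have hw : ∀ z ∈ U, (g.1 - (g⁻¹).1) *ᵥ z = (2 : F) • (g.1 *ᵥ z) - c • z := fun z hz => by
    rw [sub_mulVec, (gg_of_ker ((mem_ker_iff _ _).1 hz)).2]
    module
  have hwU : (g.1 - (g⁻¹).1) *ᵥ y ∈ U := by
    rw [hw y hy]
    exact U.sub_mem (U.smul_mem _ (ker_inv g c y hy)) (U.smul_mem _ hy)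
  have h := form_polar (ker_inv g c) hno x hx _ hwU
  rw [hw _ hwU, hw y hy, mulVec_sub, mulVec_smul, mulVec_smul, (gg_of_ker ((mem_ker_iff _ _).1 hy)).1] at h
  simp only [smul_sub, form_sub_right, form_smul_right] at h
  have h' : (c ^ 2 - 4) * sympForm 3 F x y = 0 := by linear_combination h
  exact (mul_eq_zero.1 h').resolve_left hc

/-- Semisimple type, `Q² = 0`. -/
theorem case_small {c : F} (hc : c ^ 2 - 4 ≠ 0) (hQ : (tr' g - c • 1) * (tr' g - c • 1) = 0) :
    HasPlane g.1 := by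
  by_contra hP
  set Q := tr' g - c • 1 with hQd
  have hno : ∀ x ∈ LinearMap.ker (mulVecLin Q), sympForm 3 F x (g.1 *ᵥ x) = 0 := fun x hx => by
    by_contra h
    exact hP (hasPlane_of_ne h (gg_of_ker ((mem_ker_iff _ _).1 hx)).1)
  have h1 := ti_le (ker_ti c hc hno)
  have h2 : LinearMap.range (mulVecLin Q) ≤ LinearMap.ker (mulVecLin Q) := by
    rintro _ ⟨v, rfl⟩
    rw [mem_ker_iff, mulVecLin_apply, mulVec_mulVec, hQ, zero_mulVec]
  have h3 := Submodule.finrank_mono h2
  have h4 := rank_add_ker Q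
  obtain ⟨k, hk⟩ := even_range (q_adj g c)
  rw [← hQd] at hk h1
  omega

/-- Semisimple type, `Q² ≠ 0`. -/
theorem case_tensor {c : F} (hc : c ^ 2 - 4 ≠ 0) (hQ3 : (tr' g - c • 1) ^ 3 = 0)
    (hQ2 : (tr' g - c • 1) * (tr' g - c • 1) ≠ 0) : ToModel g.1 := by
  classical
  set G := g.1 with hG
  set S := (g⁻¹).1 with hS
  set A : Subalgebra F M6 := Algebra.adjoin F {G, S} with hA
  letI : CommRing A := Algebra.adjoinCommRingOfComm F (by
    rintro a (rfl | rfl) b (rfl | rfl)
    · rfl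
    · rw [hG, hS, mul_inv_coe, inv_mul_coe]
    · rw [hG, hS, mul_inv_coe, inv_mul_coe]
    · rfl)
  set G' : A := ⟨G, Algebra.subset_adjoin (by simp)⟩
  set S' : A := ⟨S, Algebra.subset_adjoin (by simp)⟩
  have h3A : (3 : A) = 0 := by
    have h := congrArg (algebraMap F A) (three_eq_zero (F := F))
    rwa [map_ofNat, map_zero] at h
  have hGS : G' * S' = 1 := Subtype.ext (mul_inv_coe g)
  have hQA : (G' + S' - algebraMap F A c) ^ 3 = 0 := Subtype.ext (by
    show (G + S - algebraMap F M6 c) ^ 3 = 0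
    rw [Algebra.algebraMap_eq_smul_one]
    exact hQ3)
  obtain ⟨z, d, hd, hz, hdd, hss, hσ3, hσs⟩ := comm_split h3A hGS c hc hQA
  have hQ2A := comm_sq hGS hσs hσ3 hss h3A
  set s : M6 := ((-algebraMap F A c - d : A) : M6) with hsdef
  set σ : M6 := ((G' * (algebraMap F A c - (-algebraMap F A c - d)) : A) : M6) with hσdef
  have e1 : σ * σ * σ = 1 := by
    have h := congrArg Subtype.val hσ3
    rw [pow_succ, pow_two] at h
    exact h
  have e2 : σ * s = G := congrArg Subtype.val hσs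
  have e3 : s * σ = σ * s := congrArg Subtype.val
    (mul_comm (-algebraMap F A c - d) (G' * (algebraMap F A c - (-algebraMap F A c - d))))
  have e4 : s * s = c • s - 1 := by
    have h := congrArg Subtype.val hss
    rw [Algebra.smul_def]
    exact h
  have e5 : G * σ = σ * G := congrArg Subtype.val (mul_comm G' _)
  have e6 : σ = G * (c • 1 - s) := by
    rw [← Algebra.algebraMap_eq_smul_one]; rfl
  have hdm : (d : M6) = (G - S) * (1 + aeval (tr' g)
      (Polynomial.C (c ^ 2 - 4)⁻¹ * ((X - Polynomial.C c) * (X + Polynomial.C c)))) := by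
    rw [hd, hz, map_mul, aeval_C, ← Algebra.smul_def, map_mul, map_sub, map_add, aeval_X, aeval_C]
    rfl
  have hadjd : ∀ u v, sympForm 3 F ((d : M6) *ᵥ u) v = -sympForm 3 F u ((d : M6) *ᵥ v) := by
    intro u v
    rw [hdm]
    set r := 1 + aeval (tr' g) (Polynomial.C (c ^ 2 - 4)⁻¹ * ((X - Polynomial.C c) * (X + Polynomial.C c)))
      with hr
    have hradj : ∀ u v, sympForm 3 F (r *ᵥ u) v = sympForm 3 F u (r *ᵥ v) := fun u v => by
      rw [hr, add_mulVec, add_mulVec, one_mulVec, one_mulVec, form_add_left, form_add_right,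
        aeval_adj (tr_adj g)]
    have hcomm : r * (G - S) = (G - S) * r := by
      have hST : S * tr' g = tr' g * S := by
        rw [tr', mul_add, add_mul, ← hG, ← hS, hG, hS, mul_inv_coe, inv_mul_coe]
      rw [hr]
      exact (((Commute.one_left _).add_left (Commute.symm (Commute.sub_left
        (comm_aeval (tr_comm g) _) (comm_aeval hST _))))).eq
    rw [← mulVec_mulVec, sub_mulVec, form_sub_left, hG, hS, form_g_left, form_inv_left, hradj, hradj,
      ← mulVec_mulVec v, mulVec_mulVec _ r, mulVec_mulVec _ r, ← form_sub_right, ← sub_mulVec, ← mul_sub]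
    rw [← hG, ← hS, mulVec_mulVec, ← hcomm, ← neg_sub G S, mul_neg, neg_mulVec, form_neg_right]
  have hsadj : ∀ u v, sympForm 3 F (s *ᵥ u) v = sympForm 3 F u (c • v - s *ᵥ v) := by
    intro u v
    have : s = -(c • (1 : M6)) - (d : M6) := by
      rw [← Algebra.algebraMap_eq_smul_one]; rfl
    simp only [this, sub_mulVec, neg_mulVec, smul_mulVec, one_mulVec, form_sub_left, form_sub_right,
      form_neg_left, form_neg_right, form_smul_left, form_smul_right, hadjd]
    linear_combination (-c * sympForm 3 F u v) * (three_eq_zero (F := F))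
  have hiso : ∀ u v, sympForm 3 F (σ *ᵥ u) (σ *ᵥ v) = sympForm 3 F u v := by
    intro u v
    have e7 : s * (c • 1 - s) = 1 := by
      rw [mul_sub, mul_smul_one, e4, sub_sub_cancel]
    rw [e6, ← mulVec_mulVec, ← mulVec_mulVec, hG, form_mulVec g.2]
    have h : ∀ w, (c • (1 : M6) - s) *ᵥ w = c • w - s *ᵥ w := fun w => by
      rw [sub_mulVec, smul_mulVec, one_mulVec]
    conv_lhs => rw [h v, ← hsadj, mulVec_mulVec, e7, one_mulVec]
  obtain ⟨x, hx⟩ : ∃ x, sympForm 3 F x ((1 + σ + σ * σ) *ᵥ (s *ᵥ x)) ≠ 0 := by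
    by_contra hno
    push Not at hno
    set E := 1 + σ + σ * σ with hE
    have hσl : ∀ u v, sympForm 3 F (σ *ᵥ u) v = sympForm 3 F u (σ *ᵥ (σ *ᵥ v)) := fun u v => by
      conv_lhs => rw [← one_mulVec v, ← e1, mul_assoc, ← mulVec_mulVec, hiso, ← mulVec_mulVec]
    have hEadj : ∀ u v, sympForm 3 F (E *ᵥ u) v = sympForm 3 F u (E *ᵥ v) := fun u v => by
      simp only [hE, add_mulVec, one_mulVec, form_add_left, form_add_right, ← mulVec_mulVec, hσl]
      rw [mulVec_mulVec (σ *ᵥ v) σ σ, mulVec_mulVec _ (σ * σ) σ, e1, one_mulVec]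
      ring
    have hEs : E * s = s * E := by
      simp only [hE, add_mul, mul_add, one_mul, mul_one, e3, ← mul_assoc]
      rw [mul_assoc σ s σ, e3, ← mul_assoc]
    have h0 : ∀ u v, sympForm 3 F u (E *ᵥ ((2 : F) • (s *ᵥ v) - c • v)) = 0 := by
      intro u v
      have h := hno (u + v)
      simp only [mulVec_add, form_add_left, form_add_right, hno, zero_add, add_zero] at h
      have h2 : sympForm 3 F v (E *ᵥ (s *ᵥ u)) = -sympForm 3 F u (E *ᵥ (c • v - s *ᵥ v)) := by
        rw [form_swap, hEadj, hsadj, mulVec_sub, mulVec_smul, mulVec_mulVec, mulVec_mulVec, hEs]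
      simp only [h2, mulVec_sub, mulVec_smul, form_sub_right, form_smul_right] at h ⊢
      linear_combination h
    have hE0 : E = 0 := by
      refine Matrix.ext_iff_mulVec.2 fun v => ?_
      rw [zero_mulVec]
      refine eq_zero_of_forall_form fun u => ?_
      rw [form_swap, neg_eq_zero]
      have hw : (2 : F) • (s *ᵥ ((2 : F) • (s *ᵥ v) - c • v)) - c • ((2 : F) • (s *ᵥ v) - c • v) =
          (c ^ 2 - 4) • v := by
        rw [mulVec_sub, mulVec_smul, mulVec_smul, mulVec_mulVec, e4, sub_mulVec, smul_mulVec, one_mulVec]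
        module
      have h := h0 u ((2 : F) • (s *ᵥ v) - c • v)
      rw [hw, mulVec_smul, form_smul_right] at h
      exact (mul_eq_zero.1 h).resolve_left hc
    refine hQ2 ?_
    have h := congrArg Subtype.val hQ2A
    rw [pow_two] at h
    change (G + S - algebraMap F M6 c) * (G + S - algebraMap F M6 c) = E * _ at h
    rw [hE0, zero_mul, Algebra.algebraMap_eq_smul_one] at h
    exact h
  obtain ⟨x', y', hx', hy', hxy1, hxy2, hxy, hs'⟩ := adjust hiso e1 x (s *ᵥ x) hx rfl
  have hsy : s *ᵥ (s *ᵥ x) = c • (s *ᵥ x) - x := by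
    rw [mulVec_mulVec, e4, sub_mulVec, smul_mulVec, one_mulVec]
  have hy : y' = s *ᵥ x' := (hs' s c e3 hsadj rfl hsy).symm
  set e := sympForm 3 F x ((1 + σ + σ * σ) *ᵥ (s *ᵥ x)) with he
  have hsy' : s *ᵥ y' = c • y' - x' := by
    rw [hy, mulVec_mulVec, e4, sub_mulVec, smul_mulVec, one_mulVec]
  refine pair_model hiso e1 e5 hx hx' hy' hxy1 hxy2 hxy (p := 0) (r := -e) (s := e⁻¹) (u := c)
    (by rw [zero_mul, mul_neg, inv_mul_cancel₀ hx]; ring) ?_ ?_
  · rw [← e2, ← mulVec_mulVec, ← hy, zero_smul, zero_add, smul_smul, neg_mul_neg, mul_inv_cancel₀ hx,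
      one_smul]
  · rw [← e2, mulVec_smul, ← mulVec_mulVec, hsy', mulVec_sub, mulVec_smul]
    module

/-- Unipotent, `Q² = 0`. -/
theorem case_unip {Q : M6} (hQd : Q = tr' g - (2 : F) • 1) (hQQ : Q * Q = 0) :
    HasPlane g.1 ∨ ToModel g.1 := by
  by_cases hP : HasPlane g.1
  · exact Or.inl hP
  right
  subst hQd
  set G := g.1 with hG
  set Q := tr' g - (2 : F) • 1 with hQd
  set N := G - 1 with hN
  have three := three_eq_zero (F := F)
  have hNN : N * N = G * Q := by
    rw [hQd, tr', hN, mul_sub, mul_sub, mul_add, mul_one, ← hG, hG, mul_inv_coe, ← hG, mul_smul_one,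
      sub_mul, one_mul]
    module
  have hGQ : G * Q = Q * G := by
    rw [hQd, mul_sub, sub_mul, hG, tr_comm, smul_one_mul, mul_smul_one]
  have hNQ : N * Q = Q * N := by rw [hN, sub_mul, one_mul, hGQ, mul_sub Q G 1, mul_one]
  have hker : ∀ x, Q *ᵥ x = 0 → (G - (g⁻¹).1) *ᵥ x = (2 : F) • (N *ᵥ x) := fun x hx => by
    rw [sub_mulVec, (gg_of_ker hx).2, hN, sub_mulVec, one_mulVec, ← hG]
    module
  have hno : ∀ x ∈ LinearMap.ker (mulVecLin Q), sympForm 3 F x (G *ᵥ x) = 0 := fun x hx => by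
    by_contra h
    exact hP (hasPlane_of_ne h (gg_of_ker ((mem_ker_iff _ _).1 hx)).1)
  have hpol : ∀ x ∈ LinearMap.ker (mulVecLin Q), ∀ y ∈ LinearMap.ker (mulVecLin Q),
      sympForm 3 F x (N *ᵥ y) = 0 := fun x hx y hy => by
    have h := form_polar (ker_inv g 2) hno x hx y hy
    rw [← hG, hker y hy, form_smul_right] at h
    exact (mul_eq_zero.1 h).resolve_left two_ne
  set R := LinearMap.range (mulVecLin Q) with hR
  set K := LinearMap.ker (mulVecLin Q) with hK
  have hRK : R ≤ K := by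
    rintro _ ⟨v, rfl⟩
    rw [hK, mem_ker_iff, mulVecLin_apply, mulVec_mulVec, hQQ, zero_mulVec]
  have hdim := rank_add_ker Q
  rw [← hR, ← hK] at hdim
  obtain ⟨k, hk⟩ := even_range (q_adj g 2)
  rw [← hQd, ← hR] at hk
  have hle := Submodule.finrank_mono hRK
  have hperp : perp K = R := by
    refine (Submodule.eq_of_le_of_finrank_le ?_ ?_).symm
    · rintro _ ⟨v, rfl⟩ w hw
      rw [mulVecLin_apply, ← q_adj g 2, ← hQd, (mem_ker_iff _ _).1 hw, form_zero_left]
    · have := finrank_perp K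
      omega
  have hNK : ∀ y ∈ K, N *ᵥ y ∈ R := fun y hy => by
    rw [← hperp]
    exact fun w hw => hpol w hw y hy
  by_cases hQ0 : Q = 0
  · exfalso
    have hN0 : N = 0 := by
      refine Matrix.ext_iff_mulVec.2 fun y => ?_
      rw [zero_mulVec]
      obtain ⟨v, hv⟩ := hNK y (by rw [hK, mem_ker_iff, hQ0, zero_mulVec])
      rw [← hv, mulVecLin_apply, hQ0, zero_mulVec]
    have hG1 : G = 1 := sub_eq_zero.1 hN0
    refine hP ⟨Pi.single (.inr 0) 1, Pi.single (.inl 0) 1, by simp [form_single_inl], ?_, ?_⟩ <;>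
      rw [hG1, one_mulVec] <;> exact Submodule.subset_span (by simp)
  have hk1 : Module.finrank F R = 2 := by
    have : Module.finrank F R ≠ 0 := fun e => hQ0 (Matrix.ext_iff_mulVec.2 fun v => by
      have hm : Q *ᵥ v ∈ R := ⟨v, rfl⟩
      rw [Submodule.finrank_eq_zero.1 e, Submodule.mem_bot] at hm
      rw [hm, zero_mulVec])
    omega
  by_cases hNQ0 : N * Q = 0
  · have hσ3 : G * G * G = 1 := by
      have h1 : N * N * N = 0 := by rw [hNN, mul_assoc, ← hNQ, hNQ0, mul_zero]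
      have e : G * G * G = N * N * N + (3 : F) • (N * N) + (3 : F) • N + 1 := by
        rw [hN]
        simp only [sub_mul, mul_sub, one_mul, mul_one]
        module
      rw [e, h1, three, zero_smul, zero_smul, add_zero, add_zero, zero_add]
    have hE : 1 + G + G * G ≠ 0 := by
      have e : 1 + G + G * G = N * N + (3 : F) • G := by
        rw [hN]; simp only [sub_mul, mul_sub, one_mul, mul_one]; module
      rw [e, three, zero_smul, add_zero, hNN]
      intro h0
      exact hQ0 (by rw [← one_mul Q, ← inv_mul_coe g, mul_assoc, ← hG, h0, mul_zero])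
    obtain ⟨x, y, hxy⟩ := exists_form_ne hE
    have hiso : ∀ u v, sympForm 3 F (G *ᵥ u) (G *ᵥ v) = sympForm 3 F u v := form_mulVec g.2
    obtain ⟨x', y', hx', hy', h1, h2, h3, -⟩ := adjust hiso hσ3 x y hxy rfl
    refine pair_model hiso hσ3 rfl hxy hx' hy' h1 h2 h3 (p := 1) (r := 0) (s := 0) (u := 1) (by ring) ?_ ?_
    · rw [one_smul, zero_smul, add_zero]
    · rw [one_smul, zero_smul, zero_add, mulVec_smul]
  exfalso
  set KN := LinearMap.ker (mulVecLin N) with hKN
  have hKNK : KN ≤ K := fun x hx => by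
    rw [hK, mem_ker_iff, ← one_mulVec (Q *ᵥ x), ← inv_mul_coe g, ← mulVec_mulVec, ← hG, mulVec_mulVec _ G,
      ← hNN, ← mulVec_mulVec x N, (mem_ker_iff _ _).1 hx, mulVec_zero, mulVec_zero]
  have hlt : Module.finrank F (R ⊓ KN : Submodule F V6) ≤ 1 := by
    by_contra hgt
    refine hNQ0 (Matrix.ext_iff_mulVec.2 fun v => ?_)
    have h : R ⊓ KN = R := Submodule.eq_of_le_of_finrank_le inf_le_left (by omega)
    rw [zero_mulVec, ← mulVec_mulVec]
    exact (mem_ker_iff _ _).1 (h.ge ⟨v, rfl⟩).2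
  have hK3 : 3 ≤ Module.finrank F KN := by
    have h := LinearMap.finrank_range_add_finrank_ker ((mulVecLin N).domRestrict K)
    have h1 : LinearMap.range ((mulVecLin N).domRestrict K) ≤ R ⊓ KN := by
      rintro _ ⟨⟨y, hy⟩, rfl⟩
      refine ⟨hNK y hy, ?_⟩
      rw [SetLike.mem_coe, hKN, mem_ker_iff]
      show N *ᵥ (N *ᵥ y) = 0
      rw [mulVec_mulVec, hNN, ← mulVec_mulVec, (mem_ker_iff _ _).1 hy, mulVec_zero]
    have h2 := Submodule.finrank_mono h1
    have h3 : Module.finrank F (LinearMap.ker ((mulVecLin N).domRestrict K)) ≤ Module.finrank F KN := by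
      rw [LinearMap.ker_domRestrict, ← Submodule.finrank_map_subtype_eq, Submodule.map_comap_subtype]
      exact Submodule.finrank_mono inf_le_right
    omega
  have hti : ∀ x ∈ KN, ∀ y ∈ KN, sympForm 3 F x y = 0 := by
    intro x hx y hy
    by_contra h
    rw [hKN, mem_ker_iff, hN, sub_mulVec, one_mulVec, sub_eq_zero] at hx hy
    refine hP ⟨x, (sympForm 3 F x y)⁻¹ • y, by rw [form_smul_right, inv_mul_cancel₀ h], ?_, ?_⟩
    · rw [hx]; exact Submodule.subset_span (by simp)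
    · rw [mulVec_smul, hy]; exact Submodule.subset_span (by simp)
  have hperp2 : LinearMap.range (mulVecLin N) ≤ perp KN := by
    rintro _ ⟨v, rfl⟩ w hw
    rw [hKN, mem_ker_iff, hN, sub_mulVec, one_mulVec, sub_eq_zero] at hw
    rw [mulVecLin_apply, hN, sub_mulVec, one_mulVec, form_sub_right, hG]
    conv_lhs => arg 1; rw [← hw, hG, form_mulVec g.2]
    rw [sub_self]
  have hK3' := ti_le hti
  have hp := finrank_perp KN
  have hr := rank_add_ker N
  rw [← hKN] at hr
  have e1 : perp KN = KN := (Submodule.eq_of_le_of_finrank_le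
    (show KN ≤ perp KN from fun y hy w hw => hti w hw y hy) (by omega)).symm
  refine hQ0 (Matrix.ext_iff_mulVec.2 fun v => ?_)
  have h := (mem_ker_iff _ _).1 (e1.le (hperp2 ⟨v, rfl⟩))
  rw [mulVecLin_apply, mulVec_mulVec, hNN, ← mulVec_mulVec] at h
  have h' := congrArg ((g⁻¹).1 *ᵥ ·) h
  simp only [mulVec_zero] at h'
  rw [mulVec_mulVec, hG, inv_mul_coe, one_mulVec] at h'
  rw [h', zero_mulVec]

/-- Unipotent, `Q² ≠ 0`: the element is regular. -/
theorem case_regular {Q : M6} (hQd : Q = tr' g - (2 : F) • 1) (hQ3 : Q ^ 3 = 0) (hQQ : Q * Q ≠ 0) :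
    ToModel g.1 := by
  subst hQd
  set G := g.1 with hG
  set Q := tr' g - (2 : F) • 1 with hQd
  set N := G - 1 with hN
  have hNN : N * N = G * Q := by
    rw [hQd, tr', hN, mul_sub, mul_sub, mul_add, mul_one, ← hG, hG, mul_inv_coe, ← hG, mul_smul_one,
      sub_mul, one_mul]
    module
  have hGQ : Commute G Q := by
    show G * Q = Q * G
    rw [hQd, mul_sub, sub_mul, hG, tr_comm, smul_one_mul, mul_smul_one]
  have hpow : ∀ k, N ^ (2 * k) = G ^ k * Q ^ k := fun k => by
    rw [pow_mul, pow_two, hNN, hGQ.mul_pow]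
  have h6 : N ^ 6 = 0 := by rw [show 6 = 2 * 3 from rfl, hpow, hQ3, mul_zero]
  have h5 : N ^ 5 ≠ 0 := by
    intro h5
    have hQQadj : ∀ u v, sympForm 3 F ((Q * Q) *ᵥ u) v = sympForm 3 F u ((Q * Q) *ᵥ v) := fun u v => by
      rw [← mulVec_mulVec, ← mulVec_mulVec, hQd, q_adj, q_adj]
    have hr4 : 2 ≤ Module.finrank F (LinearMap.range (mulVecLin (N ^ 4))) := by
      have h1 : Module.finrank F (LinearMap.range (mulVecLin (N ^ 4))) =
          Module.finrank F (LinearMap.range (mulVecLin (Q * Q))) := by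
        have e := rank_add_ker (N ^ 4)
        have e' := rank_add_ker (Q * Q)
        suffices LinearMap.ker (mulVecLin (N ^ 4)) = LinearMap.ker (mulVecLin (Q * Q)) by rw [this] at e; omega
        ext v
        rw [mem_ker_iff, mem_ker_iff, show 4 = 2 * 2 from rfl, hpow, pow_two, pow_two, ← mulVec_mulVec]
        refine ⟨fun h => ?_, fun h => by rw [h, mulVec_zero]⟩
        have h' := congrArg (((g⁻¹).1 * (g⁻¹).1) *ᵥ ·) h
        simp only [mulVec_zero] at h'
        rwa [mulVec_mulVec _ ((g⁻¹).1 * (g⁻¹).1), show (g⁻¹).1 * (g⁻¹).1 * (G * G) = 1 by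
          rw [mul_assoc, ← mul_assoc (g⁻¹).1 G, hG, inv_mul_coe, one_mul, inv_mul_coe], one_mulVec] at h'
      obtain ⟨j, hj⟩ := even_range hQQadj
      have h2 : Module.finrank F (LinearMap.range (mulVecLin (Q * Q))) ≠ 0 := fun e => hQQ
        (Matrix.ext_iff_mulVec.2 fun v => by
          have hm : (Q * Q) *ᵥ v ∈ LinearMap.range (mulVecLin (Q * Q)) := ⟨v, rfl⟩
          rw [Submodule.finrank_eq_zero.1 e, Submodule.mem_bot] at hm
          rw [hm, zero_mulVec])
      omega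
    have hstep : ∀ k, k ≤ 4 → Module.finrank F (LinearMap.range (mulVecLin (N ^ (k + 1)))) + 2 ≤
        Module.finrank F (LinearMap.range (mulVecLin (N ^ k))) := by
      intro k hk
      set W := LinearMap.range (mulVecLin (N ^ k)) with hW
      have h := LinearMap.finrank_range_add_finrank_ker ((mulVecLin N).domRestrict W)
      have h1 : LinearMap.range (mulVecLin (N ^ (k + 1))) ≤ LinearMap.range ((mulVecLin N).domRestrict W) := by
        rintro _ ⟨v, rfl⟩
        exact ⟨⟨_, ⟨v, rfl⟩⟩, by simp [mulVec_mulVec, pow_succ']⟩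
      have h2 : LinearMap.range (mulVecLin (N ^ 4)) ≤ W ⊓ LinearMap.ker (mulVecLin N) := by
        rintro _ ⟨v, rfl⟩
        refine ⟨⟨(N ^ (4 - k)) *ᵥ v, ?_⟩, ?_⟩
        · rw [mulVecLin_apply, mulVecLin_apply, mulVec_mulVec, ← pow_add, Nat.add_sub_cancel' hk]
        · rw [SetLike.mem_coe, mem_ker_iff, mulVecLin_apply, mulVec_mulVec, ← pow_succ', h5, zero_mulVec]
      have h3 : Module.finrank F (LinearMap.ker ((mulVecLin N).domRestrict W)) =
          Module.finrank F (W ⊓ LinearMap.ker (mulVecLin N) : Submodule F V6) := by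
        rw [LinearMap.ker_domRestrict, ← Submodule.finrank_map_subtype_eq, Submodule.map_comap_subtype]
      have := Submodule.finrank_mono h1
      have := Submodule.finrank_mono h2
      omega
    have t0 : Module.finrank F (LinearMap.range (mulVecLin (N ^ 1))) + 2 ≤
        Module.finrank F (LinearMap.range (mulVecLin (N ^ 0))) := hstep 0 (by norm_num)
    have t1 : Module.finrank F (LinearMap.range (mulVecLin (N ^ 2))) + 2 ≤
        Module.finrank F (LinearMap.range (mulVecLin (N ^ 1))) := hstep 1 (by norm_num)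
    have t2 : Module.finrank F (LinearMap.range (mulVecLin (N ^ 3))) + 2 ≤
        Module.finrank F (LinearMap.range (mulVecLin (N ^ 2))) := hstep 2 (by norm_num)
    have t3 : Module.finrank F (LinearMap.range (mulVecLin (N ^ 4))) + 2 ≤
        Module.finrank F (LinearMap.range (mulVecLin (N ^ 3))) := hstep 3 (by norm_num)
    have r0 := (LinearMap.range (mulVecLin (N ^ 0))).finrank_le
    rw [Module.finrank_fintype_fun_eq_card] at r0
    simp at r0
    omega
  obtain ⟨h, μ, hμ, he⟩ := regular_frame g h6 h5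
  exact ⟨h, Or.inr ⟨μ, hμ, he⟩⟩

/-- One eigenvalue `c` of `g + g⁻¹`, `c ≠ -2`. -/
theorem one_eigen {c : F} (hc : c ^ 2 - 4 ≠ 0 ∨ c = 2) (hQ3 : (tr' g - c • 1) ^ 3 = 0) :
    HasPlane g.1 ∨ ToModel g.1 := by
  by_cases hQQ : (tr' g - c • 1) * (tr' g - c • 1) = 0
  · rcases hc with hc | rfl
    · exact Or.inl (case_small hc hQQ)
    · exact case_unip rfl hQQ
  · rcases hc with hc | rfl
    · exact Or.inr (case_tensor hc hQ3 hQQ)
    · exact Or.inr (case_regular rfl hQ3 hQQ)

end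

end CfsgLib.TwoCover.SympThree
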