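import Cfsg.Agent.Lib.TwoCover.SympThreeModel

/-!
`Sp₆(3^a)`: frames putting tensor elements and regular unipotents into model form.
-/

set_option autoImplicit false

namespace CfsgLib.TwoCover.SympThree

open Matrix Cfsg CfsgLib.Linear.Symp

variable {F : Type*} [Field F]

local notation "V6" => Fin 3 ⊕ Fin 3 → F
local notation "M6" => Matrix (Fin 3 ⊕ Fin 3) (Fin 3 ⊕ Fin 3) F

/-- The symplectic element with prescribed images of the standard basis. -/
theorem exists_frame_elt (a b : Fin 3 → V6) (haa : ∀ i j, sympForm 3 F (a i) (a j) = 0)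
    (hbb : ∀ i j, sympForm 3 F (b i) (b j) = 0)
    (hab : ∀ i j, sympForm 3 F (a i) (b j) = if i = j then -1 else 0) :
    ∃ h : symplecticGroup (Fin 3) F, ∀ x : V6, h.1 *ᵥ x =
      x (.inl 0) • a 0 + x (.inl 1) • a 1 + x (.inl 2) • a 2 +
        (x (.inr 0) • b 0 + x (.inr 1) • b 1 + x (.inr 2) • b 2) := by
  let H : M6 := Matrix.of fun i j => Sum.elim a b j i
  have hH : ∀ x : V6, H *ᵥ x = x (.inl 0) • a 0 + x (.inl 1) • a 1 + x (.inl 2) • a 2 +
      (x (.inr 0) • b 0 + x (.inr 1) • b 1 + x (.inr 2) • b 2) := fun x => by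
    funext i
    simp [H, Matrix.mulVec, dotProduct, Fintype.sum_sum_type, Fin.sum_univ_three, mul_comm]
  have hba : ∀ i j, sympForm 3 F (b i) (a j) = if j = i then 1 else 0 := fun i j => by
    rw [form_swap, hab]; split_ifs <;> simp
  refine ⟨⟨H, mem_of_form_mulVec fun x y => ?_⟩, hH⟩
  rw [hH, hH]
  simp only [form_add_left, form_add_right, form_smul_left, form_smul_right, haa, hbb, hab, hba]
  rw [sympForm_eq_sum, Fin.sum_univ_three]
  simp
  ring

/-- From the action on a frame to the matrix equation. -/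
theorem frame_conj {G H R : M6}
    (h : ∀ j, G *ᵥ (H *ᵥ Pi.single j 1) = H *ᵥ (R *ᵥ Pi.single j 1)) : G * H = H * R := by
  refine Matrix.ext_of_mulVec_single fun j => ?_
  rw [← mulVec_mulVec, ← mulVec_mulVec]
  exact h j

variable [CharP F 3]

theorem three_eq_zero : (3 : F) = 0 := by exact_mod_cast CharP.cast_eq_zero F 3

theorem two_ne : (2 : F) ≠ 0 := fun h => one_ne_zero (α := F) (by
  linear_combination (three_eq_zero (F := F)) - h)

/-- Adjusting a pair of generators of a free `F[σ]`-module to orthogonal translates. -/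
theorem adjust {σ : M6} (hiso : ∀ u v, sympForm 3 F (σ *ᵥ u) (σ *ᵥ v) = sympForm 3 F u v)
    (h3 : σ * σ * σ = 1) (x y : V6) {e : F} (he : e ≠ 0)
    (hxy : sympForm 3 F x ((1 + σ + σ * σ) *ᵥ y) = e) :
    ∃ x' y' : V6, sympForm 3 F x' (σ *ᵥ x') = 0 ∧ sympForm 3 F y' (σ *ᵥ y') = 0 ∧
      sympForm 3 F x' (σ *ᵥ y') = 0 ∧ sympForm 3 F x' (σ *ᵥ (σ *ᵥ y')) = 0 ∧
      sympForm 3 F x' y' = e ∧
      ∀ (s : M6) (c : F), s * σ = σ * s → (∀ u v, sympForm 3 F (s *ᵥ u) v = sympForm 3 F u (c • v - s *ᵥ v)) →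
        s *ᵥ x = y → s *ᵥ y = c • y - x → s *ᵥ x' = y' := by
  have three := three_eq_zero (F := F)
  set Z : V6 → V6 := fun u => σ *ᵥ u - σ *ᵥ (σ *ᵥ u) with hZ
  have s3 : ∀ u, σ *ᵥ (σ *ᵥ (σ *ᵥ u)) = u := fun u => by
    rw [mulVec_mulVec, mulVec_mulVec, h3, one_mulVec]
  have hZadd : ∀ u v, Z (u + v) = Z u + Z v := fun u v => by
    simp only [hZ, mulVec_add]; abel
  have hZsmul : ∀ (k : F) u, Z (k • u) = k • Z u := fun k u => by
    simp only [hZ, mulVec_smul, smul_sub]
  have hadj : ∀ u v, sympForm 3 F (Z u) v = -sympForm 3 F u (Z v) := fun u v => by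
    have h1 : sympForm 3 F (σ *ᵥ u) v = sympForm 3 F u (σ *ᵥ (σ *ᵥ v)) := by
      conv_lhs => rw [← s3 v, hiso]
    have h2 : sympForm 3 F (σ *ᵥ (σ *ᵥ u)) v = sympForm 3 F u (σ *ᵥ v) := by
      conv_lhs => rw [← s3 v, hiso, hiso]
    simp only [hZ, form_sub_left, form_sub_right, h1, h2]; ring
  have hZZ : ∀ u, Z (Z u) = u + σ *ᵥ u + σ *ᵥ (σ *ᵥ u) := fun u => by
    simp only [hZ, mulVec_sub, s3]
    funext i
    simp only [Pi.add_apply, Pi.sub_apply]
    linear_combination (-u i) * three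
  have hZ3 : ∀ u, Z (Z (Z u)) = 0 := fun u => by
    rw [hZZ]; simp only [hZ, mulVec_sub, s3]; abel
  have hσ1 : ∀ u, σ *ᵥ u = u - Z u - Z (Z u) := fun u => by
    rw [hZZ]; simp only [hZ]; funext i
    simp only [Pi.add_apply, Pi.sub_apply]
    linear_combination (σ *ᵥ u) i * three
  have hσ2 : ∀ u, σ *ᵥ (σ *ᵥ u) = u + Z u - Z (Z u) := fun u => by
    rw [hZZ]; simp only [hZ]; funext i
    simp only [Pi.add_apply, Pi.sub_apply]
    linear_combination (σ *ᵥ (σ *ᵥ u)) i * three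
  have hxy' : sympForm 3 F x (Z (Z y)) = e := by
    rw [← hxy, hZZ, add_mulVec, add_mulVec, one_mulVec, ← mulVec_mulVec]
  have hyx : sympForm 3 F y (Z (Z x)) = -e := by
    rw [form_swap, hadj, hadj, neg_neg, hxy']
  have hself : ∀ u, sympForm 3 F u (Z (Z u)) = 0 := fun u => by
    have h := hadj u (Z u)
    rw [form_self] at h
    linear_combination h
  have hz2l : ∀ u v, sympForm 3 F (Z u) (Z (Z v)) = 0 := fun u v => by
    rw [hadj, hZ3, form_zero_right, neg_zero]
  have hz11 : ∀ u v, sympForm 3 F (Z u) (Z v) = -sympForm 3 F u (Z (Z v)) := fun u v => hadj u (Z v)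
  set dxx := sympForm 3 F x (Z x) with hdxx
  set dyy := sympForm 3 F y (Z y) with hdyy
  set dxy := sympForm 3 F x (Z y) with hdxy
  have hdyx : sympForm 3 F y (Z x) = dxy := by rw [form_swap, hadj, neg_neg]
  set p := -dxy / e
  set r := dxx / e
  set p' := -dyy / e
  set r' := dxy / e
  set x1 := x + p • Z x + r • Z y with hx1
  set y1 := y + p' • Z x + r' • Z y with hy1
  have e1 : sympForm 3 F x1 (Z x1) = 0 := by
    simp only [hx1, hZadd, hZsmul, form_add_left, form_add_right, form_smul_left, form_smul_right,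
      hz2l, hz11, hself, hxy', hyx, ← hdxx, ← hdxy, mul_zero, add_zero, neg_zero, neg_neg]
    simp only [p, r]
    field_simp
    linear_combination dxx * three
  have e2 : sympForm 3 F y1 (Z y1) = 0 := by
    simp only [hy1, hZadd, hZsmul, form_add_left, form_add_right, form_smul_left, form_smul_right,
      hz2l, hz11, hself, hxy', hyx, hdyx, ← hdyy, mul_zero, add_zero, neg_zero, neg_neg]
    simp only [p', r']
    field_simp
    linear_combination dyy * three
  have e3 : sympForm 3 F x1 (Z y1) = 0 := by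
    simp only [hx1, hy1, hZadd, hZsmul, form_add_left, form_add_right, form_smul_left, form_smul_right,
      hz2l, hz11, hself, hxy', hyx, ← hdxy, mul_zero, add_zero, neg_zero, neg_neg]
    simp only [p, r, p', r']
    field_simp
    linear_combination dxy * three
  have e4 : sympForm 3 F x1 (Z (Z y1)) = e := by
    simp only [hx1, hy1, hZadd, hZsmul, hZ3, form_add_left, form_smul_left, smul_zero, add_zero, hz2l,
      hxy', mul_zero]
  set b0 := sympForm 3 F x1 y1 with hb0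
  set k := (b0 - e) / e
  set x2 := x1 + k • Z (Z x1) with hx2
  set y2 := y1 + k • Z (Z y1) with hy2
  have f1 : sympForm 3 F x2 (Z x2) = 0 := by
    simp only [hx2, hZadd, hZsmul, hZ3, smul_zero, add_zero, form_add_left, form_smul_left, e1]
    rw [show sympForm 3 F (Z (Z x1)) (Z x1) = 0 by rw [hadj, hadj, neg_neg, hZ3, form_zero_right]]
    ring
  have f2 : sympForm 3 F y2 (Z y2) = 0 := by
    simp only [hy2, hZadd, hZsmul, hZ3, smul_zero, add_zero, form_add_left, form_smul_left, e2]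
    rw [show sympForm 3 F (Z (Z y1)) (Z y1) = 0 by rw [hadj, hadj, neg_neg, hZ3, form_zero_right]]
    ring
  have f3 : sympForm 3 F x2 (Z y2) = 0 := by
    simp only [hx2, hy2, hZadd, hZsmul, hZ3, smul_zero, add_zero, form_add_left, form_smul_left, e3]
    rw [show sympForm 3 F (Z (Z x1)) (Z y1) = 0 by rw [hadj, hadj, neg_neg, hZ3, form_zero_right]]
    ring
  have f4 : sympForm 3 F x2 (Z (Z y2)) = e := by
    simp only [hx2, hy2, hZadd, hZsmul, hZ3, smul_zero, add_zero, form_add_left, form_smul_left, e4]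
    rw [show sympForm 3 F (Z (Z x1)) (Z (Z y1)) = 0 by rw [hadj, hadj, neg_neg, hZ3]; simp [hZ, form_zero_right]]
    ring
  have f5 : sympForm 3 F x2 y2 = e := by
    have e5 : sympForm 3 F (Z (Z x1)) y1 = e := by rw [hadj, hadj, neg_neg, e4]
    simp only [hx2, hy2, form_add_left, form_add_right, form_smul_left, form_smul_right, e4, e5, ← hb0]
    rw [show sympForm 3 F (Z (Z x1)) (Z (Z y1)) = 0 by rw [hadj, hadj, neg_neg, hZ3]; simp [hZ, form_zero_right]]
    simp only [k]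
    field_simp
    linear_combination (e ^ 2 * (b0 - e)) * three
  refine ⟨x2, y2, ?_, ?_, ?_, ?_, f5, ?_⟩
  · rw [hσ1, form_sub_right, form_sub_right, form_self, f1, hself]; ring
  · rw [hσ1, form_sub_right, form_sub_right, form_self, f2, hself]; ring
  · rw [hσ1, form_sub_right, form_sub_right, f5, f3, f4]; ring
  · rw [hσ2, form_sub_right, form_add_right, f5, f3, f4]; ring
  · intro s c hcomm hs hsx hsy
    have hsZ : ∀ u, s *ᵥ Z u = Z (s *ᵥ u) := fun u => by
      simp only [hZ, mulVec_sub, mulVec_mulVec, ← mul_assoc, hcomm]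
      rw [mul_assoc σ s σ, hcomm, ← mul_assoc]
    have d1 : dyy = dxx := by
      rw [hdyy, ← hsx, ← hsZ, hs, mulVec_mulVec, ← mulVec_mulVec, hsZ, hsZ, hsx, hsy]
      simp only [hZadd, sub_eq_add_neg, ← neg_one_smul F x, hZsmul, form_add_right, form_smul_right,
        ← neg_one_smul F (c • Z y + (-1 : F) • Z x), ← hdxx, ← hdxy]
      ring
    have d2 : dxy = -c * dxx := by
      have h1 : dxy = c * dxx - dxy := by
        conv_lhs => rw [← hdyx, ← hsx, hs, form_sub_right, form_smul_right, hsZ, hsx]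
      linear_combination -h1 + dxy * three
    have h1 : s *ᵥ x1 = y1 := by
      simp only [hx1, hy1, mulVec_add, mulVec_smul, hsZ, hsx, hsy, sub_eq_add_neg, ← neg_one_smul F x,
        hZadd, hZsmul, p, r, p', r', d1, d2]
      funext i
      simp only [Pi.add_apply, Pi.smul_apply, smul_eq_mul]
      field_simp
      linear_combination (Z y i * c * dxx) * three
    rw [hx2, hy2, mulVec_add, mulVec_smul, hsZ, hsZ, h1]

/-- A frame from an adjusted pair. -/
theorem pair_frame {σ : M6} (hiso : ∀ u v, sympForm 3 F (σ *ᵥ u) (σ *ᵥ v) = sympForm 3 F u v)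
    (h3 : σ * σ * σ = 1) {x y : V6} {e : F} (he : e ≠ 0)
    (hx : sympForm 3 F x (σ *ᵥ x) = 0) (hy : sympForm 3 F y (σ *ᵥ y) = 0)
    (hxy1 : sympForm 3 F x (σ *ᵥ y) = 0) (hxy2 : sympForm 3 F x (σ *ᵥ (σ *ᵥ y)) = 0)
    (hxy : sympForm 3 F x y = e) :
    ∃ h : symplecticGroup (Fin 3) F, ∀ u : V6, h.1 *ᵥ u =
      u (.inl 0) • x + u (.inl 1) • (σ *ᵥ x) + u (.inl 2) • (σ *ᵥ (σ *ᵥ x)) +
        (u (.inr 0) • ((-e⁻¹) • y) + u (.inr 1) • ((-e⁻¹) • (σ *ᵥ y)) +
          u (.inr 2) • ((-e⁻¹) • (σ *ᵥ (σ *ᵥ y)))) := by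
  have s3 : ∀ u, σ *ᵥ (σ *ᵥ (σ *ᵥ u)) = u := fun u => by
    rw [mulVec_mulVec, mulVec_mulVec, h3, one_mulVec]
  have hl : ∀ u v, sympForm 3 F (σ *ᵥ u) v = sympForm 3 F u (σ *ᵥ (σ *ᵥ v)) := fun u v => by
    conv_lhs => rw [← s3 v, hiso]
  have hx' : sympForm 3 F x (σ *ᵥ (σ *ᵥ x)) = 0 := by rw [← hl, form_swap, hx, neg_zero]
  have hy' : sympForm 3 F y (σ *ᵥ (σ *ᵥ y)) = 0 := by rw [← hl, form_swap, hy, neg_zero]
  refine exists_frame_elt ![x, σ *ᵥ x, σ *ᵥ (σ *ᵥ x)]
    ![(-e⁻¹) • y, (-e⁻¹) • (σ *ᵥ y), (-e⁻¹) • (σ *ᵥ (σ *ᵥ y))] ?_ ?_ ?_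
  · intro i j
    fin_cases i <;> fin_cases j <;> simp [-mulVec_mulVec, hl, s3, hx, hx', form_self]
  · intro i j
    fin_cases i <;> fin_cases j <;>
      simp [-mulVec_mulVec, form_neg_left, form_neg_right, form_smul_left, form_smul_right, mulVec_neg,
        mulVec_smul, hl, s3, hy, hy', form_self]
  · intro i j
    fin_cases i <;> fin_cases j <;>
      simp [-mulVec_mulVec, form_neg_left, form_neg_right, form_smul_left, form_smul_right, mulVec_neg,
        mulVec_smul, hl, s3, hxy, hxy1, hxy2, he]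

end CfsgLib.TwoCover.SympThree
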