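import Cfsg.Agent.Lib.TwoCover.SympThreeCases

/-!
`PSp₆(3^a)` is covered by the conjugates of a plane stabiliser and of the normaliser of a cubic field.
-/

set_option autoImplicit false

namespace CfsgLib.TwoCover.SympThree

open Matrix Cfsg CfsgLib.Linear.Symp Polynomial

variable {F : Type*} [Field F]

local notation "V6" => Fin 3 ⊕ Fin 3 → F
local notation "M6" => Matrix (Fin 3 ⊕ Fin 3) (Fin 3 ⊕ Fin 3) F

/-- The standard plane. -/
def plane (F : Type*) [Field F] : Submodule F (Fin 3 ⊕ Fin 3 → F) :=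
  Submodule.span F {Pi.single (.inr 0) 1, Pi.single (.inl 0) 1}

/-- The stabiliser of the standard plane. -/
def planeStab (F : Type*) [Field F] : Subgroup (symplecticGroup (Fin 3) F) where
  carrier := {g | (plane F).map (mulVecLin g.1) = plane F}
  one_mem' := by simp
  mul_mem' := by
    intro a b ha hb
    show (plane F).map (mulVecLin (a.1 * b.1)) = plane F
    rw [mulVecLin_mul, Submodule.map_comp, hb, ha]
  inv_mem' := by
    intro a ha
    show (plane F).map (mulVecLin (a⁻¹).1) = plane F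
    conv_lhs => rw [← ha]
    rw [← Submodule.map_comp, ← mulVecLin_mul, inv_mul_coe, mulVecLin_one, Submodule.map_id]

theorem smul_mem_plane {g : symplecticGroup (Fin 3) F} {v : V6} (hg : g ∈ planeStab F) (hv : v ∈ plane F) :
    g.1 *ᵥ v ∈ plane F :=
  (show (plane F).map (mulVecLin g.1) = plane F from hg).le ⟨v, hv, rfl⟩

theorem plane_cover {g : symplecticGroup (Fin 3) F} (h : HasPlane g.1) :
    ∃ x : symplecticGroup (Fin 3) F, x * g * x⁻¹ ∈ planeStab F := by
  obtain ⟨u, w, huw, hu, hw⟩ := h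
  obtain ⟨x, hxu, hxw⟩ := exists_smul_pair huw
    (show sympForm 3 F (Pi.single (.inr 0) 1) (Pi.single (.inl 0) 1) = 1 by simp [form_single_inl])
  refine ⟨x, ?_⟩
  have hmap : (Submodule.span F {u, w}).map (mulVecLin x.1) = plane F := by
    rw [Submodule.map_span, Set.image_pair, plane, ← hxu, ← hxw]; rfl
  have hg : (Submodule.span F {u, w}).map (mulVecLin g.1) = Submodule.span F {u, w} := by
    refine Submodule.eq_of_le_of_finrank_le ?_ (le_of_eq ?_)
    · rw [Submodule.map_span, Submodule.span_le]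
      rintro _ ⟨v, rfl | rfl, rfl⟩
      · exact hu
      · exact hw
    · refine (Submodule.equivMapOfInjective (mulVecLin g.1) ?_ _).finrank_eq
      intro a b hab
      have := congrArg ((g⁻¹).1 *ᵥ ·) hab
      simpa [mulVec_mulVec, inv_mul_coe] using this
  show (plane F).map (mulVecLin (x.1 * g.1 * (x⁻¹).1)) = plane F
  conv_lhs => rw [← hmap]
  rw [← Submodule.map_comp, ← mulVecLin_mul, mul_assoc, inv_mul_coe, mul_one, mulVecLin_mul,
    Submodule.map_comp, hg, hmap]

theorem planeStab_ne_top : planeStab F ≠ ⊤ := by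
  intro h
  have h1 : (1 : F) * 1 - 0 * 0 = 1 := by ring
  set g : symplecticGroup (Fin 3) F := ⟨_, tensor_mem h1⟩
  have hg : g ∈ planeStab F := h ▸ Subgroup.mem_top g
  have hm := smul_mem_plane hg (show Pi.single (Sum.inr 0) 1 ∈ plane F from Submodule.subset_span (by simp))
  obtain ⟨a, b, hab⟩ := Submodule.mem_span_pair.1 hm
  have h2 := congrFun hab (.inr 1)
  change _ = (fromBlocks ((1 : F) • cyc F) ((0 : F) • cyc F) ((0 : F) • cyc F) ((1 : F) • cyc F) *ᵥ
    Pi.single (Sum.inr 0) 1) (Sum.inr 1) at h2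
  rw [← Sum.elim_comp_inl_inr (Pi.single (Sum.inr (0 : Fin 3)) (1 : F)), fromBlocks_mulVec] at h2
  simp [cyc_mulVec] at h2

theorem form_elim_add (u v u' v' : Fin 3 → F) (ρ : F) :
    sympForm 3 F (Sum.elim (ρ • u) v) (Sum.elim (ρ • u') v') =
      ρ * sympForm 3 F (Sum.elim u v) (Sum.elim u' v') := by
  rw [form_blocks, form_blocks, Finset.mul_sum]
  exact Finset.sum_congr rfl fun i _ => by simp; ring

/-- The similitude `diag(ρ, 1)`. -/
def scale (ρ : F) : M6 := fromBlocks (ρ • 1) 0 0 1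

theorem scale_mulVec (ρ : F) (x : V6) : scale ρ *ᵥ x = Sum.elim (ρ • (x ∘ Sum.inl)) (x ∘ Sum.inr) := by
  conv_lhs => rw [← Sum.elim_comp_inl_inr x]
  rw [scale, fromBlocks_mulVec]
  simp [smul_mulVec]

theorem scale_form (ρ : F) (x y : V6) :
    sympForm 3 F (scale ρ *ᵥ x) (scale ρ *ᵥ y) = ρ * sympForm 3 F x y := by
  rw [scale_mulVec, scale_mulVec, form_elim_add, Sum.elim_comp_inl_inr, Sum.elim_comp_inl_inr]

theorem scale_inv {ρ : F} (hρ : ρ ≠ 0) : scale ρ⁻¹ * scale ρ = 1 ∧ scale ρ * scale ρ⁻¹ = 1 := by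
  simp [scale, fromBlocks_multiply, smul_smul, hρ, fromBlocks_one]

theorem scale_mem {ρ : F} (hρ : ρ ≠ 0) (h : symplecticGroup (Fin 3) F) :
    scale ρ * h.1 * scale ρ⁻¹ ∈ symplecticGroup (Fin 3) F := by
  refine mem_of_form_mulVec fun x y => ?_
  rw [← mulVec_mulVec, ← mulVec_mulVec, ← mulVec_mulVec, ← mulVec_mulVec, scale_form, form_mulVec h.2,
    scale_form, ← mul_assoc, mul_inv_cancel₀ hρ, one_mul]

variable [Fintype F] [CharP F 3]

omit [Fintype F] [CharP F 3] in
/-- A self-adjoint root of `f` is conjugate to the model one. -/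
theorem root_conj {f : F[X]} (hf : Irreducible f) (hd : f.natDegree = 3)
    {M : Matrix (Fin 3) (Fin 3) F} (hM : aeval M f = 0) (hMs : Mᵀ = M) {J : M6} (hJ : aeval J f = 0)
    (hadj : ∀ (r : F[X]) (u v : V6),
      sympForm 3 F (aeval J r *ᵥ u) v = sympForm 3 F u (aeval J r *ᵥ v)) (h2 : (2 : F) ≠ 0) :
    ∃ h : symplecticGroup (Fin 3) F, J * h.1 = h.1 * dbl M := by
  classical
  haveI := Fact.mk hf
  set pb := AdjoinRoot.powerBasis hf.ne_zero
  haveI : Module.Finite F (AdjoinRoot f) := pb.finite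
  have hfr : Module.finrank F (AdjoinRoot f) = 3 := by rw [pb.finrank, AdjoinRoot.powerBasis_dim, hd]
  set φ : AdjoinRoot f →ₐ[F] Matrix (Fin 3) (Fin 3) F := evalHom M hM
  set ψ : AdjoinRoot f →ₐ[F] M6 := evalHom J hJ
  set ζ := AdjoinRoot.root f
  have hφζ : φ ζ = M := evalHom_root M hM
  have hψζ : ψ ζ = J := evalHom_root J hJ
  have hψadj : ∀ z u v, sympForm 3 F (ψ z *ᵥ u) v = sympForm 3 F u (ψ z *ᵥ v) := by
    intro z
    induction z using AdjoinRoot.induction_on with
    | _ r =>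
      intro u v
      rw [← AdjoinRoot.aeval_eq, ← aeval_algHom_apply, hψζ]
      exact hadj r u v
  have hφsym : ∀ z, (φ z)ᵀ = φ z := by
    intro z
    induction z using AdjoinRoot.induction_on with
    | _ r =>
      rw [← AdjoinRoot.aeval_eq, ← aeval_algHom_apply, hφζ]
      induction r using Polynomial.induction_on' with
      | add a b ha hb => rw [map_add, transpose_add, ha, hb]
      | monomial k c =>
        rw [aeval_monomial, ← Algebra.smul_def, transpose_smul, transpose_pow, hMs]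
  have hinj : ∀ {ι : Type} [Fintype ι] [DecidableEq ι] (χ : AdjoinRoot f →ₐ[F] Matrix ι ι F)
      (x : ι → F), x ≠ 0 → ∀ z, χ z *ᵥ x = 0 → z = 0 := by
    intro ι _ _ χ x hx z hz
    by_contra h0
    have h := congrArg (χ z⁻¹ *ᵥ ·) hz
    simp only [mulVec_mulVec, ← map_mul, inv_mul_cancel₀ h0, map_one, one_mulVec, mulVec_zero] at h
    exact hx h
  set e0 : Fin 3 → F := Pi.single 0 1
  let L : AdjoinRoot f →ₗ[F] (Fin 3 → F) :=
    { toFun := fun z => φ z *ᵥ e0
      map_add' := fun a b => by rw [map_add, add_mulVec]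
      map_smul' := fun c a => by rw [map_smul, smul_mulVec, RingHom.id_apply] }
  have hL : Function.Bijective L := by
    have hi : Function.Injective L := by
      rw [← LinearMap.ker_eq_bot, LinearMap.ker_eq_bot']
      exact fun z hz => hinj φ e0 (fun e => by simpa [e0] using congrFun e 0) z hz
    exact ⟨hi, (LinearMap.injective_iff_surjective_of_finrank_eq_finrank
      (by rw [hfr, Module.finrank_fin_fun])).1 hi⟩
  set Le := LinearEquiv.ofBijective L hL
  set x : V6 := Pi.single (.inl 0) 1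
  have hx : x ≠ 0 := by simp [x]
  let P : AdjoinRoot f →ₗ[F] V6 :=
    { toFun := fun z => ψ z *ᵥ x
      map_add' := fun a b => by rw [map_add, add_mulVec]
      map_smul' := fun c a => by rw [map_smul, smul_mulVec, RingHom.id_apply] }
  obtain ⟨P', hP'⟩ := P.exists_leftInverse_of_injective
    (LinearMap.ker_eq_bot'.2 fun z hz => hinj ψ x hx z hz)
  obtain ⟨y, hy⟩ := exists_rep (-((LinearMap.proj (0 : Fin 3) ∘ₗ L) ∘ₗ P'))
  have hxy : ∀ z, sympForm 3 F (ψ z *ᵥ x) y = -(φ z *ᵥ e0) 0 := fun z => by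
    rw [hy, LinearMap.neg_apply]
    show -(L (P' (P z)) 0) = -(L z 0)
    rw [show P' (P z) = z from LinearMap.congr_fun hP' z]
  have hti : ∀ (v : V6) z z', sympForm 3 F (ψ z *ᵥ v) (ψ z' *ᵥ v) = 0 := fun v z z' => by
    rw [hψadj, mulVec_mulVec, ← map_mul]
    have h := hψadj (z * z') v v
    rw [form_swap] at h
    have h3 : (2 : F) * sympForm 3 F v (ψ (z * z') *ᵥ v) = 0 := by linear_combination -h
    exact (mul_eq_zero.1 h3).resolve_left h2
  set Z : Fin 3 → AdjoinRoot f := fun i => Le.symm (Pi.single i 1)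
  have hZ : ∀ i, φ (Z i) *ᵥ e0 = Pi.single i 1 := fun i => Le.apply_symm_apply _
  obtain ⟨h, hh⟩ := exists_frame_elt (fun i => ψ (Z i) *ᵥ x) (fun i => ψ (Z i) *ᵥ y)
    (fun i j => hti x _ _) (fun i j => hti y _ _) (fun i j => by
      rw [← hψadj, mulVec_mulVec, ← map_mul, hxy, map_mul, ← mulVec_mulVec, hZ]
      have h1 : ∀ w : Fin 3 → F, (φ (Z j) *ᵥ w) 0 = (φ (Z j) *ᵥ e0) ⬝ᵥ w := fun w => by
        rw [dotProduct_comm, dotProduct_mulVec, ← mulVec_transpose, hφsym]
        simp [e0, dotProduct_single]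
      rw [h1, hZ]
      by_cases hij : i = j <;> simp [hij, single_dotProduct, Ne.symm])
  have hsum : ∀ v : Fin 3 → F, Le.symm v = v 0 • Z 0 + v 1 • Z 1 + v 2 • Z 2 := fun v => by
    simp only [Z]
    rw [← map_smul, ← map_smul, ← map_smul, ← map_add, ← map_add]
    congr 1
    funext i
    fin_cases i <;> simp
  have hh' : ∀ u : V6, h.1 *ᵥ u =
      ψ (Le.symm (u ∘ Sum.inl)) *ᵥ x + ψ (Le.symm (u ∘ Sum.inr)) *ᵥ y := fun u => by
    rw [hh, hsum, hsum]
    simp [map_add, map_smul, add_mulVec, smul_mulVec]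
  have hshift : ∀ v, Le.symm (M *ᵥ v) = ζ * Le.symm v := fun v => by
    rw [LinearEquiv.symm_apply_eq]
    show _ = φ (ζ * Le.symm v) *ᵥ e0
    rw [map_mul, hφζ, ← mulVec_mulVec]
    exact congrArg _ (Le.apply_symm_apply v).symm
  refine ⟨h, Matrix.ext_iff_mulVec.2 fun u => ?_⟩
  have hd' : dbl M *ᵥ u = Sum.elim (M *ᵥ (u ∘ Sum.inl)) (M *ᵥ (u ∘ Sum.inr)) := by
    conv_lhs => rw [← Sum.elim_comp_inl_inr u]
    rw [dbl, fromBlocks_mulVec]
    simp
  rw [← mulVec_mulVec, ← mulVec_mulVec, hh', hh', hd', Sum.elim_comp_inl, Sum.elim_comp_inr, hshift,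
    hshift, map_mul, map_mul, hψζ, mulVec_add, mulVec_mulVec, mulVec_mulVec]

theorem psp_three_cover : ∃ H K : Subgroup (PSp 3 F), H ≠ ⊤ ∧ K ≠ ⊤ ∧
    ∀ g : PSp 3 F, ∃ x : PSp 3 F, x * g * x⁻¹ ∈ H ∨ x * g * x⁻¹ ∈ K := by
  classical
  obtain ⟨f, M, τ, hf, hd, hMf, hMq, hMs, hcM, hτs, hτM, hτ1⟩ := exists_model (F := F)
  set q := Fintype.card F
  have hJ : dbl M ^ q ^ 3 = dbl M := by rw [dbl_pow, hMq]
  have two := two_ne (F := F)
  have hKtop : fieldStab q (dbl M) hJ ≠ ⊤ := by
    intro h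
    set d : Matrix (Fin 3) (Fin 3) F := diagonal ![-1, 1, 1] with hdd
    have hdmem : dbl d ∈ symplecticGroup (Fin 3) F := by
      refine mem_of_form_mulVec fun x y => ?_
      rw [dbl, ← Sum.elim_comp_inl_inr x, ← Sum.elim_comp_inl_inr y, fromBlocks_mulVec, fromBlocks_mulVec,
        form_blocks, form_blocks]
      simp [hdd, mulVec_diagonal, Fin.sum_univ_three]
    obtain ⟨k, hk⟩ : (⟨_, hdmem⟩ : symplecticGroup (Fin 3) F) ∈ fieldStab q (dbl M) hJ :=
      h ▸ Subgroup.mem_top _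
    simp only [dbl_pow] at hk
    rw [dbl, dbl, dbl, fromBlocks_multiply, fromBlocks_multiply, fromBlocks_inj] at hk
    simp only [mul_zero, zero_mul, add_zero, zero_add] at hk
    obtain ⟨hk, -, -, -⟩ := hk
    have hd2 : d * d = 1 := by
      rw [hdd, diagonal_mul_diagonal, ← diagonal_one]; congr 1; funext i; fin_cases i <;> simp
    have h3 : ∀ j, M ^ q ^ (3 * j) = M := fun j => by
      induction j with
      | zero => simp
      | succ n ih => rw [Nat.mul_succ, pow_add, pow_mul, ih, hMq]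
    have hd' : SemiconjBy d (M ^ q ^ k) (M ^ q ^ (k + k)) := by
      have := SemiconjBy.pow_right (a := d) (x := M) (y := M ^ q ^ k) hk (q ^ k)
      rwa [← pow_mul, ← pow_add] at this
    have h2k : M ^ q ^ (k + k) = M := by
      have e : M ^ q ^ k * d = d * M := hk.symm
      calc M ^ q ^ (k + k) = M ^ q ^ (k + k) * d * d := by rw [mul_assoc, hd2, mul_one]
        _ = d * (M ^ q ^ k * d) := by rw [← hd'.eq, mul_assoc]
        _ = M := by rw [e, ← mul_assoc, hd2, one_mul]
    have hk1 : M ^ q ^ k = M := by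
      conv_lhs => rw [← h2k, ← pow_mul, ← pow_add, show k + k + k = 3 * k by ring, h3]
    rw [hk1] at hk
    have hoff : ∀ i : Fin 3, i ≠ 0 → M i 0 = 0 := fun i hi => by
      have h := congrFun (congrFun hk i) 0
      rw [hdd, diagonal_mul, mul_diagonal] at h
      fin_cases i
      · exact absurd rfl hi
      all_goals
        simp at h ⊢
        exact (mul_eq_zero.1 (show (2 : F) * _ = 0 by linear_combination h)).resolve_left two
    set e0 : Fin 3 → F := Pi.single 0 1
    have he : M *ᵥ e0 = M 0 0 • e0 := by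
      funext i
      fin_cases i <;> simp [e0, hoff]
    have hev : aeval M f *ᵥ e0 = f.eval (M 0 0) • e0 := by
      clear hMf hd hf
      induction f using Polynomial.induction_on' with
      | add a b ha hb => simp only [map_add, add_mulVec, eval_add, add_smul, ha, hb]
      | monomial j c =>
        rw [aeval_monomial, eval_monomial, ← Algebra.smul_def, smul_mulVec, mul_smul]
        congr 1
        induction j with
        | zero => simp
        | succ j ih => rw [pow_succ', ← mulVec_mulVec, ih, mulVec_smul, he, smul_smul, pow_succ]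
    rw [hMf, zero_mulVec] at hev
    have h0 : f.eval (M 0 0) = 0 := (smul_eq_zero.1 hev.symm).resolve_right (by simp [e0])
    have := natDegree_eq_of_degree_eq_some (degree_eq_one_of_irreducible_of_root hf h0)
    rw [hd] at this
    exact absurd this (by decide)
  refine quotient_cover _ (planeStab F) (fieldStab q (dbl M) hJ) ?_ ?_ planeStab_ne_top hKtop fun g => ?_
  · intro z hz
    obtain ⟨a, ha2, ha⟩ := mem_center_iff.1 hz
    show (plane F).map (mulVecLin z.1) = plane F
    have hz1 : mulVecLin z.1 = a • (LinearMap.id : V6 →ₗ[F] V6) := LinearMap.ext fun v => ha v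
    rw [hz1, Submodule.map_smul _ _ a (fun e => by simp [e] at ha2), Submodule.map_id]
  · intro z hz
    obtain ⟨a, -, ha⟩ := mem_center_iff.1 hz
    refine ⟨0, ?_⟩
    rw [pow_zero, pow_one]
    refine Matrix.ext_iff_mulVec.2 fun x => ?_
    rw [← mulVec_mulVec, ← mulVec_mulVec, ← smul_def, ← smul_def z x, ha, ha, mulVec_smul]
  -- into the field normaliser
  have intoK : ∀ (g : symplecticGroup (Fin 3) F), ToModel g.1 →
      ∃ x, x * g * x⁻¹ ∈ fieldStab q (dbl M) hJ := by
    rintro g ⟨h, ⟨p, r, s, u, hdet, he⟩ | ⟨μ, hμ, he⟩⟩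
    · refine ⟨h⁻¹, 1, ?_⟩
      show (h⁻¹).1 * g.1 * ((h⁻¹)⁻¹).1 * dbl M = dbl M ^ q ^ 1 * ((h⁻¹).1 * g.1 * ((h⁻¹)⁻¹).1)
      rw [inv_inv, mul_assoc (h⁻¹).1 g.1, he, ← mul_assoc (h⁻¹).1, inv_mul_coe, one_mul, pow_one, dbl_pow,
        dbl, dbl, fromBlocks_multiply, fromBlocks_multiply]
      simp [hcM]
    set g' : symplecticGroup (Fin 3) F := ⟨_, unip_mem hτs⟩ with hg'
    have hg'J : g'.1 * dbl M = dbl M ^ q ^ 1 * g'.1 := by
      rw [hg', pow_one, dbl_pow, dbl, dbl]
      show fromBlocks (cyc F) (cyc F * τ) 0 (cyc F) * _ = _ * fromBlocks (cyc F) (cyc F * τ) 0 (cyc F)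
      rw [fromBlocks_multiply, fromBlocks_multiply]
      simp [hcM, mul_assoc, hτM]
      rw [← mul_assoc, hcM, mul_assoc]
    have hc3 : cyc F * cyc F * cyc F = 1 := by
      refine Matrix.ext_iff_mulVec.2 fun v => ?_
      rw [← mulVec_mulVec, ← mulVec_mulVec, cyc_mulVec, cyc_mulVec, cyc_mulVec, one_mulVec]
      funext i; fin_cases i <;> rfl
    have hcube : (g'.1 - 1) ^ 3 = fromBlocks 0 1 0 0 := by
      have hp : g'.1 * g'.1 * g'.1 = fromBlocks 1 1 0 1 := by
        show fromBlocks (cyc F) (cyc F * τ) 0 (cyc F) * fromBlocks (cyc F) (cyc F * τ) 0 (cyc F) *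
          fromBlocks (cyc F) (cyc F * τ) 0 (cyc F) = _
        rw [fromBlocks_multiply, fromBlocks_multiply]
        simp only [mul_zero, zero_mul, add_zero, zero_add, hc3]
        congr 1
        rw [← hτ1]
        have e : cyc F * (cyc F * (cyc F * τ)) = τ := by rw [← mul_assoc, ← mul_assoc, hc3, one_mul]
        simp only [add_mul, mul_assoc, e]
        abel
      have e : (g'.1 - 1) ^ 3 = g'.1 * g'.1 * g'.1 - 1 - (3 : F) • (g'.1 * g'.1) + (3 : F) • g'.1 := by
        rw [pow_succ, pow_two]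
        simp only [sub_mul, mul_sub, one_mul, mul_one]
        module
      rw [e, three_eq_zero, zero_smul, zero_smul, sub_zero, add_zero, hp, ← fromBlocks_one,
        sub_eq_iff_eq_add, fromBlocks_add]
      simp
    have h6 : (g'.1 - 1) ^ 6 = 0 := by
      rw [show 6 = 3 + 3 from rfl, pow_add, hcube, fromBlocks_multiply]
      simp
    have h5 : (g'.1 - 1) ^ 5 ≠ 0 := by
      intro e
      rw [show 5 = 3 + 2 from rfl, pow_add, hcube] at e
      have := congrArg (fun A => A *ᵥ Sum.elim (0 : Fin 3 → F) (Pi.single 0 1)) e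
      have hN : ∀ a b : Fin 3 → F, (g'.1 - 1) *ᵥ Sum.elim a b =
          Sum.elim (cyc F *ᵥ a + (cyc F * τ) *ᵥ b - a) (cyc F *ᵥ b - b) := fun a b => by
        show (fromBlocks (cyc F) (cyc F * τ) 0 (cyc F) - 1) *ᵥ _ = _
        rw [sub_mulVec, one_mulVec, fromBlocks_mulVec]
        funext i; rcases i with i | i <;> simp
      simp only [← mulVec_mulVec, pow_two, hN, zero_mulVec, fromBlocks_mulVec, Sum.elim_comp_inl,
        Sum.elim_comp_inr, zero_add, one_mulVec] at this
      simp only [cyc_mulVec, Pi.sub_apply] at this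
      have h0 := congrFun this (.inl 0)
      simp [Matrix.vecHead] at h0
    obtain ⟨h', μ', hμ', he'⟩ := regular_frame g' h6 h5
    set ρ := μ / μ'
    have hρ : ρ ≠ 0 := div_ne_zero hμ hμ'
    set D := scale ρ
    set D' := scale ρ⁻¹
    obtain ⟨hD1, hD2⟩ := scale_inv hρ
    set hh : symplecticGroup (Fin 3) F := ⟨_, scale_mem hρ h'⟩ with hhh
    have hR : D * regModel μ' * D' = regModel μ := by
      rw [show D = fromBlocks (ρ • 1) 0 0 1 from rfl, show D' = fromBlocks (ρ⁻¹ • 1) 0 0 1 from rfl,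
        regModel, regModel, fromBlocks_multiply, fromBlocks_multiply]
      simp only [mul_zero, zero_mul, add_zero, zero_add, smul_mul_assoc, mul_smul_comm, one_mul, mul_one,
        smul_zero, smul_smul, mul_inv_cancel₀ hρ, inv_mul_cancel₀ hρ, one_smul]
      congr 2
      rw [mul_comm μ' ρ, show ρ * μ' = μ from div_mul_cancel₀ μ hμ']
    refine ⟨hh * h⁻¹, 1, ?_⟩
    have key : (hh * h⁻¹ * g * (hh * h⁻¹)⁻¹).1 = D * g'.1 * D' := by
      have e : hh.1 * regModel μ = D * g'.1 * D' * hh.1 := by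
        rw [← hR, hhh]
        calc D * h'.1 * D' * (D * regModel μ' * D') = D * h'.1 * (D' * D) * regModel μ' * D' := by
              simp only [mul_assoc]
          _ = D * (g'.1 * h'.1) * D' := by rw [hD1, mul_one, he']; simp only [mul_assoc]
          _ = D * g'.1 * (D' * D) * h'.1 * D' := by rw [hD1, mul_one]; simp only [mul_assoc]
          _ = D * g'.1 * D' * (D * h'.1 * D') := by simp only [mul_assoc]
      rw [_root_.mul_inv_rev, inv_inv]
      show hh.1 * (h⁻¹).1 * g.1 * (h.1 * (hh⁻¹).1) = _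
      calc hh.1 * (h⁻¹).1 * g.1 * (h.1 * (hh⁻¹).1) = hh.1 * ((h⁻¹).1 * (g.1 * h.1)) * (hh⁻¹).1 := by
            simp only [mul_assoc]
        _ = hh.1 * regModel μ * (hh⁻¹).1 := by rw [he, ← mul_assoc (h⁻¹).1, inv_mul_coe, one_mul]
        _ = D * g'.1 * D' := by rw [e, mul_assoc, mul_inv_coe, mul_one]
    rw [key]
    have hDM : ∀ (ν : F) (A : Matrix (Fin 3) (Fin 3) F), scale ν * dbl A = dbl A * scale ν := fun ν A => by
      simp [scale, dbl, fromBlocks_multiply]
    rw [dbl_pow] at hg'J ⊢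
    calc D * g'.1 * D' * dbl M = D * (g'.1 * dbl M) * D' := by
          rw [mul_assoc, hDM ρ⁻¹, ← mul_assoc, mul_assoc D]
      _ = dbl (M ^ q ^ 1) * (D * g'.1 * D') := by
          rw [hg'J, ← mul_assoc, hDM ρ]; simp only [mul_assoc]; rfl
  -- the cases
  rcases split_cases two g with hP | ⟨p, hp, hp3, hpT⟩ | ⟨c, hc⟩
  · obtain ⟨x, hx⟩ := plane_cover hP; exact ⟨x, Or.inl hx⟩
  · obtain ⟨J, hJA, hJf⟩ := exists_root_adjoin (A := M6) (tr' g) hf fun p' hp' hdvd => by
      rw [hd, ← hp3, natDegree_eq_of_degree_eq (Polynomial.degree_eq_degree_of_associated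
        (hp'.associated_of_dvd hp (hdvd.trans (minpoly.dvd F _ hpT))).symm)]
    rw [Algebra.adjoin_singleton_eq_range_aeval] at hJA
    obtain ⟨r0, rfl⟩ := hJA
    obtain ⟨h, hh⟩ := root_conj hf hd hMf hMs hJf (fun r u v => by
      have hcomp : aeval (aeval (tr' g) r0) r = aeval (tr' g) (r.comp r0) := (aeval_comp _).symm
      show sympForm 3 F (aeval (aeval (tr' g) r0) r *ᵥ u) v = _
      rw [hcomp]
      exact (aeval_adj (tr_adj g) _ u v).trans (by rw [← hcomp]; rfl)) two
    refine ⟨h⁻¹, Or.inr ⟨0, ?_⟩⟩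
    change aeval (tr' g) r0 * h.1 = h.1 * dbl M at hh
    show (h⁻¹).1 * g.1 * ((h⁻¹)⁻¹).1 * dbl M = dbl M ^ q ^ 0 * ((h⁻¹).1 * g.1 * ((h⁻¹)⁻¹).1)
    rw [inv_inv, pow_zero, pow_one]
    have h3 : (h⁻¹).1 * aeval (tr' g) r0 = dbl M * (h⁻¹).1 := by
      calc (h⁻¹).1 * aeval (tr' g) r0 = (h⁻¹).1 * (aeval (tr' g) r0 * h.1) * (h⁻¹).1 := by
            rw [mul_assoc, mul_assoc (aeval (tr' g) r0), mul_inv_coe, mul_one]
        _ = dbl M * (h⁻¹).1 := by rw [hh, ← mul_assoc, inv_mul_coe, one_mul]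
    calc (h⁻¹).1 * g.1 * h.1 * dbl M = (h⁻¹).1 * (g.1 * aeval (tr' g) r0) * h.1 := by
          rw [mul_assoc, ← hh]; simp only [mul_assoc]
      _ = dbl M * ((h⁻¹).1 * g.1 * h.1) := by
          rw [comm_aeval (tr_comm g), ← mul_assoc, h3]; simp only [mul_assoc]
  -- one eigenvalue
  have finish : ∀ (g : symplecticGroup (Fin 3) F) (c : F), (c ^ 2 - 4 ≠ 0 ∨ c = 2) →
      (tr' g - c • 1) ^ 3 = 0 →
      ∃ x, x * g * x⁻¹ ∈ planeStab F ∨ x * g * x⁻¹ ∈ fieldStab q (dbl M) hJ := fun g c hc h => by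
    rcases one_eigen hc h with hP | hM
    · obtain ⟨x, hx⟩ := plane_cover hP; exact ⟨x, Or.inl hx⟩
    · obtain ⟨x, hx⟩ := intoK g hM; exact ⟨x, Or.inr hx⟩
  by_cases hc2 : c = -2
  swap
  · refine finish g c ?_ hc
    by_cases h4 : c ^ 2 - 4 = 0
    · refine Or.inr ?_
      have : (c - 2) * (c + 2) = 0 := by linear_combination h4
      rcases mul_eq_zero.1 this with h | h
      · exact sub_eq_zero.1 h
      · exact absurd (eq_neg_of_add_eq_zero_left h) hc2
    · exact Or.inl h4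
  subst hc2
  set z : symplecticGroup (Fin 3) F := ⟨-1, mem_of_form_mulVec fun u v => by
    rw [neg_mulVec, neg_mulVec, one_mulVec, one_mulVec, form_neg_left, form_neg_right, neg_neg]⟩ with hzd
  have hz : z ∈ Subgroup.center (symplecticGroup (Fin 3) F) := by
    refine Subgroup.mem_center_iff.2 fun a => Subtype.ext ?_
    show a.1 * (-1) = (-1) * a.1
    simp
  have hzz : z * z = 1 := Subtype.ext (by show (-1 : M6) * -1 = 1; simp)
  have htr : tr' (z * g) = -tr' g := by
    rw [tr', tr', _root_.mul_inv_rev, inv_eq_of_mul_eq_one_left hzz]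
    show -1 * g.1 + (g⁻¹).1 * -1 = _
    rw [neg_mul, one_mul, mul_neg, mul_one, neg_add]
  obtain ⟨x, hx⟩ := finish (z * g) 2 (Or.inr rfl) (by
    rw [htr, show -tr' g - (2 : F) • (1 : M6) = -(tr' g - (-2 : F) • (1 : M6)) by module, Odd.neg_pow
      (by decide), hc, neg_zero])
  have hxz : x * g * x⁻¹ = z * (x * (z * g) * x⁻¹) := by
    rw [Subgroup.mem_center_iff.1 hz |> fun h => (h g).symm]
    calc x * g * x⁻¹ = x * g * (z * z) * x⁻¹ := by rw [hzz, mul_one]
      _ = x * (g * z) * z * x⁻¹ := by simp only [mul_assoc]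
      _ = z * (x * (g * z) * x⁻¹) := by
          rw [mul_assoc (x * (g * z)), ← Subgroup.mem_center_iff.1 hz x⁻¹,
            ← mul_assoc (x * (g * z)), Subgroup.mem_center_iff.1 hz]
  refine ⟨x, hx.imp (fun h => hxz ▸ mul_mem ?_ h) (fun h => hxz ▸ mul_mem ?_ h)⟩
  · show (plane F).map (mulVecLin (-1 : M6)) = plane F
    have : mulVecLin (-1 : M6) = (-1 : F) • (LinearMap.id : V6 →ₗ[F] V6) :=
      LinearMap.ext fun v => by simp
    rw [this, Submodule.map_smul _ _ (-1 : F) (neg_ne_zero.2 one_ne_zero), Submodule.map_id]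
  · exact ⟨0, by rw [pow_zero, pow_one]; show (-1 : M6) * _ = _ * (-1 : M6); simp⟩

end CfsgLib.TwoCover.SympThree
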