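import Cfsg.Agent.Lib.TwoCover.AdjoinTools
import Cfsg.Agent.Lib.TwoCover.Linear
import Cfsg.Agent.Lib.Linear.Symplectic
import Cfsg.Prelude.Def_Classical

/-!
`Sp₆(3^a)`: the model of the field extension subgroup `Sp₂(q³).3` in a self-dual normal basis.
-/

set_option autoImplicit false

namespace CfsgLib.TwoCover.SympThree

open Matrix Cfsg CfsgLib.Linear.Symp Polynomial

variable {F : Type*} [Field F] [Fintype F] [CharP F 3]

/-- The cyclic permutation matrix. -/
def cyc (F : Type*) [Zero F] [One F] : Matrix (Fin 3) (Fin 3) F :=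
  Equiv.Perm.permMatrix F (Equiv.symm (finRotate 3))

omit [Fintype F] [CharP F 3] in
theorem cyc_mulVec (v : Fin 3 → F) : cyc F *ᵥ v = ![v 2, v 0, v 1] := by
  rw [cyc, Matrix.permMatrix_mulVec]
  funext i
  fin_cases i <;> rfl

/-- A symmetric root of an irreducible cubic, normalised by the cyclic permutation. -/
theorem exists_model :
    ∃ (f : F[X]) (M τ : Matrix (Fin 3) (Fin 3) F), Irreducible f ∧ f.natDegree = 3 ∧
      aeval M f = 0 ∧ M ^ Fintype.card F ^ 3 = M ∧ Mᵀ = M ∧ cyc F * M = M ^ Fintype.card F * cyc F ∧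
      τᵀ = τ ∧ τ * M = M * τ ∧
      cyc F * cyc F * τ * cyc F + cyc F * τ * cyc F * cyc F + τ = 1 := by
  classical
  obtain ⟨f, -, hf, hd⟩ := exists_monic_irreducible F 3
  haveI := Fact.mk hf
  set pb := AdjoinRoot.powerBasis hf.ne_zero
  haveI : Module.Finite F (AdjoinRoot f) := pb.finite
  haveI : Finite (AdjoinRoot f) := Module.finite_of_finite F
  have hfr : Module.finrank F (AdjoinRoot f) = 3 := by rw [pb.finrank, AdjoinRoot.powerBasis_dim, hd]
  set q := Fintype.card F
  set σ := FiniteField.frobeniusAlgHom F (AdjoinRoot f)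
  have hσ : ∀ x, σ x = x ^ q := fun x => rfl
  have hσ3 : ∀ x, σ (σ (σ x)) = x := fun x => by
    rw [hσ, hσ, hσ, ← pow_mul, ← pow_mul, show q * (q * q) = q ^ 3 by ring]
    have h := pow_card_adjoinRoot (F := F) x
    rwa [hd] at h
  set T : AdjoinRoot f →ₗ[F] F := Algebra.trace F (AdjoinRoot f)
  have hT : ∀ x, algebraMap F (AdjoinRoot f) (T x) = x + σ x + σ (σ x) := fun x => by
    rw [FiniteField.algebraMap_trace_eq_sum_pow, hfr, Finset.sum_range_succ, Finset.sum_range_succ,
      Finset.sum_range_succ, Finset.sum_range_zero, hσ, hσ, Nat.card_eq_fintype_card, ← pow_mul]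
    ring
  have hTσ : ∀ x, T (σ x) = T x := fun x => by
    refine (algebraMap F (AdjoinRoot f)).injective ?_
    rw [hT, hT, hσ3]; ring
  have three : (3 : AdjoinRoot f) = 0 := by
    have h : (3 : F) = 0 := by exact_mod_cast CharP.cast_eq_zero F 3
    have h2 := congrArg (algebraMap F (AdjoinRoot f)) h
    rw [map_ofNat, map_zero] at h2
    exact h2
  obtain ⟨η₀, hη₀⟩ : ∃ η, T η ≠ 0 := by
    by_contra h
    push Not at h
    exact Algebra.trace_ne_zero F (AdjoinRoot f) (LinearMap.ext h)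
  set η := (T η₀)⁻¹ • η₀
  have hη : T η = 1 := by rw [map_smul, smul_eq_mul, inv_mul_cancel₀ hη₀]
  set β : F := T (η * η) - 1
  set θ := η + algebraMap F (AdjoinRoot f) β
  have hσθ : σ (algebraMap F (AdjoinRoot f) β) = algebraMap F (AdjoinRoot f) β := σ.commutes β
  have hθ1 : T θ = 1 := by
    refine (algebraMap F (AdjoinRoot f)).injective ?_
    rw [map_one, hT]
    simp only [θ, map_add, hσθ]
    have := hT η
    rw [hη, map_one] at this
    linear_combination -this + algebraMap F (AdjoinRoot f) β * three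
  have hθ2 : T (θ * θ) = 1 := by
    refine (algebraMap F (AdjoinRoot f)).injective ?_
    rw [map_one, hT]
    simp only [θ, map_mul, map_add, hσθ]
    have h1 := hT η
    rw [hη, map_one] at h1
    have h2 := hT (η * η)
    simp only [map_mul] at h2
    have hb : algebraMap F (AdjoinRoot f) β = algebraMap F (AdjoinRoot f) (T (η * η)) - 1 := by
      simp only [β, map_sub, map_one]
    linear_combination -h2 - 2 * algebraMap F (AdjoinRoot f) β * h1 - hb
      + (algebraMap F (AdjoinRoot f) β + algebraMap F (AdjoinRoot f) β ^ 2) * three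
  have hθ3 : T (θ * σ θ) = 0 := by
    refine (algebraMap F (AdjoinRoot f)).injective ?_
    rw [map_zero, hT, map_mul, map_mul, hσ3]
    have h1 := hT θ
    rw [hθ1, map_one] at h1
    have h2 := hT (θ * θ)
    rw [hθ2, map_one, map_mul, map_mul] at h2
    linear_combination -h2 + (1 + (θ + σ θ + σ (σ θ))) * h1 +
      (θ * σ θ + σ θ * σ (σ θ) + σ (σ θ) * θ) * three
  have hθ4 : T (θ * σ (σ θ)) = 0 := by
    rw [← hTσ, map_mul, hσ3, mul_comm, hθ3]
  let b : Fin 3 → AdjoinRoot f := ![θ, σ θ, σ (σ θ)]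
  have hθ5 : T (σ θ * σ θ) = 1 := by rw [← map_mul, hTσ, hθ2]
  have hθ6 : T (σ θ * σ (σ θ)) = 0 := by rw [← map_mul, hTσ, hθ3]
  have hθ7 : T (σ (σ θ) * σ (σ θ)) = 1 := by rw [← map_mul, hTσ, hθ5]
  have hgram : ∀ i j, T (b i * b j) = if i = j then 1 else 0 := by
    intro i j
    fin_cases i <;> fin_cases j <;>
      simp [b, hθ2, hθ3, hθ4, hθ5, hθ6, hθ7, mul_comm (σ θ) θ, mul_comm (σ (σ θ)) θ,
        mul_comm (σ (σ θ)) (σ θ)]
  have hsum : ∀ (k : Fin 3 → F) (i : Fin 3), T (b i * ∑ j, k j • b j) = k i := by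
    intro k i
    simp [Finset.mul_sum, hgram]
  have hli : LinearIndependent F b := by
    rw [Fintype.linearIndependent_iff]
    intro k hk i
    rw [← hsum k i, hk, mul_zero, map_zero]
  let bb := basisOfLinearIndependentOfCardEqFinrank hli (by rw [hfr]; rfl)
  have hbb : ∀ i, bb i = b i := fun i => by simp [bb]
  have hrepr : ∀ x i, bb.repr x i = T (b i * x) := fun x i => by
    have h := hsum (fun j => bb.repr x j) i
    simp only [← hbb, bb.sum_repr] at h
    rw [← hbb, h]
  have hsymm : ∀ z, (Algebra.leftMulMatrix bb z)ᵀ = Algebra.leftMulMatrix bb z := fun z => by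
    ext i j
    rw [transpose_apply, Algebra.leftMulMatrix_eq_repr_mul, Algebra.leftMulMatrix_eq_repr_mul, hrepr,
      hrepr, hbb, hbb]
    congr 1
    ring
  have hbσ : ∀ i, σ (b i) = b (i + 1) := by
    intro i
    fin_cases i <;> simp [b, hσ3]
  have hcyc : ∀ z, cyc F * Algebra.leftMulMatrix bb z = Algebra.leftMulMatrix bb (σ z) * cyc F := by
    intro z
    refine Matrix.ext_iff_mulVec.2 fun v => ?_
    have hP : ∀ w : Fin 3 → F, bb.equivFun.symm (cyc F *ᵥ w) = σ (bb.equivFun.symm w) := by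
      intro w
      rw [cyc_mulVec, Module.Basis.equivFun_symm_apply, Module.Basis.equivFun_symm_apply, map_sum]
      simp only [map_smul, hbb, hbσ, Fin.sum_univ_three]
      simp [b]
      abel
    have hL : ∀ (x : AdjoinRoot f) (w : Fin 3 → F),
        bb.equivFun.symm (Algebra.leftMulMatrix bb x *ᵥ w) = x * bb.equivFun.symm w := by
      intro x w
      refine bb.equivFun.injective ?_
      rw [LinearEquiv.apply_symm_apply]
      have h := Algebra.leftMulMatrix_mulVec_repr bb x (bb.equivFun.symm w)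
      rw [← Module.Basis.equivFun_apply, ← Module.Basis.equivFun_apply, LinearEquiv.apply_symm_apply] at h
      exact h
    refine bb.equivFun.symm.injective ?_
    rw [← mulVec_mulVec, ← mulVec_mulVec, hP, hL, hL, hP, map_mul]
  refine ⟨f, Algebra.leftMulMatrix bb (AdjoinRoot.root f), Algebra.leftMulMatrix bb θ, hf, hd, ?_, ?_,
    hsymm _, ?_, hsymm _, ?_, ?_⟩
  · rw [aeval_algHom_apply, AdjoinRoot.aeval_eq, AdjoinRoot.mk_self, map_zero]
  · have h := pow_card_adjoinRoot (F := F) (AdjoinRoot.root f)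
    rw [hd] at h
    rw [← map_pow, h]
  · rw [hcyc, hσ, map_pow]
  · rw [← map_mul, ← map_mul, mul_comm]
  · have h3 : cyc F * cyc F * cyc F = 1 := by
      refine Matrix.ext_iff_mulVec.2 fun v => ?_
      rw [← mulVec_mulVec, ← mulVec_mulVec, cyc_mulVec, cyc_mulVec, cyc_mulVec, one_mulVec]
      funext i; fin_cases i <;> rfl
    have e1 : cyc F * cyc F * Algebra.leftMulMatrix bb θ * cyc F = Algebra.leftMulMatrix bb (σ (σ θ)) := by
      rw [Matrix.mul_assoc (cyc F) (cyc F) (Algebra.leftMulMatrix bb θ), hcyc, ← Matrix.mul_assoc, hcyc,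
        Matrix.mul_assoc _ (cyc F) (cyc F), Matrix.mul_assoc _ (cyc F) (cyc F * cyc F),
        ← Matrix.mul_assoc (cyc F) (cyc F) (cyc F), h3, Matrix.mul_one]
    have e2 : cyc F * Algebra.leftMulMatrix bb θ * cyc F * cyc F = Algebra.leftMulMatrix bb (σ θ) := by
      rw [hcyc, Matrix.mul_assoc _ (cyc F) (cyc F), Matrix.mul_assoc _ (cyc F) (cyc F * cyc F),
        ← Matrix.mul_assoc (cyc F) (cyc F) (cyc F), h3, Matrix.mul_one]
    rw [e1, e2, ← map_add, ← map_add]
    rw [show σ (σ θ) + σ θ + θ = 1 by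
      have := hT θ
      rw [hθ1, map_one] at this
      linear_combination -this, map_one]

/-- The block diagonal matrix. -/
def dbl (A : Matrix (Fin 3) (Fin 3) F) : Matrix (Fin 3 ⊕ Fin 3) (Fin 3 ⊕ Fin 3) F :=
  fromBlocks A 0 0 A

omit [Fintype F] [CharP F 3] in
theorem dbl_pow (A : Matrix (Fin 3) (Fin 3) F) (k : ℕ) : dbl A ^ k = dbl (A ^ k) := by
  induction k with
  | zero => simp [dbl, fromBlocks_one]
  | succ k ih => rw [pow_succ, ih, dbl, dbl, dbl, fromBlocks_multiply]; simp [pow_succ]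

/-- The normaliser of the cubic field. -/
def fieldStab (Q : ℕ) (J : Matrix (Fin 3 ⊕ Fin 3) (Fin 3 ⊕ Fin 3) F) (hJ : J ^ Q ^ 3 = J) :
    Subgroup (symplecticGroup (Fin 3) F) where
  carrier := {g | ∃ k : ℕ, g.1 * J = J ^ Q ^ k * g.1}
  one_mem' := ⟨0, by
    show (1 : Matrix (Fin 3 ⊕ Fin 3) (Fin 3 ⊕ Fin 3) F) * J = J ^ Q ^ 0 * 1
    rw [pow_zero, pow_one, one_mul, mul_one]⟩
  mul_mem' := by
    rintro a b ⟨k, hk⟩ ⟨l, hl⟩
    refine ⟨k + l, ?_⟩
    show a.1 * b.1 * J = J ^ Q ^ (k + l) * (a.1 * b.1)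
    rw [mul_assoc, hl, ← mul_assoc, (SemiconjBy.pow_right (a := a.1) (x := J) (y := J ^ Q ^ k) hk _).eq,
      ← pow_mul, ← pow_add, mul_assoc]
  inv_mem' := by
    rintro a ⟨k, hk⟩
    refine ⟨2 * k, ?_⟩
    have h3 : J ^ Q ^ (3 * k) = J := by
      clear hk
      induction k with
      | zero => simp
      | succ n ih => rw [Nat.mul_succ, pow_add, pow_mul, ih]; exact hJ
    have h1 : (a⁻¹).1 * a.1 = 1 := congrArg Subtype.val (inv_mul_cancel a)
    have h2 : a.1 * (a⁻¹).1 = 1 := congrArg Subtype.val (mul_inv_cancel a)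
    have hka : a.1 * J ^ Q ^ (2 * k) = J * a.1 := by
      rw [(SemiconjBy.pow_right (a := a.1) (x := J) (y := J ^ Q ^ k) hk _).eq, ← pow_mul,
        ← pow_add, show k + 2 * k = 3 * k by ring, h3]
    calc (a⁻¹).1 * J = (a⁻¹).1 * (J * a.1) * (a⁻¹).1 := by
          rw [mul_assoc, mul_assoc J, h2, mul_one]
      _ = J ^ Q ^ (2 * k) * (a⁻¹).1 := by rw [← hka, ← mul_assoc, h1, one_mul]

omit [Fintype F] [CharP F 3] in
theorem form_blocks (u v : Fin 3 → F) (u' v' : Fin 3 → F) :
    sympForm 3 F (Sum.elim u v) (Sum.elim u' v') = ∑ i, (v i * u' i - u i * v' i) := by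
  rw [sympForm_eq_sum]; rfl

omit [Fintype F] [CharP F 3] in
/-- `cyc ⊗ S` is symplectic for `S` of determinant one. -/
theorem tensor_mem {p r s u : F} (h : p * u - s * r = 1) :
    fromBlocks (p • cyc F) (s • cyc F) (r • cyc F) (u • cyc F) ∈ symplecticGroup (Fin 3) F := by
  refine mem_of_form_mulVec fun x y => ?_
  rw [← Sum.elim_comp_inl_inr x, ← Sum.elim_comp_inl_inr y, fromBlocks_mulVec, fromBlocks_mulVec,
    form_blocks, form_blocks]
  simp [smul_mulVec, cyc_mulVec, Fin.sum_univ_three]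
  linear_combination ((x (.inr 2) * y (.inl 2) - x (.inl 2) * y (.inr 2)) +
    (x (.inr 0) * y (.inl 0) - x (.inl 0) * y (.inr 0)) +
    (x (.inr 1) * y (.inl 1) - x (.inl 1) * y (.inr 1))) * h

omit [Fintype F] [CharP F 3] in
/-- The regular unipotent model `(cyc ⊗ 1) U(T)` is symplectic for symmetric `T`. -/
theorem unip_mem {T : Matrix (Fin 3) (Fin 3) F} (hT : Tᵀ = T) :
    fromBlocks (cyc F) (cyc F * T) 0 (cyc F) ∈ symplecticGroup (Fin 3) F := by
  refine mem_of_form_mulVec fun x y => ?_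
  rw [← Sum.elim_comp_inl_inr x, ← Sum.elim_comp_inl_inr y, fromBlocks_mulVec, fromBlocks_mulVec,
    form_blocks, form_blocks]
  have hs : ∀ i j, T j i = T i j := fun i j => congrFun (congrFun hT i) j
  simp [← mulVec_mulVec, cyc_mulVec, Fin.sum_univ_three, Matrix.mulVec, dotProduct, hs 0 1, hs 0 2, hs 1 2]
  ring

end CfsgLib.TwoCover.SympThree
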