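import Cfsg.Agent.Lib.TwoCover.SympThreeFrame

/-!
`Sp₆(3^a)`: normal form of regular unipotent elements.
-/

set_option autoImplicit false

namespace CfsgLib.TwoCover.SympThree

open Matrix Cfsg CfsgLib.Linear.Symp

variable {F : Type*} [Field F]

local notation "V6" => Fin 3 ⊕ Fin 3 → F
local notation "M6" => Matrix (Fin 3 ⊕ Fin 3) (Fin 3 ⊕ Fin 3) F

/-- The regular unipotent model. -/
def regModel (μ : F) : M6 :=
  fromBlocks (cyc F) (cyc F * (μ • Matrix.single 0 0 1)) 0 (cyc F)

theorem regModel_mem (μ : F) : regModel μ ∈ symplecticGroup (Fin 3) F := by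
  refine unip_mem ?_
  rw [transpose_smul, transpose_single]

theorem regModel_mulVec (μ : F) (x : V6) : regModel μ *ᵥ x =
    Sum.elim ![x (.inl 2), x (.inl 0) + μ * x (.inr 0), x (.inl 1)] ![x (.inr 2), x (.inr 0), x (.inr 1)] := by
  conv_lhs => rw [← Sum.elim_comp_inl_inr x]
  rw [regModel, fromBlocks_mulVec]
  funext j
  rcases j with i | i <;>
    fin_cases i <;> simp [cyc_mulVec, ← mulVec_mulVec, Matrix.single, Matrix.mulVec, dotProduct, Fin.sum_univ_three]

/-- A regular unipotent element is conjugate to a model. -/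
theorem regular_frame [CharP F 3] (g : symplecticGroup (Fin 3) F) (h6 : (g.1 - 1) ^ 6 = 0)
    (h5 : (g.1 - 1) ^ 5 ≠ 0) :
    ∃ (h : symplecticGroup (Fin 3) F) (μ : F), μ ≠ 0 ∧ g.1 * h.1 = h.1 * regModel μ := by
  have three := three_eq_zero (F := F)
  set G : V6 → V6 := fun u => g.1 *ᵥ u with hG
  set S : V6 → V6 := fun u => (g⁻¹).1 *ᵥ u with hS
  have hGS : ∀ u, G (S u) = u := fun u => by
    show g.1 *ᵥ ((g⁻¹).1 *ᵥ u) = u
    rw [mulVec_mulVec, show g.1 * (g⁻¹).1 = 1 from congrArg Subtype.val (mul_inv_cancel g), one_mulVec]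
  have hSG : ∀ u, S (G u) = u := fun u => by
    show (g⁻¹).1 *ᵥ (g.1 *ᵥ u) = u
    rw [mulVec_mulVec, show (g⁻¹).1 * g.1 = 1 from congrArg Subtype.val (inv_mul_cancel g), one_mulVec]
  have hiso : ∀ u v, sympForm 3 F (G u) (G v) = sympForm 3 F u v := fun u v => form_mulVec g.2 u v
  have hl : ∀ u v, sympForm 3 F (G u) v = sympForm 3 F u (S v) := fun u v => by
    conv_lhs => rw [← hGS v, hiso]
  have hr : ∀ u v, sympForm 3 F (S u) v = sympForm 3 F u (G v) := fun u v => by
    conv_rhs => rw [← hGS u, hiso]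
  have hGadd : ∀ u v, G (u + v) = G u + G v := fun u v => mulVec_add _ _ _
  have hSadd : ∀ u v, S (u + v) = S u + S v := fun u v => mulVec_add _ _ _
  have hGsmul : ∀ (k : F) u, G (k • u) = k • G u := fun k u => mulVec_smul _ _ _
  have hSsmul : ∀ (k : F) u, S (k • u) = k • S u := fun k u => mulVec_smul _ _ _
  have hGsub : ∀ u v, G (u - v) = G u - G v := fun u v => mulVec_sub _ _ _
  have hSsub : ∀ u v, S (u - v) = S u - S v := fun u v => mulVec_sub _ _ _
  have hG0 : G 0 = 0 := mulVec_zero _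
  have hS0 : S 0 = 0 := mulVec_zero _
  set N : M6 := g.1 - 1
  have hN : ∀ u, N *ᵥ u = G u - u := fun u => by simp [N, hG, sub_mulVec]
  have hQ : ∀ u, G (G u + S u + u) = N *ᵥ (N *ᵥ u) := fun u => by
    rw [hGadd, hGadd, hGS, hN, hN, hGsub]
    funext i
    simp only [Pi.add_apply, Pi.sub_apply]
    linear_combination G u i * three
  set Q : V6 → V6 := fun u => G u + S u + u with hQd
  set Z : V6 → V6 := fun u => G u - S u with hZd
  have hNS : ∀ u, N *ᵥ S u = S (N *ᵥ u) := fun u => by rw [hN, hN, hSsub, hGS, hSG]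
  have hQeq : ∀ u, Q u = S (N *ᵥ (N *ᵥ u)) := fun u => by rw [← hQ, hSG]
  have hNp : ∀ (k : ℕ) u, (N ^ (k + 1)) *ᵥ u = N *ᵥ ((N ^ k) *ᵥ u) := fun k u => by
    rw [pow_succ', mulVec_mulVec]
  have hQ3 : ∀ u, Q (Q (Q u)) = 0 := fun u => by
    simp only [hQeq, hNS]
    rw [show N *ᵥ (N *ᵥ (N *ᵥ (N *ᵥ (N *ᵥ (N *ᵥ u))))) = (N ^ 6) *ᵥ u by
      simp only [hNp, pow_zero, one_mulVec], h6, zero_mulVec, hS0, hS0, hS0]
  have hQadd : ∀ u v, Q (u + v) = Q u + Q v := fun u v => by simp only [hQd, hGadd, hSadd]; abel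
  have hQsmul : ∀ (k : F) u, Q (k • u) = k • Q u := fun k u => by
    simp only [hQd, hGsmul, hSsmul, smul_add]
  have hZadd : ∀ u v, Z (u + v) = Z u + Z v := fun u v => by simp only [hZd, hGadd, hSadd]; abel
  have hZsmul : ∀ (k : F) u, Z (k • u) = k • Z u := fun k u => by
    simp only [hZd, hGsmul, hSsmul, smul_sub]
  have hQZ : ∀ u, Q (Z u) = Z (Q u) := fun u => by
    simp only [hQd, hZd, hGsub, hSsub, hGadd, hSadd, hGS, hSG]; abel
  have hQadj : ∀ u v, sympForm 3 F (Q u) v = sympForm 3 F u (Q v) := fun u v => by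
    simp only [hQd, form_add_left, form_add_right, hl, hr]; ring
  obtain ⟨v, hv⟩ : ∃ v, (N ^ 5) *ᵥ v ≠ 0 := by
    by_contra hc
    push Not at hc
    exact h5 (Matrix.ext_iff_mulVec.2 fun v => by rw [hc, zero_mulVec])
  have hli : LinearIndependent F (fun k : Fin 6 => (N ^ (k : ℕ)) *ᵥ v) := by
    rw [Fintype.linearIndependent_iff]
    intro c hc
    have key : ∀ k : ℕ, ∀ hk : k < 6, c ⟨k, hk⟩ = 0 := by
      intro k
      induction k using Nat.strong_induction_on with
      | _ k ih =>
        intro hk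
        have h := congrArg (N ^ (5 - k) *ᵥ ·) hc
        simp only [mulVec_sum, mulVec_smul, mulVec_mulVec, ← pow_add, mulVec_zero] at h
        rw [Finset.sum_eq_single (⟨k, hk⟩ : Fin 6)] at h
        · rw [show 5 - k + k = 5 by omega] at h
          exact (smul_eq_zero.1 h).resolve_right hv
        · intro b _ hb
          rcases Nat.lt_or_ge (b : ℕ) k with hlt | hge
          · rw [ih b hlt b.2, zero_smul]
          · have hgt : k < (b : ℕ) := lt_of_le_of_ne hge fun e => hb (Fin.ext e.symm)
            rw [pow_eq_zero_of_le (by omega : 6 ≤ 5 - k + (b : ℕ)) h6, zero_mulVec, smul_zero]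
        · simp
    exact fun i => key i i.2
  have hz2 : sympForm 3 F v (Z (Q (Q v))) ≠ 0 := by
    intro hc
    set w := N *ᵥ (Q (Q v)) with hw
    have hw5 : w = S (S ((N ^ 5) *ᵥ v)) := by
      simp only [hw, hQeq, hNS, hNp, pow_zero, one_mulVec]
    have hNw : N *ᵥ w = 0 := by
      rw [hw5, hNS, hNS, ← hNp, h6, zero_mulVec, hS0, hS0]
    have hSw : S w = w := by
      have h1 : G w = w := sub_eq_zero.1 ((hN w).symm.trans hNw)
      conv_lhs => rw [← h1, hSG]
    have horth : ∀ u, sympForm 3 F (N *ᵥ u) w = 0 := fun u => by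
      rw [hN, form_sub_left, hl, hSw, sub_self]
    have hQQ : Q (Q (Q v)) = 0 := hQ3 v
    have aux : ∀ y, Q y = 0 → Z y = -S (N *ᵥ y) := fun y hy => by
      rw [hN, hSsub, hSG]
      simp only [hQd] at hy
      simp only [hZd]
      rw [neg_sub]
      funext i
      have h1 := congrFun hy i
      simp only [Pi.add_apply, Pi.sub_apply, Pi.zero_apply] at h1 ⊢
      linear_combination h1 - S y i * three
    have hzw : Z (Q (Q v)) = -S w := aux _ hQQ
    rw [hzw, hSw, form_neg_right, neg_eq_zero] at hc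
    refine hv ?_
    have hw0 : w = 0 := by
      by_contra hne
      obtain ⟨x, hx⟩ := exists_form_ne_zero hne
      refine hx ?_
      rw [form_swap, neg_eq_zero]
      have hmem : x ∈ Submodule.span F (Set.range fun k : Fin 6 => (N ^ (k : ℕ)) *ᵥ v) := by
        rw [hli.span_eq_top_of_card_eq_finrank (by simp)]; trivial
      obtain ⟨c, rfl⟩ := Submodule.mem_span_range_iff_exists_fun F |>.1 hmem
      simp only [Fin.sum_univ_succ, Finset.univ_eq_empty, Finset.sum_empty, Fin.val_zero, Fin.val_succ,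
        hNp, pow_zero, one_mulVec, form_add_left, form_smul_left, horth, hc, form_zero_left, mul_zero,
        add_zero]
    rw [hw5] at hw0
    have := congrArg G (congrArg G hw0)
    rwa [hGS, hG0, hGS, hG0] at this
  set z0 := sympForm 3 F v (Z v) with hz0d
  set z1 := sympForm 3 F v (Z (Q v)) with hz1d
  set z2 := sympForm 3 F v (Z (Q (Q v))) with hz2d
  set α := z1 / z2
  set β := (z0 + 2 * α * z1 + α ^ 2 * z2) / z2
  set w := v + α • Q v + β • Q (Q v) with hwd
  have hred : ∀ u, sympForm 3 F w (Z u) =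
      sympForm 3 F v (Z u) + α * sympForm 3 F v (Z (Q u)) + β * sympForm 3 F v (Z (Q (Q u))) := fun u => by
    simp only [hwd, form_add_left, form_smul_left, hQadj, hQZ]
  have hQQ0 : Q 0 = 0 := by simp only [hQd, hG0, hS0, add_zero]
  have hZ0 : Z 0 = 0 := by simp only [hZd, hG0, hS0, sub_zero]
  have c0 : sympForm 3 F w (Z w) = 0 := by
    rw [hred, hwd]
    simp only [hQadd, hQsmul, hQ3, hQQ0, hZadd, hZsmul, hZ0, smul_zero, add_zero, form_add_right,
      form_smul_right, form_zero_right, ← hz0d, ← hz1d, ← hz2d, mul_zero]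
    simp only [β, α]
    field_simp
    linear_combination (z0 * z2 + z1 ^ 2 * 2 + 0) * three * 0 + (z0 * z2 + z1 ^ 2 * 3) * three * 0
      + (z0 * z2 + 2 * z1 ^ 2 + z1 ^ 2) * three
  have c1 : sympForm 3 F w (Z (Q w)) = 0 := by
    rw [hred, hwd]
    simp only [hQadd, hQsmul, hQ3, hQQ0, hZadd, hZsmul, hZ0, smul_zero, add_zero, form_add_right,
      form_smul_right, form_zero_right, ← hz1d, ← hz2d, mul_zero]
    simp only [α]
    field_simp
    linear_combination z1 * three
  have c2 : sympForm 3 F w (Z (Q (Q w))) = z2 := by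
    rw [hred, hwd]
    simp only [hQadd, hQsmul, hQ3, hQQ0, hZadd, hZsmul, hZ0, smul_zero, add_zero, form_add_right,
      form_smul_right, form_zero_right, ← hz2d, mul_zero]
  have fS : ∀ u u', sympForm 3 F u (S u') = -sympForm 3 F u' (G u) := fun u u' => by
    rw [form_swap, hr]
  have a1 : sympForm 3 F w (G w) = 0 := by
    have := c0
    simp only [hZd, form_sub_right, fS w w] at this
    linear_combination (-1 : F) * this + sympForm 3 F w (G w) * three
  have hS2 : sympForm 3 F w (S (S w)) = -sympForm 3 F w (G (G w)) := by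
    rw [← hl, form_swap, hr]
  have hS3 : sympForm 3 F w (S (S (S w))) = -sympForm 3 F w (G (G (G w))) := by
    rw [← hl, ← hl, form_swap, hr]
  have hS1 : sympForm 3 F w (S w) = -sympForm 3 F w (G w) := fS w w
  have a2 : sympForm 3 F w (G (G w)) = 0 := by
    have := c1
    simp only [hZd, hQd, hGadd, hSadd, hGS, hSG, form_sub_right, form_add_right, hS1, hS2, a1, form_self] at this
    linear_combination (-1 : F) * this + sympForm 3 F w (G (G w)) * three
  have a3 : sympForm 3 F w (G (G (G w))) = -z2 := by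
    have := c2
    simp only [hZd, hQd, hGadd, hSadd, hGS, hSG, form_sub_right, form_add_right, hS1, hS2, hS3, a1, a2,
      form_self] at this
    linear_combination (-1 : F) * this + sympForm 3 F w (G (G (G w))) * three
  have hN6 : ∀ u, N *ᵥ (N *ᵥ (N *ᵥ (N *ᵥ (N *ᵥ (N *ᵥ u))))) = 0 := fun u => by
    have := congrArg (· *ᵥ u) h6
    simpa only [hNp, pow_zero, one_mulVec, zero_mulVec] using this
  have hN3 : ∀ u, N *ᵥ (N *ᵥ (N *ᵥ u)) = G (G (G u)) - u := fun u => by
    simp only [hN, hGsub]
    funext i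
    simp only [Pi.sub_apply]
    linear_combination (G u i - G (G u) i) * three
  have hG6 : ∀ u, G (G (G (G (G (G u))))) = G (G (G u)) + G (G (G u)) - u := fun u => by
    have := hN6 u
    rw [hN3, hN3] at this
    simp only [hGsub] at this
    funext i
    have h1 := congrFun this i
    simp only [Pi.sub_apply, Pi.add_apply, Pi.zero_apply] at h1 ⊢
    linear_combination h1
  have a4 : sympForm 3 F w (G (G (G (G w)))) = 0 := by
    have h := congrArg (sympForm 3 F (G (G w))) (hG6 w)
    rw [hiso, hiso, form_sub_right, form_add_right, hiso, hiso, a1] at h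
    rw [h, show sympForm 3 F (G (G w)) w = 0 by rw [form_swap, a2, neg_zero]]
    ring
  have a5 : sympForm 3 F w (G (G (G (G (G w))))) = 0 := by
    have h := congrArg (sympForm 3 F (G w)) (hG6 w)
    rw [hiso, form_sub_right, form_add_right, hiso, a2] at h
    rw [h, show sympForm 3 F (G w) w = 0 by rw [form_swap, a1, neg_zero]]
    ring
  set T0 := z2
  set x := (-T0⁻¹) • (G (G (G w)) - w) with hxd
  have hGx : G (G (G x)) = x := by
    simp only [hxd, hGsmul, hGsub]
    rw [hG6]
    funext i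
    simp only [Pi.smul_apply, Pi.sub_apply, Pi.add_apply, smul_eq_mul]
    ring
  have hSx : S x = G (G x) := by conv_lhs => rw [← hGx, hSG]
  have hSSx : S (S x) = G x := by rw [hSx, hSG]
  have n3w : sympForm 3 F (G (G (G w))) w = z2 := by rw [form_swap, a3, neg_neg]
  have n4w : sympForm 3 F (G (G (G (G w)))) w = 0 := by rw [form_swap, a4, neg_zero]
  have n5w : sympForm 3 F (G (G (G (G (G w))))) w = 0 := by rw [form_swap, a5, neg_zero]
  have n1w : sympForm 3 F (G w) w = 0 := by rw [form_swap, a1, neg_zero]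
  have n2w : sympForm 3 F (G (G w)) w = 0 := by rw [form_swap, a2, neg_zero]
  have xw0 : sympForm 3 F x w = -1 := by
    rw [hxd, form_smul_left, form_sub_left, n3w, form_self, sub_zero, neg_mul,
      inv_mul_cancel₀ hz2]
  have xw1 : sympForm 3 F (G x) w = 0 := by
    simp only [hxd, hGsmul, hGsub, form_smul_left, form_sub_left, n4w, n1w, sub_zero, mul_zero]
  have xw2 : sympForm 3 F (G (G x)) w = 0 := by
    simp only [hxd, hGsmul, hGsub, form_smul_left, form_sub_left, n5w, n2w, sub_zero, mul_zero]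
  have hx3fix : ∀ u, sympForm 3 F (G (G (G w)) - w) u = sympForm 3 F w (S (S (S u)) - u) := fun u => by
    rw [form_sub_left, form_sub_right, hl, hl, hl]
  have xx : ∀ u, G (G (G u)) = u → sympForm 3 F x u = 0 := fun u hu => by
    rw [hxd, form_smul_left, hx3fix]
    have : S (S (S u)) = u := by conv_lhs => rw [← hu, hSG, hSG, hSG]
    rw [this, sub_self, form_zero_right, mul_zero]
  have xx1 : sympForm 3 F x (G x) = 0 := xx _ (by rw [hGx])
  have xx2 : sympForm 3 F x (G (G x)) = 0 := xx _ (by rw [hGx])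
  set b1 := G w + T0 • G x with hb1d
  set b2 := G b1 with hb2d
  have hb20 : G b2 = w := by
    simp only [hb2d, hb1d, hGadd, hGsmul, hGx]
    rw [hxd, smul_smul, mul_neg, mul_inv_cancel₀ hz2, neg_one_smul]
    abel
  have wGx : sympForm 3 F w (G x) = 0 := by rw [form_swap, xw1, neg_zero]
  have wGGx : sympForm 3 F w (G (G x)) = 0 := by rw [form_swap, xw2, neg_zero]
  have w01 : sympForm 3 F w b1 = 0 := by
    rw [hb1d, form_add_right, form_smul_right, a1, wGx, mul_zero, add_zero]
  have w02 : sympForm 3 F w b2 = 0 := by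
    rw [hb2d, hb1d, hGadd, hGsmul, form_add_right, form_smul_right, a2, wGGx, mul_zero, add_zero]
  have xGw : sympForm 3 F x (G w) = 0 := by rw [form_swap, hl, hSx, wGGx, neg_zero]
  have w12 : sympForm 3 F b1 b2 = 0 := by
    rw [hb2d]
    conv_lhs => rw [hb1d]
    simp only [hGadd, hGsmul, form_add_left, form_add_right, form_smul_left, form_smul_right, hiso, a1, wGx,
      xw1, xx1, form_swap (G (G x)) (G w)]
    simp only [hl, hr, hSx, hSSx, hSG, wGx, wGGx, mul_zero, add_zero, neg_zero, form_swap x (G w), a1, xGw]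
  have xb01 : sympForm 3 F x b1 = 0 := by
    rw [hb1d, form_add_right, form_smul_right, xx1, mul_zero, add_zero, form_swap, hl, hSx, wGGx, neg_zero]
  have xb02 : sympForm 3 F x b2 = 0 := by
    rw [hb2d, form_swap, hl, hSx, form_swap, neg_neg]
    rw [hb1d, form_add_right, form_smul_right, hiso, xw1, hiso, form_swap x (G x), xx1]
    ring
  have xb10 : sympForm 3 F (G x) w = 0 := xw1
  have xb11 : sympForm 3 F (G x) b1 = -1 := by
    rw [hb1d, form_add_right, form_smul_right, hiso, hiso, xw0, form_self, mul_zero, add_zero]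
  have xb12 : sympForm 3 F (G x) b2 = 0 := by rw [hb2d, hiso, xb01]
  have xb21 : sympForm 3 F (G (G x)) b1 = 0 := by
    rw [hb1d, form_add_right, form_smul_right, hiso, hiso, xw1, form_swap x (G x), xx1]; ring
  have xb22 : sympForm 3 F (G (G x)) b2 = -1 := by rw [hb2d, hiso, xb11]
  obtain ⟨h, hh⟩ := exists_frame_elt ![x, G x, G (G x)] ![w, b1, b2] (by
    intro i j
    fin_cases i <;> fin_cases j <;>
      simp [xx1, xx2, hiso, form_self, form_swap x (G x), form_swap x (G (G x)),
        form_swap (G x) (G (G x))]) (by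
    intro i j
    fin_cases i <;> fin_cases j <;>
      simp [w01, w02, w12, form_self, form_swap w b1, form_swap w b2, form_swap b1 b2]) (by
    intro i j
    fin_cases i <;> fin_cases j <;> simp [xw0, xb01, xb02, xb10, xb11, xb12, xw2, xb21, xb22])
  refine ⟨h, -T0, neg_ne_zero.2 hz2, frame_conj fun j => ?_⟩
  rw [regModel_mulVec, hh, hh]
  show G _ = _
  rcases j with i | i <;> fin_cases i <;>
    simp [hGadd, hGsmul, hGx, hG0, hb20, ← hb2d] <;>
    (simp only [hb1d]; module)

end CfsgLib.TwoCover.SympThree
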