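import Cfsg.Agent.Lib.TwoCover.SympThreeBasic

/-!
`Sp₆(q)`, `q` odd: the self-adjoint element `T = g + g⁻¹` and the reduction to one eigenvalue.
-/

set_option autoImplicit false

namespace CfsgLib.TwoCover.SympThree

open Matrix Cfsg CfsgLib.Linear.Symp Polynomial

variable {F : Type*} [Field F]

local notation "V6" => Fin 3 ⊕ Fin 3 → F
local notation "M6" => Matrix (Fin 3 ⊕ Fin 3) (Fin 3 ⊕ Fin 3) F

/-- `g + g⁻¹`. -/
def tr' (g : symplecticGroup (Fin 3) F) : M6 := g.1 + (g⁻¹).1

theorem mul_inv_coe (g : symplecticGroup (Fin 3) F) : g.1 * (g⁻¹).1 = 1 :=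
  congrArg Subtype.val (mul_inv_cancel g)

theorem inv_mul_coe (g : symplecticGroup (Fin 3) F) : (g⁻¹).1 * g.1 = 1 :=
  congrArg Subtype.val (inv_mul_cancel g)

theorem form_g_left (g : symplecticGroup (Fin 3) F) (u v : V6) :
    sympForm 3 F (g.1 *ᵥ u) v = sympForm 3 F u ((g⁻¹).1 *ᵥ v) := by
  conv_lhs => rw [← one_mulVec v, ← mul_inv_coe g, ← mulVec_mulVec, form_mulVec g.2]

theorem form_inv_left (g : symplecticGroup (Fin 3) F) (u v : V6) :
    sympForm 3 F ((g⁻¹).1 *ᵥ u) v = sympForm 3 F u (g.1 *ᵥ v) := by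
  have h := form_g_left g⁻¹ u v
  rwa [inv_inv] at h

theorem tr_adj (g : symplecticGroup (Fin 3) F) (u v : V6) :
    sympForm 3 F (tr' g *ᵥ u) v = sympForm 3 F u (tr' g *ᵥ v) := by
  rw [tr', add_mulVec, add_mulVec, form_add_left, form_add_right, form_g_left, form_inv_left, add_comm]

theorem tr_comm (g : symplecticGroup (Fin 3) F) : g.1 * tr' g = tr' g * g.1 := by
  rw [tr', mul_add, add_mul, mul_inv_coe, inv_mul_coe]

theorem aeval_adj {T : M6} (hT : ∀ u v : V6, sympForm 3 F (T *ᵥ u) v = sympForm 3 F u (T *ᵥ v))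
    (r : F[X]) : ∀ u v : V6,
      sympForm 3 F (aeval T r *ᵥ u) v = sympForm 3 F u (aeval T r *ᵥ v) := by
  induction r using Polynomial.induction_on' with
  | add p s hp hs =>
    intro u v
    simp only [map_add, add_mulVec, form_add_left, form_add_right, hp, hs]
  | monomial k c =>
    intro u v
    rw [aeval_monomial, ← Algebra.smul_def, smul_mulVec, smul_mulVec, form_smul_left, form_smul_right]
    congr 1
    induction k generalizing u v with
    | zero => rw [pow_zero, one_mulVec, one_mulVec]
    | succ k ih =>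
      conv_lhs => rw [pow_succ, ← mulVec_mulVec, ih, hT, mulVec_mulVec, ← pow_succ']

theorem comm_aeval {G T : M6} (h : G * T = T * G) (r : F[X]) : G * aeval T r = aeval T r * G :=
  (Algebra.commute_of_mem_adjoin_singleton_of_commute
    (Polynomial.aeval_mem_adjoin_singleton F T) (show Commute G T from h)).eq

variable {g : symplecticGroup (Fin 3) F}

theorem plane_of_coprime {a b : F[X]} (hab : IsCoprime a b)
    (h0 : aeval (tr' g) (a * b) = 0) (ha : aeval (tr' g) a ≠ 0) (hb : aeval (tr' g) b ≠ 0) :
    HasPlane g.1 := by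
  set T := tr' g
  set U : Submodule F V6 := LinearMap.ker (mulVecLin (aeval T a)) with hU
  set W : Submodule F V6 := LinearMap.ker (mulVecLin (aeval T b)) with hW
  obtain ⟨c, d, hcd⟩ := hab
  have hone : ∀ v : V6, aeval T c *ᵥ (aeval T a *ᵥ v) + aeval T d *ᵥ (aeval T b *ᵥ v) = v := fun v => by
    have h := congrArg (fun r => aeval T r *ᵥ v) hcd
    simpa [add_mulVec, mulVec_mulVec] using h
  have hmemU : ∀ v, v ∈ U ↔ aeval T a *ᵥ v = 0 := fun v => by rw [hU, LinearMap.mem_ker]; rfl
  have hmemW : ∀ v, v ∈ W ↔ aeval T b *ᵥ v = 0 := fun v => by rw [hW, LinearMap.mem_ker]; rfl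
  have horth : ∀ x ∈ U, ∀ y ∈ W, sympForm 3 F x y = 0 := fun x hx y hy => by
    rw [← hone y, (hmemW y).1 hy, mulVec_zero, add_zero, ← aeval_adj (tr_adj g) c, ← aeval_adj (tr_adj g) a,
      mulVec_mulVec, ← map_mul, mul_comm, map_mul, ← mulVec_mulVec, (hmemU x).1 hx, mulVec_zero,
      form_zero_left]
  have hW1 : ∀ v, aeval T c *ᵥ (aeval T a *ᵥ v) ∈ W := fun v => by
    rw [hmemW, mulVec_mulVec, mulVec_mulVec, ← map_mul, ← map_mul,
      show b * c * a = c * (a * b) by ring, map_mul, h0, mul_zero, zero_mulVec]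
  have hU1 : ∀ v, aeval T d *ᵥ (aeval T b *ᵥ v) ∈ U := fun v => by
    rw [hmemU, mulVec_mulVec, mulVec_mulVec, ← map_mul, ← map_mul,
      show a * d * b = d * (a * b) by ring, map_mul, h0, mul_zero, zero_mulVec]
  have hnd : ∀ (A B' : Submodule F V6), (∀ x ∈ A, ∀ y ∈ B', sympForm 3 F x y = 0) →
      (∀ v : V6, ∃ a ∈ A, ∃ b ∈ B', v = a + b) →
      ∀ x ∈ A, (∀ y ∈ A, sympForm 3 F x y = 0) → x = 0 := by
    intro A B' h1 h2 x hx hxA
    refine eq_zero_of_forall_form fun v => ?_
    obtain ⟨a, ha, b, hb, rfl⟩ := h2 v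
    rw [form_add_right, hxA a ha, h1 x hx b hb, add_zero]
  have hUnd := hnd U W horth fun v => ⟨_, hU1 v, _, hW1 v, by rw [add_comm, hone]⟩
  have hWnd := hnd W U (fun x hx y hy => by rw [form_swap, horth y hy x hx, neg_zero])
    fun v => ⟨_, hW1 v, _, hU1 v, by rw [hone]⟩
  have hinv : ∀ (r : F[X]), ∀ x ∈ LinearMap.ker (mulVecLin (aeval T r)),
      g.1 *ᵥ x ∈ LinearMap.ker (mulVecLin (aeval T r)) := fun r x hx => by
    rw [LinearMap.mem_ker, mulVecLin_apply] at hx ⊢
    rw [mulVec_mulVec, ← comm_aeval (tr_comm g), ← mulVec_mulVec, hx, mulVec_zero]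
  have hsum : U ⊔ W = ⊤ := eq_top_iff.2 fun v _ =>
    Submodule.mem_sup.2 ⟨_, hU1 v, _, hW1 v, by rw [add_comm, hone]⟩
  have hinf : U ⊓ W = ⊥ := by
    rw [eq_bot_iff]
    rintro x ⟨hx, hy⟩
    have h := hone x
    rw [(hmemU x).1 hx, (hmemW x).1 hy, mulVec_zero, mulVec_zero, add_zero] at h
    exact h.symm
  have hdim := Submodule.finrank_sup_add_finrank_inf_eq U W
  rw [hsum, hinf, finrank_bot, finrank_top, Module.finrank_fintype_fun_eq_card] at hdim
  simp at hdim
  obtain ⟨i, hi⟩ := even_of_nondeg (bil F) (fun x => form_self x) U hUnd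
  obtain ⟨j, hj⟩ := even_of_nondeg (bil F) (fun x => form_self x) W hWnd
  have hUne : 0 < Module.finrank F U := Nat.pos_of_ne_zero fun e => hb (by
    refine Matrix.ext_iff_mulVec.2 fun v => ?_
    have h1 := Submodule.finrank_eq_zero.1 e
    have hm : aeval T b *ᵥ v ∈ U := by
      rw [hmemU, mulVec_mulVec, ← map_mul, h0, zero_mulVec]
    rw [h1, Submodule.mem_bot] at hm
    rw [hm, zero_mulVec])
  have hWne : 0 < Module.finrank F W := Nat.pos_of_ne_zero fun e => ha (by
    refine Matrix.ext_iff_mulVec.2 fun v => ?_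
    have h1 := Submodule.finrank_eq_zero.1 e
    have hm : aeval T a *ᵥ v ∈ W := by
      rw [hmemW, mulVec_mulVec, ← map_mul, mul_comm, h0, zero_mulVec]
    rw [h1, Submodule.mem_bot] at hm
    rw [hm, zero_mulVec])
  rcases (by omega : i = 1 ∨ j = 1) with h | h
  · exact hasPlane_of_two (U := U) (by omega) (hinv a) hUnd
  · exact hasPlane_of_two (U := W) (by omega) (hinv b) hWnd

/-- One irreducible factor: a cubic or an eigenvalue, unless there is a plane. -/
theorem split_cases (h2 : (2 : F) ≠ 0) [Finite F] (g : symplecticGroup (Fin 3) F) :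
    HasPlane g.1 ∨
    (∃ p : F[X], Irreducible p ∧ p.natDegree = 3 ∧ aeval (tr' g) p = 0) ∨
    ∃ c : F, (tr' g - c • 1) ^ 3 = 0 := by
  classical
  set T := tr' g
  haveI : Module.Finite F M6 := inferInstance
  have hint : IsIntegral F T := IsIntegral.of_finite F T
  set m := minpoly F T
  have hm0 : m ≠ 0 := minpoly.ne_zero hint
  have hmT : aeval T m = 0 := minpoly.aeval F T
  obtain ⟨p, hp, hpm⟩ := Polynomial.exists_irreducible_of_degree_pos (minpoly.degree_pos hint)
  obtain ⟨k, r, hpr, hmr⟩ := WfDvdMonoid.max_power_factor hm0 hp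
  by_cases hr : IsUnit r
  swap
  · left
    have hk : k ≠ 0 := by
      rintro rfl
      rw [pow_zero, one_mul] at hmr
      exact hpr (hmr ▸ hpm)
    have hr0 : r ≠ 0 := fun e => hm0 (by rw [hmr, e, mul_zero])
    have hdeg : m.natDegree = (p ^ k).natDegree + r.natDegree := by
      rw [hmr, natDegree_mul (pow_ne_zero _ hp.ne_zero) hr0]
    have hr1 : 0 < r.natDegree := by
      refine Nat.pos_of_ne_zero fun e => hr ?_
      rw [isUnit_iff_degree_eq_zero, degree_eq_natDegree hr0, e]; rfl
    have hp1 : 0 < (p ^ k).natDegree := by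
      rw [natDegree_pow]; exact Nat.mul_pos (Nat.pos_of_ne_zero hk) hp.natDegree_pos
    refine plane_of_coprime ((hp.coprime_iff_not_dvd.2 hpr).pow_left) (by rw [← hmr]; exact hmT) ?_ ?_
    · intro e
      have h := natDegree_le_of_dvd (minpoly.dvd F T e) (pow_ne_zero _ hp.ne_zero)
      change m.natDegree ≤ (p ^ k).natDegree at h
      omega
    · intro e
      have h := natDegree_le_of_dvd (minpoly.dvd F T e) hr0
      change m.natDegree ≤ r.natDegree at h
      omega
  have hpk : aeval T (p ^ k) = 0 := by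
    obtain ⟨u, rfl⟩ := hr
    have hu : p ^ k = m * ((u⁻¹ : F[X]ˣ) : F[X]) := by rw [hmr, Units.mul_inv_cancel_right]
    rw [hu, map_mul, hmT, zero_mul]
  have hmk : m.natDegree = k * p.natDegree := by
    rw [hmr, natDegree_mul (pow_ne_zero _ hp.ne_zero) hr.ne_zero, natDegree_eq_zero_of_isUnit hr, add_zero,
      natDegree_pow]
  -- cyclic subspaces are totally isotropic
  have hD : k * p.natDegree ≤ 3 := by
    set q0 := p ^ (k - 1)
    have hk : k ≠ 0 := by
      rintro rfl
      rw [zero_mul] at hmk
      exact absurd hmk (minpoly.natDegree_pos hint).ne'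
    have hne : aeval T q0 ≠ 0 := fun e => by
      have h := natDegree_le_of_dvd (minpoly.dvd F T e) (pow_ne_zero _ hp.ne_zero)
      rw [natDegree_pow] at h
      change m.natDegree ≤ _ at h
      have := hp.natDegree_pos
      have : (k - 1) * p.natDegree < k * p.natDegree := Nat.mul_lt_mul_of_pos_right (by omega) this
      omega
    obtain ⟨x, hx⟩ : ∃ x : V6, aeval T q0 *ᵥ x ≠ 0 := by
      by_contra hc
      push Not at hc
      exact hne (Matrix.ext_iff_mulVec.2 fun v => by rw [hc, zero_mulVec])
    let φ : degreeLT F (k * p.natDegree) →ₗ[F] V6 :=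
      { toFun := fun r => aeval T (r : F[X]) *ᵥ x
        map_add' := fun a b => by rw [Submodule.coe_add, map_add, add_mulVec]
        map_smul' := fun c a => by rw [Submodule.coe_smul, map_smul, smul_mulVec, RingHom.id_apply] }
    have hinj : Function.Injective φ := by
      rw [← LinearMap.ker_eq_bot, LinearMap.ker_eq_bot']
      rintro ⟨r, hr'⟩ hz
      refine Subtype.ext ?_
      by_contra hr0
      change r ≠ 0 at hr0
      obtain ⟨j, r', hr'', hrr⟩ := WfDvdMonoid.max_power_factor hr0 hp
      have hjk : j < k := by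
        by_contra hge
        push Not at hge
        have hd : r.natDegree < k * p.natDegree := by
          have := mem_degreeLT.1 hr'
          rwa [degree_eq_natDegree hr0, Nat.cast_lt] at this
        have h := natDegree_le_of_dvd (show p ^ k ∣ r from hrr ▸ (pow_dvd_pow p hge).mul_right _) hr0
        rw [natDegree_pow] at h
        omega
      obtain ⟨a, b, hab⟩ : IsCoprime r' (p ^ k) := ((hp.coprime_iff_not_dvd.2 hr'').symm).pow_right
      have h1 : aeval T (p ^ j) *ᵥ x = 0 := by
        have e : p ^ j = a * r + b * p ^ k * p ^ j := by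
          rw [hrr]; linear_combination (-(p ^ j)) * hab
        rw [e, map_add, map_mul, map_mul, map_mul, hpk, mul_zero, zero_mul, add_zero, ← mulVec_mulVec,
          show aeval T r *ᵥ x = 0 from hz, mulVec_zero]
      refine hx ?_
      rw [show q0 = p ^ (k - 1 - j) * p ^ j by
        show p ^ (k - 1) = _
        rw [← pow_add]; congr 1; omega, map_mul, ← mulVec_mulVec, h1,
        mulVec_zero]
    have hti : ∀ y ∈ LinearMap.range φ, ∀ z ∈ LinearMap.range φ, sympForm 3 F y z = 0 := by
      rintro _ ⟨a, rfl⟩ _ ⟨b, rfl⟩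
      show sympForm 3 F (aeval T (a : F[X]) *ᵥ x) (aeval T (b : F[X]) *ᵥ x) = 0
      rw [aeval_adj (tr_adj g), mulVec_mulVec, ← map_mul]
      have h := aeval_adj (tr_adj g) ((a : F[X]) * (b : F[X])) x x
      rw [form_swap] at h
      have h3 : (2 : F) * sympForm 3 F x (aeval T ((a : F[X]) * (b : F[X])) *ᵥ x) = 0 := by linear_combination -h
      exact (mul_eq_zero.1 h3).resolve_left h2
    have h := ti_le hti
    rw [LinearMap.finrank_range_of_inj hinj, (Polynomial.degreeLTEquiv F (k * p.natDegree)).finrank_eq,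
      Module.finrank_fin_fun] at h
    exact h
  have hpd := hp.natDegree_pos
  rcases (by omega : p.natDegree = 1 ∨ p.natDegree = 2 ∨ p.natDegree = 3 ∨ 3 < p.natDegree) with h1 | h1 | h1 | h1
  · right; right
    obtain ⟨c, hc⟩ := Polynomial.exists_root_of_degree_eq_one (p := p)
      (by rw [degree_eq_natDegree hp.ne_zero, h1]; rfl)
    refine ⟨c, ?_⟩
    have hass : Associated (X - Polynomial.C c) p :=
      (Polynomial.irreducible_X_sub_C c).associated_of_dvd hp (dvd_iff_isRoot.2 hc)
    obtain ⟨u, hu⟩ := hass.pow_pow (n := k)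
    have h3 : aeval T ((X - Polynomial.C c) ^ k) = 0 := by
      have e : (X - Polynomial.C c) ^ k = p ^ k * ((u⁻¹ : F[X]ˣ) : F[X]) := by
        rw [← hu, Units.mul_inv_cancel_right]
      rw [e, map_mul, hpk, zero_mul]
    rw [h1, mul_one] at hD
    rw [map_pow, map_sub, aeval_X, aeval_C, Algebra.algebraMap_eq_smul_one] at h3
    exact pow_eq_zero_of_le hD h3
  · exfalso
    have hk : k = 1 := by
      rcases (by rw [h1] at hD; omega : k = 0 ∨ k = 1) with hk | hk
      · rw [hk, zero_mul] at hmk; exact absurd hmk (minpoly.natDegree_pos hint).ne'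
      · exact hk
    rw [hk, pow_one] at hpk
    have hexp : ∀ v : V6, T *ᵥ (T *ᵥ v) =
        (-(p.coeff 1 / p.coeff 2)) • (T *ᵥ v) + (-(p.coeff 0 / p.coeff 2)) • v := fun v => by
      have h := congrArg (· *ᵥ v) hpk
      rw [show p = Polynomial.C (p.coeff 2) * X ^ 2 + Polynomial.C (p.coeff 1) * X + Polynomial.C (p.coeff 0) by
        conv_lhs => rw [p.as_sum_range_C_mul_X_pow, h1]
        simp [Finset.sum_range_succ]; ring] at h
      simp only [map_add, map_mul, map_pow, aeval_C, aeval_X, ← Algebra.smul_def,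
        Algebra.algebraMap_eq_smul_one, add_mulVec, smul_mulVec, one_mulVec, zero_mulVec, pow_two,
        ← mulVec_mulVec, smul_one_mul] at h
      have hl : p.coeff 2 ≠ 0 := by
        rw [show 2 = p.natDegree from h1.symm]; exact leadingCoeff_ne_zero.2 hp.ne_zero
      funext i
      have := congrFun h i
      simp only [Pi.add_apply, Pi.smul_apply, smul_eq_mul, Pi.zero_apply] at this ⊢
      field_simp
      linear_combination this
    have hno : ∀ (v : V6) (a b : F), a • v + b • (T *ᵥ v) = 0 → v ≠ 0 → a = 0 ∧ b = 0 := by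
      intro v a b hab hv
      by_cases hb : b = 0
      · rw [hb, zero_smul, add_zero] at hab
        exact ⟨(smul_eq_zero.1 hab).resolve_right hv, hb⟩
      exfalso
      have hev : T *ᵥ v = (-(a / b)) • v := by
        funext i
        have h := congrFun hab i
        simp only [Pi.add_apply, Pi.smul_apply, smul_eq_mul, Pi.zero_apply] at h ⊢
        field_simp
        linear_combination h
      have hpv : aeval T p *ᵥ v = p.eval (-(a / b)) • v := by
        clear hpk hp hpm hmr hmk hD h1 hpd hexp hpr
        induction p using Polynomial.induction_on' with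
        | add r s hr hs => simp only [map_add, add_mulVec, eval_add, add_smul, hr, hs]
        | monomial j c =>
          rw [aeval_monomial, eval_monomial, ← Algebra.smul_def, smul_mulVec, mul_smul]
          congr 1
          induction j with
          | zero => simp
          | succ j ih => rw [pow_succ', ← mulVec_mulVec, ih, mulVec_smul, hev, smul_smul, pow_succ]
      rw [hpk, zero_mulVec] at hpv
      have h0 : p.eval (-(a / b)) = 0 := (smul_eq_zero.1 hpv.symm).resolve_right hv
      have := natDegree_eq_of_degree_eq_some (degree_eq_one_of_irreducible_of_root hp h0)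
      rw [h1] at this
      exact absurd this (by decide)
    have hadj := tr_adj g
    have hself : ∀ v : V6, sympForm 3 F v (T *ᵥ v) = 0 := fun v => by
      have h := hadj v v
      rw [form_swap] at h
      have h3 : (2 : F) * sympForm 3 F v (T *ᵥ v) = 0 := by linear_combination -h
      exact (mul_eq_zero.1 h3).resolve_left h2
    obtain ⟨x, hx0⟩ : ∃ x : V6, x ≠ 0 := ⟨Pi.single (.inl 0) 1, by simp⟩
    obtain ⟨y, hxy⟩ := exists_form_ne_zero hx0
    let L : V6 →ₗ[F] (Fin 4 → F) :=
      LinearMap.pi fun i => (bil F) (![x, T *ᵥ x, y, T *ᵥ y] i)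
    obtain ⟨z, hz, hz0⟩ := Submodule.exists_mem_ne_zero_of_ne_bot (p := LinearMap.ker L) (fun e => by
      have h := LinearMap.finrank_range_add_finrank_ker L
      rw [e, finrank_bot, add_zero] at h
      have h2' := (LinearMap.range L).finrank_le
      rw [h, Module.finrank_fintype_fun_eq_card, Module.finrank_fin_fun] at h2'
      simp at h2')
    have hzx : ∀ i : Fin 4, sympForm 3 F (![x, T *ᵥ x, y, T *ᵥ y] i) z = 0 := fun i =>
      congrFun (LinearMap.mem_ker.1 hz) i
    have z1 : sympForm 3 F x z = 0 := hzx 0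
    have z2 : sympForm 3 F (T *ᵥ x) z = 0 := hzx 1
    have z3 : sympForm 3 F y z = 0 := hzx 2
    have z4 : sympForm 3 F (T *ᵥ y) z = 0 := hzx 3
    have z5 : sympForm 3 F x (T *ᵥ z) = 0 := by rw [← hadj]; exact z2
    have z6 : sympForm 3 F y (T *ᵥ z) = 0 := by rw [← hadj]; exact z4
    have z7 : sympForm 3 F (T *ᵥ x) (T *ᵥ z) = 0 := by
      rw [← hadj, hexp, form_add_left, form_smul_left, form_smul_left, z1, z2]; ring
    have z8 : sympForm 3 F (T *ᵥ y) (T *ᵥ z) = 0 := by
      rw [← hadj, hexp, form_add_left, form_smul_left, form_smul_left, z3, z4]; ring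
    -- six vectors spanning everything
    let w : Fin 6 → V6 := ![x, T *ᵥ x, y, T *ᵥ y, z, T *ᵥ z]
    have hli : LinearIndependent F w := by
      rw [Fintype.linearIndependent_iff]
      intro s hs
      simp only [w, Fin.sum_univ_six] at hs
      change s 0 • x + s 1 • (T *ᵥ x) + s 2 • y + s 3 • (T *ᵥ y) + s 4 • z + s 5 • (T *ᵥ z) = 0 at hs
      set u2 := s 2 • y + s 3 • (T *ᵥ y) with hu2
      -- pairing with the line of `x`
      have hk : ∀ a b : F, sympForm 3 F (a • x + b • (T *ᵥ x)) u2 = 0 := by
        intro a b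
        have e := congrArg (sympForm 3 F (a • x + b • (T *ᵥ x))) hs
        simp only [hu2, form_zero_right, form_add_right, form_add_left, form_smul_left, form_smul_right,
          form_self, z1, z2, z5, z7, hself, show sympForm 3 F (T *ᵥ x) x = 0 by rw [form_swap, hself, neg_zero],
          mul_zero, add_zero, zero_add] at e ⊢
        exact e
      have hkey : ∀ (v w' : V6), (∀ a b : F, sympForm 3 F (a • v + b • (T *ᵥ v)) w' = 0) →
          ∀ a b : F, sympForm 3 F v (a • w' + b • (T *ᵥ w')) = 0 := by
        intro v w' hvw a b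
        have h := hvw a b
        rw [form_add_left, form_smul_left, form_smul_left, hadj] at h
        rw [form_add_right, form_smul_right, form_smul_right]; exact h
      have hs23 : s 2 = 0 ∧ s 3 = 0 := by
        by_contra hne
        have hu0 : u2 ≠ 0 := by
          intro e
          exact hne (hno y (s 2) (s 3) e (fun e' => hxy (by rw [e', form_zero_right])))
        have hline : ∃ a b : F, a • u2 + b • (T *ᵥ u2) = y := by
          have e : T *ᵥ u2 = s 2 • (T *ᵥ y) + s 3 • ((-(p.coeff 1 / p.coeff 2)) • (T *ᵥ y) +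
              (-(p.coeff 0 / p.coeff 2)) • y) := by
            rw [hu2, mulVec_add, mulVec_smul, mulVec_smul, hexp]
          set A := -(p.coeff 1 / p.coeff 2)
          set B' := -(p.coeff 0 / p.coeff 2)
          by_cases hdet : s 2 * (s 2 + s 3 * A) - s 3 * (s 3 * B') = 0
          · exfalso
            have h' : (s 2 + s 3 * A) • u2 + (-s 3) • (T *ᵥ u2) = 0 := by
              rw [e, hu2]
              linear_combination (norm := module) congrArg (· • y) hdet
            obtain ⟨h3, h4⟩ := hno u2 _ _ h' hu0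
            rw [neg_eq_zero] at h4
            rw [h4, zero_mul, add_zero] at h3
            exact hne ⟨h3, h4⟩
          · refine ⟨(s 2 + s 3 * A) / (s 2 * (s 2 + s 3 * A) - s 3 * (s 3 * B')),
              -s 3 / (s 2 * (s 2 + s 3 * A) - s 3 * (s 3 * B')), ?_⟩
            rw [e, hu2]
            funext i
            simp only [Pi.add_apply, Pi.smul_apply, smul_eq_mul]
            rw [div_mul_eq_mul_div, div_mul_eq_mul_div, ← add_div, div_eq_iff hdet]
            ring
        obtain ⟨a, b, hab⟩ := hline
        refine hxy ?_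
        rw [← hab]
        exact hkey x u2 hk a b
      rw [hs23.1, hs23.2, zero_smul, zero_smul, add_zero, add_zero] at hs
      have hs01 : s 0 = 0 ∧ s 1 = 0 := by
        set u1 := s 0 • x + s 1 • (T *ᵥ x) with hu1
        have hk1 : ∀ a b : F, sympForm 3 F (a • y + b • (T *ᵥ y)) u1 = 0 := by
          intro a b
          have e := congrArg (sympForm 3 F (a • y + b • (T *ᵥ y))) hs
          simp only [hu1, form_zero_right, form_add_right, form_add_left, form_smul_left, form_smul_right,
            z3, z4, z6, z8, mul_zero, add_zero] at e ⊢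
          exact e
        by_contra hne
        have hu0 : u1 ≠ 0 := fun e => hne (hno x (s 0) (s 1) e hx0)
        have e : T *ᵥ u1 = s 0 • (T *ᵥ x) + s 1 • ((-(p.coeff 1 / p.coeff 2)) • (T *ᵥ x) +
            (-(p.coeff 0 / p.coeff 2)) • x) := by
          rw [hu1, mulVec_add, mulVec_smul, mulVec_smul, hexp]
        set A := -(p.coeff 1 / p.coeff 2)
        set B' := -(p.coeff 0 / p.coeff 2)
        by_cases hdet : s 0 * (s 0 + s 1 * A) - s 1 * (s 1 * B') = 0
        · have h' : (s 0 + s 1 * A) • u1 + (-s 1) • (T *ᵥ u1) = 0 := by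
            rw [e, hu1]
            linear_combination (norm := module) congrArg (· • x) hdet
          obtain ⟨h3, h4⟩ := hno u1 _ _ h' hu0
          rw [neg_eq_zero] at h4
          rw [h4, zero_mul, add_zero] at h3
          exact hne ⟨h3, h4⟩
        · refine hxy ?_
          have hx' : x = ((s 0 + s 1 * A) / (s 0 * (s 0 + s 1 * A) - s 1 * (s 1 * B'))) • u1 +
              (-s 1 / (s 0 * (s 0 + s 1 * A) - s 1 * (s 1 * B'))) • (T *ᵥ u1) := by
            rw [e, hu1]
            funext i
            simp only [Pi.add_apply, Pi.smul_apply, smul_eq_mul]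
            rw [div_mul_eq_mul_div, div_mul_eq_mul_div, ← add_div, eq_div_iff hdet]
            ring
          rw [form_swap, hx', hkey y u1 hk1 _ _, neg_zero]
      rw [hs01.1, hs01.2, zero_smul, zero_smul, zero_add, zero_add] at hs
      obtain ⟨h4, h5⟩ := hno z (s 4) (s 5) hs hz0
      intro i
      fin_cases i
      exacts [hs01.1, hs01.2, hs23.1, hs23.2, h4, h5]
    refine hz0 (eq_zero_of_forall_form fun v => ?_)
    rw [form_swap, neg_eq_zero]
    have hv : v ∈ Submodule.span F (Set.range w) := by
      rw [hli.span_eq_top_of_card_eq_finrank (by simp)]; trivial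
    obtain ⟨s, rfl⟩ := (Submodule.mem_span_range_iff_exists_fun F).1 hv
    simp [w, Fin.sum_univ_six, form_add_left, form_smul_left, z1, z2, z3, z4, form_self,
      show sympForm 3 F (T *ᵥ z) z = 0 by rw [form_swap, hself, neg_zero]]
  · right; left
    have hk : k = 1 := by
      rcases (by rw [h1] at hD; omega : k = 0 ∨ k = 1) with hk | hk
      · rw [hk, zero_mul] at hmk; exact absurd hmk (minpoly.natDegree_pos hint).ne'
      · exact hk
    rw [hk, pow_one] at hpk
    exact ⟨p, hp, h1, hpk⟩
  · exfalso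
    have : k = 0 := by
      by_contra hk
      have := Nat.le_mul_of_pos_left p.natDegree (Nat.pos_of_ne_zero hk)
      omega
    rw [this, zero_mul] at hmk
    exact absurd hmk (minpoly.natDegree_pos hint).ne'

end CfsgLib.TwoCover.SympThree
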