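import Cfsg.Agent.Lib.TwoCover.UnitaryStab

/-!
Regular unipotent elements of `GU₃(q)` in characteristic three are conjugate to the cyclic
permutation matrix.
-/

set_option autoImplicit false

namespace CfsgLib.TwoCover.Unitary

open Matrix Cfsg CfsgLib.TwoCover.Herm

variable {F : Type*} [Field F] [Fintype F] {q : ℕ} {φ : F →+* F} [CharP F 3]

theorem exists_frame (D : FD q φ) {M : Matrix (Fin 3) (Fin 3) F} (hM : IsU q M)
    (h3 : (M - 1) ^ 3 = 0) (h2 : (M - 1) ^ 2 ≠ 0) :
    ∃ H : Matrix (Fin 3) (Fin 3) F, IsU q H ∧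
      H * (Equiv.Perm.permMatrix F (Equiv.symm (finRotate 3))) = M * H := by
  have h := hs (n := 3) D
  set N := M - 1
  have hNeq : ∀ x, M *ᵥ x = x + N *ᵥ x := fun x => by simp [N, sub_mulVec]
  have hN3 : ∀ x, N *ᵥ (N *ᵥ (N *ᵥ x)) = 0 := fun x => by
    rw [mulVec_mulVec, mulVec_mulVec, ← pow_two, ← pow_succ, h3, zero_mulVec]
  have star : ∀ x y, hermForm 3 F q (N *ᵥ x) y + hermForm 3 F q x (N *ᵥ y) +
      hermForm 3 F q (N *ᵥ x) (N *ᵥ y) = 0 := by
    intro x y
    have := hM x y
    rw [hNeq, hNeq, h.add_left, add_right h, add_right h] at this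
    linear_combination this
  have h12 : ∀ x y, hermForm 3 F q (N *ᵥ x) (N *ᵥ (N *ᵥ y)) = 0 := by
    intro x y
    have := star x (N *ᵥ (N *ᵥ y))
    rwa [hN3, zero_right h, zero_right h, add_zero, add_zero] at this
  have h11 : ∀ x y, hermForm 3 F q (N *ᵥ x) (N *ᵥ y) = -hermForm 3 F q x (N *ᵥ (N *ᵥ y)) := by
    intro x y
    have := star x (N *ᵥ y)
    rw [h12, add_zero] at this
    linear_combination this
  have h20 : ∀ x y, hermForm 3 F q (N *ᵥ (N *ᵥ x)) y = hermForm 3 F q x (N *ᵥ (N *ᵥ y)) := by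
    intro x y
    have h1 := star (N *ᵥ x) y
    rw [h11 x y, show hermForm 3 F q (N *ᵥ (N *ᵥ x)) (N *ᵥ y) = 0 from
      Herm.eq_zero_comm h (h12 y x)] at h1
    linear_combination h1
  obtain ⟨v, hv⟩ : ∃ v, N *ᵥ (N *ᵥ v) ≠ 0 := by
    by_contra hc
    push Not at hc
    exact h2 (Matrix.ext_iff_mulVec.2 fun v => by rw [pow_two, ← mulVec_mulVec, hc, zero_mulVec])
  have hli : LinearIndependent F ![v, N *ᵥ v, N *ᵥ (N *ᵥ v)] := by
    rw [Fintype.linearIndependent_iff]
    intro g hg
    simp only [Fin.sum_univ_three, cons_val_zero, cons_val_one, cons_val_two, head_cons, tail_cons] at hg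
    have e1 := congrArg (N *ᵥ ·) hg
    simp only [mulVec_add, mulVec_smul, mulVec_zero, hN3, smul_zero, add_zero] at e1
    have e2 := congrArg (N *ᵥ ·) e1
    simp only [mulVec_add, mulVec_smul, mulVec_zero, hN3, smul_zero, add_zero] at e2
    have g0 : g 0 = 0 := (smul_eq_zero.1 e2).resolve_right hv
    rw [g0, zero_smul, zero_add] at e1 hg
    have g1 : g 1 = 0 := (smul_eq_zero.1 e1).resolve_right hv
    rw [g1, zero_smul, zero_add] at hg
    have g2 : g 2 = 0 := (smul_eq_zero.1 hg).resolve_right hv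
    intro i
    fin_cases i <;> assumption
  set c := hermForm 3 F q v (N *ᵥ (N *ᵥ v)) with hcdef
  have hc0 : c ≠ 0 := by
    intro hc
    refine hv (ext_right h fun x => ?_)
    rw [zero_right h]
    have hx : x ∈ Submodule.span F (Set.range ![v, N *ᵥ v, N *ᵥ (N *ᵥ v)]) := by
      rw [hli.span_eq_top_of_card_eq_finrank (by simp)]; trivial
    rw [Submodule.mem_span_range_iff_exists_fun] at hx
    obtain ⟨g, rfl⟩ := hx
    simp only [Fin.sum_univ_three, cons_val_zero, cons_val_one, cons_val_two, head_cons, tail_cons,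
      h.add_left, h.smul_left, ← hcdef, hc, h12, mul_zero, add_zero]
  have hcreal : φ c = c := by rw [hcdef, ← h.herm, h20]
  obtain ⟨l, hl⟩ := D.exists_norm (s := c⁻¹) (by rw [map_inv₀, hcreal])
  set w := l • v
  have hw : hermForm 3 F q w (N *ᵥ (N *ᵥ w)) = 1 := by
    simp only [w, mulVec_smul, h.smul_left, smul_right h, ← hcdef]
    rw [← mul_assoc, hl, inv_mul_cancel₀ hc0]
  have three : (3 : F) = 0 := by exact_mod_cast CharP.cast_eq_zero F 3
  set b := hermForm 3 F q w (N *ᵥ w) with hbdef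
  have hb : φ b + b = 1 := by
    have := star w w
    rw [h11, hw, h.herm (N *ᵥ w) w, ← hbdef] at this
    linear_combination this
  set x := -(b + 1)
  set w1 := w + x • (N *ᵥ w)
  have hw1 : hermForm 3 F q w1 (N *ᵥ (N *ᵥ w1)) = 1 := by
    simp only [w1, mulVec_add, mulVec_smul, hN3, smul_zero, add_zero, h.add_left, h.smul_left,
      h12, mul_zero, hw]
  have hb1 : hermForm 3 F q w1 (N *ᵥ w1) = -1 := by
    simp only [w1, mulVec_add, mulVec_smul, h.add_left, h.smul_left, add_right h, smul_right h,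
      h11 w w, h12, hw, ← hbdef, x, map_neg, map_add, map_one, mul_zero, add_zero]
    linear_combination -hb + b * three
  have ha : φ (hermForm 3 F q w1 w1) = hermForm 3 F q w1 w1 := (h.herm _ _).symm
  set a := hermForm 3 F q w1 w1 with hadef
  set y := a - 1
  set u := w1 + y • (N *ᵥ (N *ᵥ w1))
  have hu0 : hermForm 3 F q u u = 1 := by
    simp only [u, h.add_left, h.smul_left, add_right h, smul_right h, h20, hN3, mulVec_zero, zero_right h, hw1,
      ← hadef, y, map_sub, map_one, ha, mul_zero, add_zero]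
    linear_combination (a - 1) * three
  have hu1 : hermForm 3 F q u (N *ᵥ u) = -1 := by
    simp only [u, mulVec_add, mulVec_smul, hN3, smul_zero, add_zero, h.add_left, h.smul_left, h20,
      mulVec_zero, zero_right h, mul_zero, hb1]
  have hu2 : hermForm 3 F q u (N *ᵥ (N *ᵥ u)) = 1 := by
    simp only [u, mulVec_add, mulVec_smul, hN3, smul_zero, add_zero, mulVec_zero, h.add_left, h.smul_left,
      h20, zero_right h, mul_zero, hw1]
  set u1 := M *ᵥ u with hu1def
  set u2 := M *ᵥ u1 with hu2def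
  have hu3 : M *ᵥ u2 = u := by
    rw [hu2def, hu1def, hNeq, hNeq, hNeq]
    simp only [mulVec_add, hN3, add_zero]
    funext i
    simp only [Pi.add_apply]
    linear_combination ((N *ᵥ u) i + (N *ᵥ (N *ᵥ u)) i) * three
  have e01 : hermForm 3 F q u u1 = 0 := by
    rw [hu1def, hNeq, add_right h, hu0, hu1]; ring
  have e02 : hermForm 3 F q u u2 = 0 := by
    rw [hu2def, hu1def, hNeq, hNeq]
    simp only [mulVec_add, add_right h, hu0, hu1, hu2]
    ring
  have e11 : hermForm 3 F q u1 u1 = 1 := by rw [hu1def, hM, hu0]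
  have e22 : hermForm 3 F q u2 u2 = 1 := by rw [hu2def, hM, e11]
  have e12 : hermForm 3 F q u1 u2 = 0 := by rw [hu2def, hM u u1, e01]
  have e10 := Herm.eq_zero_comm h e01
  have e20 := Herm.eq_zero_comm h e02
  have e21 := Herm.eq_zero_comm h e12
  let H : Matrix (Fin 3) (Fin 3) F := (Matrix.of ![u, u1, u2])ᵀ
  have hH : ∀ z, H *ᵥ z = z 0 • u + z 1 • u1 + z 2 • u2 := fun z => by
    funext i
    simp [H, Matrix.mulVec, dotProduct, Fin.sum_univ_three, mul_comm]
  refine ⟨H, fun z z' => ?_, Matrix.ext_iff_mulVec.2 fun z => ?_⟩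
  · rw [hH, hH]
    simp only [h.add_left, h.smul_left, add_right h, smul_right h, hu0, e01, e02, e11, e22, e12, e10,
      e20, e21]
    simp [hermForm, Fin.sum_univ_three, D.pow]
  · rw [← mulVec_mulVec, ← mulVec_mulVec, hH, hH, Matrix.permMatrix_mulVec, mulVec_add, mulVec_add,
      mulVec_smul, mulVec_smul, mulVec_smul, ← hu1def, ← hu2def, hu3]
    have r0 : (finRotate 3).symm 0 = 2 := by decide
    have r1 : (finRotate 3).symm 1 = 0 := by decide
    have r2 : (finRotate 3).symm 2 = 1 := by decide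
    simp only [Function.comp_apply, r0, r1, r2]
    abel

end CfsgLib.TwoCover.Unitary
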