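import Cfsg.Agent.Lib.TwoCover.UnitaryStab

/-!
`PSU₄(q)`: every element fixes a nonisotropic point or a totally isotropic line.
-/

set_option autoImplicit false

namespace CfsgLib.TwoCover.Unitary

open Matrix Cfsg CfsgLib.TwoCover.Herm

variable {F : Type*} [Field F] [Fintype F] {q : ℕ} {φ : F →+* F} (D : FD q φ)

include D

theorem eigen_norm {n : ℕ} {M : Matrix (Fin n) (Fin n) F} (hM : IsU q M) {v : Fin n → F} {c : F}
    (hv : M *ᵥ v = c • v) (hvv : hermForm n F q v v ≠ 0) : c * φ c = 1 := by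
  have h := hM v v
  rw [hv, (hs D).smul_left, smul_right (hs D), ← mul_assoc] at h
  exact mul_right_cancel₀ hvv (h.trans (one_mul _).symm)

/-- An eigenvector or a totally isotropic invariant plane. -/
theorem eigen_or_plane {M : Matrix (Fin 4) (Fin 4) F} (hM : IsU q M) :
    (∃ v : Fin 4 → F, v ≠ 0 ∧ ∃ c : F, M *ᵥ v = c • v) ∨
    ∃ U : Submodule F (Fin 4 → F), Module.finrank F U = 2 ∧ (∀ u ∈ U, M *ᵥ u ∈ U) ∧
      ∀ u ∈ U, ∀ u' ∈ U, hermForm 4 F q u u' = 0 := by
  by_cases hev : ∃ v : Fin 4 → F, v ≠ 0 ∧ ∃ c : F, M *ᵥ v = c • v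
  · exact Or.inl hev
  have hline : ∀ U : Submodule F (Fin 4 → F), Module.finrank F U = 1 → (∀ u ∈ U, M *ᵥ u ∈ U) →
      False := by
    intro U hU hinv
    obtain ⟨u, hu0, hu⟩ := (finrank_eq_one_iff' (K := F) (V := U)).1 hU
    obtain ⟨c, hc⟩ := hu ⟨M *ᵥ u.1, hinv _ u.2⟩
    exact hev ⟨u.1, fun e => hu0 (Subtype.ext e), c, (congrArg Subtype.val hc).symm⟩
  obtain ⟨U, hU, hUne, hUtop⟩ : ∃ U : Submodule F (Fin 4 → F), (∀ u ∈ U, M *ᵥ u ∈ U) ∧ U ≠ ⊥ ∧ U ≠ ⊤ := by
    by_contra hcon
    push Not at hcon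
    have h := (irred_facts (hs D) D.card D.pow D.invol (mulVecLin M) (fun x y => hM x y)
      (fun U hU => (em (U = ⊥)).imp id (hcon U hU))).1
    rw [Module.finrank_fin_fun] at h
    exact absurd h (by decide)
  have h1 : 0 < Module.finrank F U := Nat.pos_of_ne_zero fun e => hUne (Submodule.finrank_eq_zero.1 e)
  have h4 : Module.finrank F U < 4 := by
    have := U.finrank_le
    rw [Module.finrank_fin_fun] at this
    refine lt_of_le_of_ne this fun e => hUtop (Submodule.eq_top_of_finrank_eq ?_)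
    rw [e, Module.finrank_fin_fun]
  have h3 : Module.finrank F U ≠ 3 := by
    intro h3
    obtain ⟨y, hy0, hy, hyu⟩ := exists_perp D (U := U) (by omega)
    obtain ⟨c, hc⟩ := hyu _ (perp_invariant D hM hU hy)
    exact hev ⟨y, hy0, c, hc⟩
  have h2 : Module.finrank F U = 2 := by
    rcases Nat.lt_or_ge (Module.finrank F U) 2 with h | h
    · exact absurd (hline U (by omega) hU) id
    · omega
  by_cases hti : ∀ u ∈ U, ∀ u' ∈ U, hermForm 4 F q u u' = 0
  · exact Or.inr ⟨U, h2, hU, hti⟩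
  exfalso
  let R : Submodule F (Fin 4 → F) :=
    { carrier := {u | u ∈ U ∧ ∀ u' ∈ U, hermForm 4 F q u' u = 0}
      add_mem' := fun {a b} ha hb => ⟨U.add_mem ha.1 hb.1, fun u' hu' => by
        rw [add_right (hs D), ha.2 u' hu', hb.2 u' hu', add_zero]⟩
      zero_mem' := ⟨U.zero_mem, fun u' _ => zero_right (hs D) u'⟩
      smul_mem' := fun c a ha => ⟨U.smul_mem c ha.1, fun u' hu' => by
        rw [smul_right (hs D), ha.2 u' hu', mul_zero]⟩ }
  have hRU : R ≤ U := fun u hu => hu.1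
  have hRinv : ∀ u ∈ R, M *ᵥ u ∈ R := fun u hu =>
    ⟨hU u hu.1, perp_invariant D hM hU hu.2⟩
  by_cases hR : R = ⊥
  · have hsU : HS φ (fun x y : U => hermForm 4 F q x.1 y.1) :=
      { add_left := fun x y v => (hs D).add_left _ _ _
        smul_left := fun c x v => (hs D).smul_left _ _ _
        herm := fun x y => (hs D).herm _ _
        nondeg := fun x hx => by
          have hxR : x.1 ∈ R := ⟨x.2, fun u' hu' => Herm.eq_zero_comm (hs D) (hx ⟨u', hu'⟩)⟩
          rw [hR, Submodule.mem_bot] at hxR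
          exact Subtype.ext hxR }
    let T : Module.End F U := ((mulVecLin M).domRestrict U).codRestrict U fun u => hU u.1 u.2
    obtain ⟨u, hu0, c, hc⟩ := exists_eigen_two hsU h2 D.card D.pow D.invol T (fun x y => hM x.1 y.1)
    exact hev ⟨u.1, fun e => hu0 (Subtype.ext e), c, congrArg Subtype.val hc⟩
  · refine hline R ?_ hRinv
    have hlt : R < U := lt_of_le_of_ne hRU fun e => hti fun u hu u' hu' => by
      rw [← e] at hu'
      exact hu'.2 u hu
    have := Submodule.finrank_lt_finrank_of_lt hlt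
    have : 0 < Module.finrank F R := Nat.pos_of_ne_zero fun e => hR (Submodule.finrank_eq_zero.1 e)
    omega

/-- An isotropic eigenvector gives a nonisotropic one or an invariant totally isotropic plane. -/
theorem point_or_plane {M : Matrix (Fin 4) (Fin 4) F} (hM : IsU q M) :
    (∃ v : Fin 4 → F, hermForm 4 F q v v ≠ 0 ∧ ∃ c : F, M *ᵥ v = c • v) ∨
    ∃ U : Submodule F (Fin 4 → F), Module.finrank F U = 2 ∧ (∀ u ∈ U, M *ᵥ u ∈ U) ∧
      ∀ u ∈ U, ∀ u' ∈ U, hermForm 4 F q u u' = 0 := by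
  rcases eigen_or_plane D hM with ⟨v, hv0, lam, hv⟩ | h
  swap
  · exact Or.inr h
  by_cases hvv : hermForm 4 F q v v ≠ 0
  · exact Or.inl ⟨v, hvv, lam, hv⟩
  push Not at hvv
  have h := hs (n := 4) D
  have hlam : lam ≠ 0 := by
    rintro rfl
    rw [zero_smul] at hv
    exact hv0 (isU_injective D hM (show M *ᵥ v = M *ᵥ 0 by rw [hv, mulVec_zero]))
  set P := LinearMap.ker (lft h v) with hP
  have hvP : v ∈ P := hvv
  have hPdim : Module.finrank F P = 3 := by
    obtain ⟨y, hy⟩ : ∃ y, lft h v y ≠ 0 := by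
      by_contra hcon
      push Not at hcon
      exact hv0 (ext_right h fun x => by rw [zero_right h]; exact hcon x)
    have hr : LinearMap.range (lft h v) = ⊤ := by
      refine Submodule.eq_top_of_finrank_eq ?_
      have h1 := (LinearMap.range (lft h v)).finrank_le
      have h2 : 0 < Module.finrank F (LinearMap.range (lft h v)) := Nat.pos_of_ne_zero fun e => hy (by
        have := LinearMap.mem_range_self (lft h v) y
        rwa [Submodule.finrank_eq_zero.1 e, Submodule.mem_bot] at this)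
      rw [Module.finrank_self] at h1 ⊢
      omega
    have := LinearMap.finrank_range_add_finrank_ker (lft h v)
    rw [hr, finrank_top, Module.finrank_self, Module.finrank_fin_fun, ← hP] at this
    omega
  have hPinv : ∀ x ∈ P, M *ᵥ x ∈ P := by
    intro x hx
    show hermForm 4 F q (M *ᵥ x) v = 0
    have h1 : hermForm 4 F q (M *ᵥ x) (M *ᵥ v) = 0 := (hM x v).trans hx
    rw [hv, smul_right h, mul_eq_zero] at h1
    exact h1.resolve_left (by simpa using hlam)
  obtain ⟨U0, hd1, hd2⟩ : ∃ U0 : Submodule F (Fin 4 → F),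
      (F ∙ v) ⊓ U0 = ⊥ ∧ (F ∙ v) ⊔ U0 = P := by
    obtain ⟨C, hC⟩ := Submodule.exists_isCompl ((F ∙ v).comap P.subtype)
    refine ⟨C.map P.subtype, ?_, ?_⟩
    · rw [eq_bot_iff]
      rintro x ⟨hx1, y, hy, rfl⟩
      have hb : y ∈ ((F ∙ v).comap P.subtype) ⊓ C := ⟨hx1, hy⟩
      rw [hC.inf_eq_bot, Submodule.mem_bot] at hb
      rw [hb, map_zero]; exact Submodule.zero_mem _
    · refine le_antisymm (sup_le ((Submodule.span_singleton_le_iff_mem _ _).2 hvP) ?_) fun x hx => ?_
      · rintro x ⟨y, -, rfl⟩; exact y.2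
      · have hmem : (⟨x, hx⟩ : P) ∈ ((F ∙ v).comap P.subtype) ⊔ C := by rw [hC.sup_eq_top]; trivial
        obtain ⟨a, ha, b, hb, hab⟩ := Submodule.mem_sup.1 hmem
        exact Submodule.mem_sup.2 ⟨a.1, ha, b.1, ⟨b, hb, rfl⟩, congrArg Subtype.val hab⟩
  have hU0P : U0 ≤ P := hd2 ▸ le_sup_right
  have hU0dim : Module.finrank F U0 = 2 := by
    have := Submodule.finrank_sup_add_finrank_inf_eq (F ∙ v) U0
    rw [hd1, hd2, finrank_bot, finrank_span_singleton hv0, hPdim] at this
    omega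
  have hdec : ∀ x ∈ P, ∃ (a : F) (u : U0), x = a • v + u.1 := by
    intro x hx
    rw [← hd2] at hx
    obtain ⟨y, hy, z, hz, rfl⟩ := Submodule.mem_sup.1 hx
    obtain ⟨a, rfl⟩ := Submodule.mem_span_singleton.1 hy
    exact ⟨a, ⟨z, hz⟩, rfl⟩
  have huniq : ∀ (a b : F) (u w : U0), a • v + u.1 = b • v + w.1 → u = w := by
    intro a b u w e
    have hmem : u.1 - w.1 ∈ (F ∙ v) ⊓ U0 := ⟨Submodule.mem_span_singleton.2 ⟨b - a, by
      rw [sub_smul]; linear_combination (norm := module) (-1 : F) • e⟩, U0.sub_mem u.2 w.2⟩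
    rw [hd1, Submodule.mem_bot, sub_eq_zero] at hmem
    exact Subtype.ext hmem
  have hsU : HS φ (fun x y : U0 => hermForm 4 F q x.1 y.1) :=
    { add_left := fun x y w => h.add_left _ _ _
      smul_left := fun c x w => h.smul_left _ _ _
      herm := fun x y => h.herm _ _
      nondeg := fun x hx => by
        obtain ⟨y, hy0, -, hyu⟩ := exists_perp D (U := P) (by omega)
        obtain ⟨c, hc⟩ := hyu x.1 (fun p hp => by
          obtain ⟨a, u, rfl⟩ := hdec p hp
          rw [h.add_left, h.smul_left, Herm.eq_zero_comm h (hU0P x.2), mul_zero, zero_add]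
          exact Herm.eq_zero_comm h (hx u))
        obtain ⟨c', hc'⟩ := hyu v (fun p hp => hp)
        have hmem : x.1 ∈ (F ∙ v) ⊓ U0 := by
          refine ⟨Submodule.mem_span_singleton.2 ⟨c / c', ?_⟩, x.2⟩
          have hc'0 : c' ≠ 0 := fun e => hv0 (by rw [hc', e, zero_smul])
          rw [hc', smul_smul, div_mul_cancel₀ c hc'0, hc]
        rw [hd1, Submodule.mem_bot] at hmem
        exact Subtype.ext hmem }
  choose a T₀ hT₀ using fun u : U0 => hdec _ (hPinv _ (hU0P u.2))
  let T : Module.End F U0 :=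
    { toFun := T₀
      map_add' := fun x y => huniq (a (x + y)) (a x + a y) _ _ (by
        rw [← hT₀]
        show M *ᵥ (x.1 + y.1) = _
        rw [mulVec_add, hT₀, hT₀, Submodule.coe_add]
        module)
      map_smul' := fun c x => huniq (a (c • x)) (c * a x) _ _ (by
        rw [← hT₀]
        show M *ᵥ (c • x.1) = _
        rw [mulVec_smul, hT₀]
        show _ = (c * a x) • v + c • (T₀ x).1
        module) }
  have hvU : ∀ u : U0, hermForm 4 F q v u.1 = 0 := fun u => Herm.eq_zero_comm h (hU0P u.2)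
  have hUv : ∀ u : U0, hermForm 4 F q u.1 v = 0 := fun u => hU0P u.2
  have hT : ∀ x y : U0, hermForm 4 F q (T x).1 (T y).1 = hermForm 4 F q x.1 y.1 := by
    intro x y
    rw [← hM x.1 y.1, hT₀ x, hT₀ y]
    simp only [h.add_left, add_right h, h.smul_left, smul_right h, hvv, hvU, hUv, mul_zero, zero_add]
    rfl
  obtain ⟨u, hu0, mu, hu⟩ := exists_eigen_two hsU hU0dim D.card D.pow D.invol T hT
  have hgu : M *ᵥ u.1 = mu • u.1 + a u • v := by
    rw [hT₀ u, show T₀ u = mu • u from hu, Submodule.coe_smul, add_comm]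
  have huspan : ∀ w : U0, w ≠ 0 → w.1 ∉ (F ∙ v) := fun w hw hmem => hw (Subtype.ext (by
    have : w.1 ∈ (F ∙ v) ⊓ U0 := ⟨hmem, w.2⟩
    rwa [hd1, Submodule.mem_bot] at this))
  have plane : ∀ (w : Fin 4 → F), w ∈ P → w ∉ (F ∙ v) → hermForm 4 F q w w = 0 →
      (∃ (c d : F), M *ᵥ w = c • w + d • v) →
      ∃ U : Submodule F (Fin 4 → F), Module.finrank F U = 2 ∧ (∀ x ∈ U, M *ᵥ x ∈ U) ∧
        ∀ x ∈ U, ∀ x' ∈ U, hermForm 4 F q x x' = 0 := by
    rintro w hw hwv hww ⟨c, d, hcd⟩
    refine ⟨(F ∙ v) ⊔ (F ∙ w), ?_, ?_, ?_⟩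
    · have h2 := Submodule.finrank_sup_add_finrank_inf_eq (F ∙ v) (F ∙ w)
      have hbot : (F ∙ v) ⊓ (F ∙ w) = ⊥ := by
        rw [eq_bot_iff]
        rintro x ⟨hx1, hx2⟩
        obtain ⟨b, rfl⟩ := Submodule.mem_span_singleton.1 hx2
        by_contra hb
        have hb0 : b ≠ 0 := fun e => hb (by rw [e, zero_smul]; exact Submodule.zero_mem _)
        exact hwv (by simpa [smul_smul, hb0] using Submodule.smul_mem _ b⁻¹ hx1)
      rw [hbot, finrank_bot, finrank_span_singleton hv0, finrank_span_singleton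
        (fun e => hwv (by rw [e]; exact Submodule.zero_mem _))] at h2
      omega
    · intro x hx
      obtain ⟨y, hy, z, hz, rfl⟩ := Submodule.mem_sup.1 hx
      obtain ⟨b, rfl⟩ := Submodule.mem_span_singleton.1 hy
      obtain ⟨e, rfl⟩ := Submodule.mem_span_singleton.1 hz
      refine Submodule.mem_sup.2 ⟨(b * lam + e * d) • v, Submodule.smul_mem _ _
        (Submodule.mem_span_singleton_self v), (e * c) • w,
        Submodule.smul_mem _ _ (Submodule.mem_span_singleton_self w), ?_⟩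
      rw [mulVec_add, mulVec_smul, mulVec_smul, hv, hcd]
      module
    · intro x hx x' hx'
      obtain ⟨y, hy, z, hz, rfl⟩ := Submodule.mem_sup.1 hx
      obtain ⟨y', hy', z', hz', rfl⟩ := Submodule.mem_sup.1 hx'
      obtain ⟨b, rfl⟩ := Submodule.mem_span_singleton.1 hy
      obtain ⟨e, rfl⟩ := Submodule.mem_span_singleton.1 hz
      obtain ⟨b', rfl⟩ := Submodule.mem_span_singleton.1 hy'
      obtain ⟨e', rfl⟩ := Submodule.mem_span_singleton.1 hz'
      have hwv' : hermForm 4 F q w v = 0 := hw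
      simp [h.add_left, add_right h, h.smul_left, smul_right h, hvv, hww, hwv',
        Herm.eq_zero_comm h hwv']
  by_cases huu : hermForm 4 F q u.1 u.1 = 0
  · exact Or.inr (plane u.1 (hU0P u.2) (huspan u hu0) huu ⟨mu, a u, hgu⟩)
  have fix : ∀ (w : U0) (c d : F), hermForm 4 F q w.1 w.1 ≠ 0 → M *ᵥ w.1 = c • w.1 + d • v → c ≠ lam →
      ∃ x : Fin 4 → F, hermForm 4 F q x x ≠ 0 ∧ ∃ e : F, M *ᵥ x = e • x := by
    intro w c d hw hgw hc
    refine ⟨w.1 + (d / (c - lam)) • v, ?_, c, ?_⟩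
    · simp only [h.add_left, add_right h, h.smul_left, smul_right h, hvv, hvU, hUv, mul_zero, add_zero]
      exact hw
    · rw [mulVec_add, mulVec_smul, hgw, hv]
      have : d + (d / (c - lam)) * lam = c * (d / (c - lam)) := by
        field_simp [sub_ne_zero.2 hc]; ring
      linear_combination (norm := module) congrArg (· • v) this
  by_cases hmu : mu = lam
  swap
  · exact Or.inl (fix u mu (a u) huu hgu hmu)
  subst hmu
  obtain ⟨u', hu'0, hu'⟩ : ∃ u' : U0, u' ≠ 0 ∧ hermForm 4 F q u'.1 u.1 = 0 := by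
    let l : U0 →ₗ[F] F := (lft h u.1).domRestrict U0
    have h1 := LinearMap.finrank_range_add_finrank_ker l
    have h2 := (LinearMap.range l).finrank_le
    rw [Module.finrank_self] at h2
    have h3 : 0 < Module.finrank F (LinearMap.ker l) := by omega
    obtain ⟨w, hw, hw0⟩ := Submodule.exists_mem_ne_zero_of_ne_bot (p := LinearMap.ker l)
      (fun e => by rw [e, finrank_bot] at h3; exact lt_irrefl 0 h3)
    exact ⟨w, hw0, hw⟩
  have hind : ∀ w : U0, ∃ b c : F, w = b • u + c • u' := by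
    intro w
    have hli : LinearIndependent F ![u, u'] := by
      rw [LinearIndependent.pair_iff]
      intro s t hst
      have h1 := congrArg (fun x : U0 => hermForm 4 F q x.1 u.1) hst
      simp only [Submodule.coe_add, Submodule.coe_smul, h.add_left, h.smul_left, hu', mul_zero,
        add_zero, Submodule.coe_zero, zero_left h, mul_eq_zero] at h1
      have hs0 : s = 0 := h1.resolve_right huu
      rw [hs0, zero_smul, zero_add] at hst
      exact ⟨hs0, (smul_eq_zero.1 hst).resolve_right hu'0⟩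
    have htop := hli.span_eq_top_of_card_eq_finrank (by simp [hU0dim])
    have hw : w ∈ Submodule.span F (Set.range ![u, u']) := by rw [htop]; trivial
    rw [Matrix.range_cons, Matrix.range_cons, Matrix.range_empty, Set.union_empty,
      Set.singleton_union, Submodule.mem_span_pair] at hw
    obtain ⟨b, c, hbc⟩ := hw
    exact ⟨b, c, hbc.symm⟩
  have hu'u' : hermForm 4 F q u'.1 u'.1 ≠ 0 := fun e => hu'0 (hsU.nondeg u' fun y => by
    obtain ⟨b, c, rfl⟩ := hind y
    simp [add_right h, smul_right h, hu', e])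
  obtain ⟨b, c, hbc⟩ := hind (T u')
  have hb : b = 0 := by
    have h1 := hT u' u
    rw [show T u = mu • u from hu, hbc] at h1
    simp [h.add_left, h.smul_left, smul_right h, hu', huu, hlam] at h1
    exact h1
  have hgu' : M *ᵥ u'.1 = c • u'.1 + a u' • v := by
    rw [hT₀ u', show T₀ u' = b • u + c • u' from hbc, hb, zero_smul, zero_add, Submodule.coe_smul,
      add_comm]
  by_cases hc : c = mu
  swap
  · exact Or.inl (fix u' c (a u') hu'u' hgu' hc)
  subst hc
  by_cases ha : a u = 0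
  · exact Or.inl ⟨u.1, huu, c, by rw [hgu, ha, zero_smul, add_zero]⟩
  set w : Fin 4 → F := a u' • u.1 - a u • u'.1
  have hgw : M *ᵥ w = c • w := by
    simp only [w, mulVec_sub, mulVec_smul, hgu, hgu']
    module
  by_cases hww : hermForm 4 F q w w = 0
  · refine Or.inr (plane w (P.sub_mem (P.smul_mem _ (hU0P u.2)) (P.smul_mem _ (hU0P u'.2))) ?_ hww
      ⟨c, 0, by rw [hgw, zero_smul, add_zero]⟩)
    intro hmem
    have hw0 : a u' • u - a u • u' = (0 : U0) := by
      by_contra hne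
      exact huspan _ hne (by simpa [w] using hmem)
    have h1 := congrArg (fun x : U0 => hermForm 4 F q x.1 u'.1) hw0
    simp [sub_left h, h.smul_left, zero_left h, Herm.eq_zero_comm h hu', hu'u', ha] at h1
  · exact Or.inl ⟨w, hww, c, hgw⟩

/-- The isotropic vector `e₀ + c e₁` (first pair) -/
def isoA (c : F) : Fin 4 → F := ![1, c, 0, 0]

/-- The isotropic vector `e₂ + c e₃`. -/
def isoB (c : F) : Fin 4 → F := ![0, 0, 1, c]

omit [Fintype F] D in
theorem mem_plane {c : F} {x : Fin 4 → F} :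
    x ∈ Submodule.span F {isoA c, isoB c} ↔ x 1 = c * x 0 ∧ x 3 = c * x 2 := by
  rw [Submodule.mem_span_pair]
  constructor
  · rintro ⟨a, b, rfl⟩; simp [isoA, isoB, mul_comm]
  · rintro ⟨h1, h2⟩
    refine ⟨x 0, x 2, ?_⟩
    funext i
    fin_cases i <;> simp [isoA, isoB, h1, h2, mul_comm]

theorem exists_norm_neg_one : ∃ c c' : F, c * φ c = -1 ∧ c' * φ c' = -1 ∧ c' ≠ c := by
  obtain ⟨c, hc⟩ := D.exists_norm (s := -1) (by rw [map_neg, map_one])
  obtain ⟨ζ, hζ, hζ1⟩ : ∃ ζ : F, ζ * φ ζ = 1 ∧ ζ ≠ 1 := by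
    obtain ⟨σ, hσ, h2, hne⟩ := ClassicalMax.Unit.exists_powEquiv D.card
    obtain ⟨ζ, h1, h2'⟩ := ClassicalMax.Unit.exists_norm_one_ne_one hne h2
    exact ⟨ζ, by rw [D.pow, ← hσ]; exact h1, h2'⟩
  refine ⟨c, ζ * c, hc, ?_, ?_⟩
  · rw [map_mul]; linear_combination ζ * φ ζ * hc - hζ
  · intro e
    have hc0 : c ≠ 0 := fun h0 => by rw [h0, zero_mul] at hc; exact neg_ne_zero.2 one_ne_zero hc.symm
    exact hζ1 (mul_right_cancel₀ hc0 (e.trans (one_mul c).symm))

/-- Any determinant in the stabiliser of the standard isotropic plane. -/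
theorem plane_det {c c' : F} (hc : c * φ c = -1) (hc' : c' * φ c' = -1) (hne : c' ≠ c) (mu : F)
    (hmu : mu * φ mu = 1) :
    ∃ M, IsU (n := 4) q M ∧ M.det = mu ∧
      ∀ x ∈ Submodule.span F {isoA c, isoB c}, M *ᵥ x ∈ Submodule.span F {isoA c, isoB c} := by
  obtain ⟨z, hz0, hz⟩ := Semisimple.Unitary.exists_hilbert φ D.invol D.exists_ne mu hmu
  set a := z
  set b := (φ z)⁻¹ with hb
  have hab : a * φ b = 1 := by rw [hb, map_inv₀, D.invol, mul_inv_cancel₀ hz0]
  have hba : b * φ a = 1 := by rw [hb, inv_mul_cancel₀ (by simpa [a] using hz0)]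
  have hd : c' - c ≠ 0 := sub_ne_zero.2 hne
  let M : Matrix (Fin 4) (Fin 4) F :=
    !![(a * c' - b * c) / (c' - c), (b - a) / (c' - c), 0, 0;
       c * c' * (a - b) / (c' - c), (b * c' - a * c) / (c' - c), 0, 0;
       0, 0, 1, 0; 0, 0, 0, 1]
  have hM0 : ∀ x : Fin 4 → F, (M *ᵥ x) 0 =
      (c' * x 0 - x 1) / (c' - c) * a + (x 1 - c * x 0) / (c' - c) * b := fun x => by
    simp [M, Matrix.mulVec, dotProduct, Fin.sum_univ_four]; field_simp; ring
  have hM1 : ∀ x : Fin 4 → F, (M *ᵥ x) 1 =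
      (c' * x 0 - x 1) / (c' - c) * a * c + (x 1 - c * x 0) / (c' - c) * b * c' := fun x => by
    simp [M, Matrix.mulVec, dotProduct, Fin.sum_univ_four]; field_simp; ring
  have hM2 : ∀ x : Fin 4 → F, (M *ᵥ x) 2 = x 2 := fun x => by
    simp [M, Matrix.mulVec, dotProduct, Fin.sum_univ_four]
  have hM3 : ∀ x : Fin 4 → F, (M *ᵥ x) 3 = x 3 := fun x => by
    simp [M, Matrix.mulVec, dotProduct, Fin.sum_univ_four]
  refine ⟨M, fun u v => ?_, ?_, fun x hx => ?_⟩
  · set s := (c' * u 0 - u 1) / (c' - c) with hs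
    set t := (u 1 - c * u 0) / (c' - c) with ht
    set s' := (c' * v 0 - v 1) / (c' - c) with hs'
    set t' := (v 1 - c * v 0) / (c' - c) with ht'
    have e0 : u 0 = s + t := by rw [hs, ht]; field_simp; ring
    have e1 : u 1 = s * c + t * c' := by rw [hs, ht]; field_simp; ring
    have f0 : v 0 = s' + t' := by rw [hs', ht']; field_simp; ring
    have f1 : v 1 = s' * c + t' * c' := by rw [hs', ht']; field_simp; ring
    simp only [hermForm, Fin.sum_univ_four, hM0, hM1, hM2, hM3, ← D.pow]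
    rw [← hs, ← ht, ← hs', ← ht']
    clear_value s t s' t'
    rw [e0, e1, f0, f1]
    simp only [map_add, map_mul]
    linear_combination (a * φ a - 1) * s * φ s' * hc + (b * φ b - 1) * t * φ t' * hc'
      + (1 + c * φ c') * s * φ t' * hab + (1 + c' * φ c) * t * φ s' * hba
  · have hdet : M.det = a * b := by
      simp [M, Matrix.det_succ_row_zero, Fin.sum_univ_succ, Fin.succAbove]
      field_simp
      ring
    rw [hdet, hb]
    field_simp [show φ z ≠ 0 by simpa using hz0]
    linear_combination -hz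
  · rw [mem_plane] at hx ⊢
    rw [hM0, hM1, hM2, hM3, hx.1]
    refine ⟨?_, hx.2⟩
    simp only [sub_self, zero_div, zero_mul, add_zero]
    ring

theorem psu_four_cover :
    ∃ H K : Subgroup (PSU 4 F q), H ≠ ⊤ ∧ K ≠ ⊤ ∧
      ∀ g : PSU 4 F q, ∃ x : PSU 4 F q, x * g * x⁻¹ ∈ H ∨ x * g * x⁻¹ ∈ K := by
  obtain ⟨c, c', hc, hc', hne⟩ := exists_norm_neg_one D
  have hc0 : c ≠ 0 := fun h0 => by rw [h0, zero_mul] at hc; exact neg_ne_zero.2 one_ne_zero hc.symm
  set W0 := Submodule.span F {isoA c, isoB c} with hW0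
  have hW0dim : Module.finrank F W0 = 2 := by
    have : LinearIndependent F ![isoA c, isoB c] := by
      rw [LinearIndependent.pair_iff]
      intro s t hst
      exact ⟨by simpa [isoA, isoB] using congrFun hst 0, by simpa [isoA, isoB] using congrFun hst 2⟩
    have h2 := finrank_span_eq_card this
    rw [Matrix.range_cons, Matrix.range_cons, Matrix.range_empty, Set.union_empty,
      Set.singleton_union, Fintype.card_fin] at h2
    exact h2
  have hW0ti : ∀ u ∈ W0, ∀ u' ∈ W0, hermForm 4 F q u u' = 0 := by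
    intro u hu u' hu'
    rw [hW0, mem_plane] at hu hu'
    simp only [hermForm, Fin.sum_univ_four, hu.1, hu.2, hu'.1, hu'.2, ← D.pow, map_mul]
    linear_combination (u 0 * φ (u' 0) + u 2 * φ (u' 2)) * hc
  have hKtop : subStab q W0 ≠ ⊤ := by
    intro hK
    obtain ⟨ζ, hζ, hζ2⟩ : ∃ ζ : F, ζ * φ ζ = 1 ∧ ζ * ζ ≠ 1 := by
      obtain ⟨γ, hγ⟩ := IsCyclic.exists_generator (α := Fˣ)
      have hq2 := D.two_le
      have hord : orderOf γ = q ^ 2 - 1 := by
        rw [orderOf_eq_card_of_forall_mem_zpowers hγ, Nat.card_units, Nat.card_eq_fintype_card, D.card]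
      have hsq : q ^ 2 - 1 = (q - 1) * (q + 1) := by rw [mul_comm]; simpa using Nat.sq_sub_sq q 1
      refine ⟨((γ ^ (q - 1) : Fˣ) : F), ?_, ?_⟩
      · rw [D.pow, ← pow_succ', ← Units.val_pow_eq_pow_val, Units.val_eq_one, ← pow_mul,
          ← orderOf_dvd_iff_pow_eq_one, hord, hsq]
      · rw [← pow_two, Ne, ← Units.val_pow_eq_pow_val, Units.val_eq_one, ← pow_mul,
          ← orderOf_dvd_iff_pow_eq_one, hord, hsq]
        intro h
        have h2 := Nat.le_of_dvd two_pos (Nat.dvd_of_mul_dvd_mul_left (by omega) h)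
        omega
    have hζ0 : ζ ≠ 0 := left_ne_zero_of_mul_eq_one hζ
    obtain ⟨g, hg⟩ := exists_su (isU_diagonal (q := q) (d := ![ζ, ζ⁻¹, 1, 1]) fun i => by
      fin_cases i <;> simp [← D.pow, hζ, ← mul_inv]) (by
        simp [det_diagonal, Fin.prod_univ_four, hζ0])
    have hmem := (hK ▸ Subgroup.mem_top g : g ∈ subStab q W0) (isoA c)
      (Submodule.subset_span (Set.mem_insert _ _))
    rw [hg, hW0, mem_plane] at hmem
    have h1 := hmem.1
    simp [mulVec_diagonal, isoA] at h1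
    field_simp at h1
    exact hζ2 (by linear_combination -h1)
  set e0 : Fin 4 → F := Pi.single (⟨0, by norm_num⟩ : Fin 4) 1
  refine quotient_cover _ (subStab q (F ∙ e0)) (subStab q W0) (center_le_subStab D (by norm_num) _)
    (center_le_subStab D (by norm_num) _) (lineStab_ne_top D (by norm_num)) hKtop fun g => ?_
  rcases point_or_plane D (su_mem g) with ⟨v, hv, a, ha⟩ | ⟨U, hUd, hUinv, hUti⟩
  · obtain ⟨x, hx⟩ := exists_line_map D (by norm_num) hv
    refine ⟨x, Or.inl (conj_mem (U := F ∙ v) ?_ hx ?_)⟩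
    · intro u hu
      obtain ⟨b, rfl⟩ := Submodule.mem_span_singleton.1 hu
      rw [mulVec_smul, ha, smul_smul]
      exact Submodule.smul_mem _ _ (Submodule.mem_span_singleton_self v)
    · rw [finrank_span_singleton, finrank_span_singleton]
      · simp [e0]
      · exact fun e => hv (by rw [e, zero_left (hs D)])
  · let eq := LinearEquiv.ofFinrankEq (R := F) U W0 (hUd.trans hW0dim.symm)
    obtain ⟨f, hf, hfi⟩ := Forms.exists_extension U W0 eq
    obtain ⟨M, hM, hMU⟩ := exists_isU_map D U f (fun x hx y hy => by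
      rw [hf ⟨x, hx⟩, hf ⟨y, hy⟩, hW0ti _ (eq _).2 _ (eq _).2, hUti x hx y hy]) hfi
    obtain ⟨x, hx⟩ := exists_su_map D (U := U) (W := W0)
      (fun mu hmu => plane_det D hc hc' hne mu hmu) hM (fun u hu => by
        rw [hMU u hu, hf ⟨u, hu⟩]; exact (eq _).2)
    exact ⟨x, Or.inr (conj_mem hUinv hx (hUd.trans hW0dim.symm))⟩

end CfsgLib.TwoCover.Unitary
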