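import Cfsg.Agent.Lib.TwoCover.UnitaryBasic

/-!
Stabilisers of subspaces in `SU_n(q)`; conjugation into the stabiliser of a standard one.
-/

set_option autoImplicit false

namespace CfsgLib.TwoCover.Unitary

open Matrix Cfsg CfsgLib.TwoCover.Herm

variable {F : Type*} [Field F] [Fintype F] {n q : ℕ}

/-- The stabiliser of a subspace. -/
def subStab (q : ℕ) (W : Submodule F (Fin n → F)) : Subgroup (SU n F q) where
  carrier := {g | ∀ x ∈ W, g.1.1 *ᵥ x ∈ W}
  one_mem' := fun x hx => by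
    show (1 : Matrix (Fin n) (Fin n) F) *ᵥ x ∈ W
    rwa [one_mulVec]
  mul_mem' := fun {a b} ha hb x hx => by
    show (a * b).1.1 *ᵥ x ∈ W
    rw [su_mulVec_mul]; exact ha _ (hb _ hx)
  inv_mem' := fun {a} ha x hx => by
    haveI : Finite W := Module.finite_of_finite F
    let f : W → W := fun y => ⟨a.1.1 *ᵥ y.1, ha y.1 y.2⟩
    obtain ⟨y, hy⟩ := (Finite.injective_iff_surjective (f := f)).1
      (fun u v h => Subtype.ext (su_injective a (congrArg Subtype.val h))) ⟨x, hx⟩
    show (a⁻¹).1.1 *ᵥ x ∈ W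
    rw [← show a.1.1 *ᵥ y.1 = x from congrArg Subtype.val hy, su_inv_mulVec]
    exact y.2

theorem conj_mem {U W : Submodule F (Fin n → F)} {g x : SU n F q}
    (hU : ∀ u ∈ U, g.1.1 *ᵥ u ∈ U) (hx : ∀ u ∈ U, x.1.1 *ᵥ u ∈ W)
    (hdim : Module.finrank F U = Module.finrank F W) : x * g * x⁻¹ ∈ subStab q W := by
  intro w hw
  let f : U →ₗ[F] W := ((mulVecLin x.1.1).domRestrict U).codRestrict W fun u => hx u.1 u.2
  have hinj : Function.Injective f := fun a b h =>
    Subtype.ext (su_injective x (congrArg Subtype.val h))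
  obtain ⟨u, hu⟩ := (LinearMap.injective_iff_surjective_of_finrank_eq_finrank hdim).1 hinj ⟨w, hw⟩
  have hu' : x.1.1 *ᵥ u.1 = w := congrArg Subtype.val hu
  rw [← hu', su_mulVec_mul, su_mulVec_mul, su_inv_mulVec]
  exact hx _ (hU _ u.2)

variable {φ : F →+* F} (D : FD q φ)

include D

theorem center_le_subStab (hn : 3 ≤ n) (W : Submodule F (Fin n → F)) :
    Subgroup.center (SU n F q) ≤ subStab q W := by
  intro z hz
  obtain ⟨c, -, hc⟩ := center_scalar D hn hz
  intro x hx
  rw [hc]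
  exact W.smul_mem c hx

/-- From an isometry to a special isometry, using determinants realised in a stabiliser. -/
theorem exists_su_map {U W : Submodule F (Fin n → F)}
    (hdet : ∀ μ : F, μ * φ μ = 1 → ∃ M, IsU (n := n) q M ∧ M.det = μ ∧ ∀ x ∈ W, M *ᵥ x ∈ W)
    {M : Matrix (Fin n) (Fin n) F} (hM : IsU q M) (hMU : ∀ u ∈ U, M *ᵥ u ∈ W) :
    ∃ x : SU n F q, ∀ u ∈ U, x.1.1 *ᵥ u ∈ W := by
  have hd := isU_det D hM
  have hd0 : M.det ≠ 0 := left_ne_zero_of_mul_eq_one hd
  obtain ⟨N, hN, hNd, hNW⟩ := hdet M.det⁻¹ (by rw [map_inv₀, ← mul_inv, hd, inv_one])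
  obtain ⟨x, hx⟩ := exists_su (hN.mul hM) (by rw [det_mul, hNd, inv_mul_cancel₀ hd0])
  exact ⟨x, fun u hu => by rw [hx, ← mulVec_mulVec]; exact hNW _ (hMU u hu)⟩

/-- Every nonisotropic line can be moved to the first coordinate line. -/
theorem exists_line_map (hn : 2 ≤ n) {v : Fin n → F} (hv : hermForm n F q v v ≠ 0) :
    ∃ x : SU n F q, ∀ u ∈ (F ∙ v),
      x.1.1 *ᵥ u ∈ (F ∙ (Pi.single (⟨0, by omega⟩ : Fin n) (1 : F))) := by
  classical
  set e : Fin n → F := Pi.single (⟨0, by omega⟩ : Fin n) 1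
  have hq : q ≠ 0 := by have := D.two_le; omega
  have he : hermForm n F q e e ≠ 0 := by simp [hermForm, e, Pi.single_apply, ite_pow, zero_pow hq]
  obtain ⟨M, hM, c, -, hMv⟩ := exists_isU_vec D hv he
  refine exists_su_map D (fun μ hμ => ⟨diagonal (Function.update 1 (⟨1, by omega⟩ : Fin n) μ),
      isU_diagonal fun i => ?_, ?_, fun x hx => ?_⟩) hM fun u hu => ?_
  · by_cases hi : i = (⟨1, by omega⟩ : Fin n)
    · subst hi; rw [Function.update_self, ← D.pow]; exact hμ
    · rw [Function.update_of_ne hi, Pi.one_apply, one_pow, mul_one]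
  · rw [det_diagonal, Finset.prod_eq_single (⟨1, by omega⟩ : Fin n)
      (fun i _ hi => by rw [Function.update_of_ne hi, Pi.one_apply]) (by simp), Function.update_self]
  · obtain ⟨a, rfl⟩ := Submodule.mem_span_singleton.1 hx
    refine Submodule.mem_span_singleton.2 ⟨a, ?_⟩
    funext i
    rw [mulVec_diagonal]
    by_cases hi : i = (⟨0, by omega⟩ : Fin n)
    · subst hi; simp [e, Function.update, Fin.ext_iff]
    · simp [e, hi]
  · obtain ⟨a, rfl⟩ := Submodule.mem_span_singleton.1 hu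
    rw [mulVec_smul, hMv, smul_smul]
    exact Submodule.smul_mem _ _ (Submodule.mem_span_singleton_self e)

/-- The stabiliser of the first coordinate line is proper. -/
theorem lineStab_ne_top (hn : 3 ≤ n) :
    subStab q (F ∙ (Pi.single (⟨0, by omega⟩ : Fin n) (1 : F))) ≠ ⊤ := by
  classical
  intro h
  set i0 : Fin n := ⟨0, by omega⟩
  set i1 : Fin n := ⟨1, by omega⟩
  set i2 : Fin n := ⟨2, by omega⟩
  have h01 : i0 ≠ i1 := by simp [i0, i1]
  have h12 : i1 ≠ i2 := by simp [i1, i2]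
  set e : Equiv.Perm (Fin n) := Equiv.swap i0 i1 * Equiv.swap i1 i2
  obtain ⟨g, hg⟩ := exists_su (q := q) (isU_perm (F := F) e) (by
    rw [Matrix.det_permutation, map_mul, Equiv.Perm.sign_swap h01, Equiv.Perm.sign_swap h12]; simp)
  obtain ⟨a, ha⟩ := Submodule.mem_span_singleton.1
    ((h ▸ Subgroup.mem_top g : g ∈ subStab q (F ∙ (Pi.single i0 (1 : F)))) _
      (Submodule.mem_span_singleton_self _))
  have h2 := congrFun ha i2
  rw [hg, Matrix.permMatrix_mulVec] at h2
  simp [e, i0, i1, i2, Equiv.swap_apply_def, Fin.ext_iff] at h2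

end CfsgLib.TwoCover.Unitary
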