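import Cfsg.Agent.Lib.TwoCover.UnitaryStab
import Cfsg.Agent.Lib.TwoCover.AdjoinTools

/-!
`PSU₃(3^a)`: every element fixes a nonisotropic point or normalises a Singer cycle.
-/

set_option autoImplicit false

namespace CfsgLib.TwoCover.Unitary

open Matrix Cfsg CfsgLib.TwoCover.Herm Polynomial

variable {F : Type*} [Field F] [Fintype F] {q : ℕ} {φ : F →+* F}

theorem exists_cubic (D : FD q φ) :
    ∃ f : F[X], Irreducible f ∧ f.natDegree = 3 ∧
      (AdjoinRoot.root f) ^ (q ^ 3 + 1) = 1 := by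
  obtain ⟨p, hp⟩ := CharP.exists F
  haveI : Fact p.Prime := ⟨CharP.char_is_prime F p⟩
  haveI : Module.Finite F (FiniteField.Extension F p 3) := Module.Finite.of_finite
  haveI := Fintype.ofFinite (FiniteField.Extension F p 3)
  have hcard : Nat.card (FiniteField.Extension F p 3) = q ^ 6 := by
    rw [FiniteField.natCard_extension, Nat.card_eq_fintype_card, D.card, ← pow_mul]
  obtain ⟨γ, hγ⟩ := IsCyclic.exists_generator (α := (FiniteField.Extension F p 3)ˣ)
  have hord : orderOf γ = q ^ 6 - 1 := by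
    rw [orderOf_eq_card_of_forall_mem_zpowers hγ, Nat.card_units, hcard]
  have hq2 := D.two_le
  have h8 : 8 ≤ q ^ 3 := le_trans (by norm_num) (Nat.pow_le_pow_left hq2 3)
  have hsq : q ^ 6 - 1 = (q ^ 3 - 1) * (q ^ 3 + 1) := by
    rw [mul_comm, show q ^ 6 = (q ^ 3) ^ 2 by ring]; simpa using Nat.sq_sub_sq (q ^ 3) 1
  set ζ : FiniteField.Extension F p 3 := ((γ ^ (q ^ 3 - 1) : (FiniteField.Extension F p 3)ˣ) :
    FiniteField.Extension F p 3) with hζdef
  have hζ1 : ζ ^ (q ^ 3 + 1) = 1 := by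
    rw [hζdef, ← Units.val_pow_eq_pow_val, Units.val_eq_one, ← pow_mul, ← orderOf_dvd_iff_pow_eq_one, hord, hsq]
  have hint : IsIntegral F ζ := IsIntegral.of_finite F ζ
  have hd : (minpoly F ζ).natDegree ∣ 3 := by
    have := minpoly.degree_dvd hint
    rwa [FiniteField.finrank_extension] at this
  have hd1 : (minpoly F ζ).natDegree ≠ 1 := by
    intro h1
    obtain ⟨c, hc⟩ := (minpoly.natDegree_eq_one_iff).1 h1
    have hc0 : c ≠ 0 := fun e => by
      rw [e, map_zero] at hc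
      exact (Units.ne_zero _) hc.symm
    have hpow : ζ ^ (q ^ 2 - 1) = 1 := by
      rw [← hc, ← map_pow, ← D.card, FiniteField.pow_card_sub_one_eq_one c hc0, map_one]
    rw [hζdef, ← Units.val_pow_eq_pow_val, Units.val_eq_one, ← pow_mul, ← orderOf_dvd_iff_pow_eq_one,
      hord, hsq] at hpow
    have h2 := Nat.le_of_dvd (Nat.sub_pos_of_lt (by nlinarith))
      (Nat.dvd_of_mul_dvd_mul_left (by omega) hpow)
    have h3 : q ^ 2 ≤ q ^ 3 := Nat.pow_le_pow_right (by omega) (by norm_num)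
    omega
  refine ⟨minpoly F ζ, minpoly.irreducible hint,
    ((Nat.dvd_prime Nat.prime_three).1 hd).resolve_left hd1, ?_⟩
  haveI := Fact.mk (minpoly.irreducible hint)
  refine (AdjoinRoot.liftAlgHom (minpoly F ζ) (Algebra.ofId F _) ζ (minpoly.aeval F ζ) :
    AdjoinRoot (minpoly F ζ) →+* FiniteField.Extension F p 3).injective ?_
  rw [map_pow, map_one]
  have hr : (AdjoinRoot.liftAlgHom (minpoly F ζ) (Algebra.ofId F _) ζ (minpoly.aeval F ζ) :
    AdjoinRoot (minpoly F ζ) →+* FiniteField.Extension F p 3) (AdjoinRoot.root _) = ζ :=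
    AdjoinRoot.lift_root (f := minpoly F ζ) (i := algebraMap F _) (a := ζ) (minpoly.aeval F ζ)
  rw [hr, hζ1]

/-- The data of a cubic unitary field. -/
structure CD (q : ℕ) (φ : F →+* F) (f : F[X]) : Prop where
  fd : FD q φ
  irr : Irreducible f
  deg : f.natDegree = 3
  root_pow : (AdjoinRoot.root f) ^ (q ^ 3 + 1) = 1

variable {f : F[X]} (C : CD q φ f) [Fact (Irreducible f)]

include C

theorem CD.pow_six (z : AdjoinRoot f) : z ^ (q ^ 6) = z := by
  have h := pow_card_adjoinRoot (F := F) z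
  rwa [C.deg, C.fd.card, ← pow_mul] at h

theorem CD.conj_aeval (r : F[X]) (w : AdjoinRoot f) :
    (aeval w r) ^ q ^ 3 = aeval (w ^ q ^ 3) (r.map φ) := by
  obtain ⟨p, hp⟩ := CharP.exists F
  haveI : Fact p.Prime := ⟨CharP.char_is_prime F p⟩
  obtain ⟨e, he⟩ := exists_prime_pow_of_sq (p := p) C.fd.card
  have h := pow_aeval he φ C.fd.pow (R := AdjoinRoot f)
  have h2 : (r.map φ).map φ = r := by
    rw [Polynomial.map_map, show φ.comp φ = RingHom.id F from RingHom.ext C.fd.invol, Polynomial.map_id]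
  rw [show q ^ 3 = q * q * q by ring, pow_mul, pow_mul, h, h, h2, h, ← pow_mul, ← pow_mul, mul_assoc]

theorem CD.conj_add (x y : AdjoinRoot f) : (x + y) ^ q ^ 3 = x ^ q ^ 3 + y ^ q ^ 3 := by
  obtain ⟨r, rfl⟩ := AdjoinRoot.mk_surjective x
  obtain ⟨s, rfl⟩ := AdjoinRoot.mk_surjective y
  rw [← AdjoinRoot.aeval_eq, ← AdjoinRoot.aeval_eq, ← map_add, C.conj_aeval, C.conj_aeval, C.conj_aeval,
    Polynomial.map_add, map_add]

theorem CD.conj_smul (c : F) (x : AdjoinRoot f) : (c • x) ^ q ^ 3 = φ c • x ^ q ^ 3 := by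
  have e : (algebraMap F (AdjoinRoot f) c) ^ q ^ 3 = algebraMap F (AdjoinRoot f) (φ c) := by
    have h := C.conj_aeval (Polynomial.C c) (AdjoinRoot.root f)
    simpa using h
  rw [Algebra.smul_def, Algebra.smul_def, mul_pow, e]

theorem CD.conj_conj (x : AdjoinRoot f) : (x ^ q ^ 3) ^ q ^ 3 = x := by
  rw [← pow_mul, ← pow_add]; exact C.pow_six x

/-- Adjoints in the field generated by a unitary root of `f`. -/
theorem adjoint {M : Matrix (Fin 3) (Fin 3) F} (hM : IsU q M) (hf : aeval M f = 0)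
    (z : AdjoinRoot f) (x y : Fin 3 → F) :
    hermForm 3 F q (evalHom M hf z *ᵥ x) y = hermForm 3 F q x (evalHom M hf (z ^ q ^ 3) *ᵥ y) := by
  set ψ := evalHom M hf
  set α := AdjoinRoot.root f
  have hψ : ψ α = M := evalHom_root M hf
  have hM1 : M * ψ (α ^ q ^ 3) = 1 := by
    rw [← hψ, ← map_mul, ← pow_succ', C.root_pow, map_one]
  have hk : ∀ (k : ℕ) (x y : Fin 3 → F),
      hermForm 3 F q ((M ^ k) *ᵥ x) y = hermForm 3 F q x ((ψ (α ^ q ^ 3) ^ k) *ᵥ y) := by
    intro k
    induction k with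
    | zero => intro x y; rw [pow_zero, pow_zero, one_mulVec, one_mulVec]
    | succ k ih =>
      intro x y
      rw [pow_succ, pow_succ', ← mulVec_mulVec, ← mulVec_mulVec, ih]
      conv_lhs => rw [← one_mulVec ((ψ (α ^ q ^ 3) ^ k) *ᵥ y), ← hM1, ← mulVec_mulVec]
      rw [hM]
  obtain ⟨r, rfl⟩ := AdjoinRoot.mk_surjective z
  rw [← AdjoinRoot.aeval_eq, C.conj_aeval, ← aeval_algHom_apply, ← aeval_algHom_apply, hψ]
  clear hψ
  induction r using Polynomial.induction_on' with
  | add p s hp hs' =>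
    simp only [map_add, Polynomial.map_add, add_mulVec, (hs C.fd).add_left, add_right (hs C.fd), hp, hs']
  | monomial k c =>
    rw [map_monomial, aeval_monomial, aeval_monomial, ← Algebra.smul_def, ← Algebra.smul_def,
      smul_mulVec, smul_mulVec, (hs C.fd).smul_left, smul_right (hs C.fd), C.fd.invol, hk]

theorem adjoint_right {M : Matrix (Fin 3) (Fin 3) F} (hM : IsU q M) (hf : aeval M f = 0)
    (z : AdjoinRoot f) (x y : Fin 3 → F) :
    hermForm 3 F q x (evalHom M hf z *ᵥ y) = hermForm 3 F q (evalHom M hf (z ^ q ^ 3) *ᵥ x) y := by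
  rw [adjoint C hM hf, C.conj_conj]

/-- An element of the field with norm one is unitary. -/
theorem isU_eval {M : Matrix (Fin 3) (Fin 3) F} (hM : IsU q M) (hf : aeval M f = 0)
    {z : AdjoinRoot f} (hz : z ^ (q ^ 3 + 1) = 1) : IsU q (evalHom M hf z) := fun u v => by
  rw [adjoint C hM hf, mulVec_mulVec, ← map_mul, ← pow_succ, hz, map_one, one_mulVec]

/-- Unitary matrices killed by `f` are conjugate by an isometry. -/
theorem conj_roots {J J' : Matrix (Fin 3) (Fin 3) F} (hJ : IsU q J) (hfJ : aeval J f = 0)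
    (hJ' : IsU q J') (hfJ' : aeval J' f = 0) :
    ∃ H : Matrix (Fin 3) (Fin 3) F, IsU q H ∧ J' * H = H * J := by
  classical
  have hf := C.irr
  haveI : Module.Finite F (AdjoinRoot f) := (AdjoinRoot.powerBasis hf.ne_zero).finite
  haveI : Finite (AdjoinRoot f) := Module.finite_of_finite F
  have hfr : Module.finrank F (AdjoinRoot f) = Module.finrank F (Fin 3 → F) := by
    rw [(AdjoinRoot.powerBasis hf.ne_zero).finrank, AdjoinRoot.powerBasis_dim, C.deg, Module.finrank_fin_fun]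
  set v : Fin 3 → F := Pi.single 0 1
  have he : ∀ (M : Matrix (Fin 3) (Fin 3) F) (hM : aeval M f = 0),
      ∃ e : AdjoinRoot f ≃ₗ[F] (Fin 3 → F), ∀ z, e z = evalHom M hM z *ᵥ v := by
    intro M hM
    let l : AdjoinRoot f →ₗ[F] (Fin 3 → F) :=
      { toFun := fun z => evalHom M hM z *ᵥ v
        map_add' := fun x y => by rw [map_add, add_mulVec]
        map_smul' := fun c x => by rw [map_smul, smul_mulVec, RingHom.id_apply] }
    have hinj : Function.Injective l := by
      rw [← LinearMap.ker_eq_bot, LinearMap.ker_eq_bot']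
      intro z hz
      by_contra h0
      have h2 : evalHom M hM z⁻¹ *ᵥ (evalHom M hM z *ᵥ v) = v := by
        rw [mulVec_mulVec, ← map_mul, inv_mul_cancel₀ h0, map_one, one_mulVec]
      rw [show evalHom M hM z *ᵥ v = 0 from hz, mulVec_zero] at h2
      exact one_ne_zero (α := F) (by simpa [v] using (congrFun h2 0).symm)
    exact ⟨LinearMap.linearEquivOfInjective l hinj hfr, fun z => rfl⟩
  obtain ⟨eJ, heJ⟩ := he J hfJ
  obtain ⟨eD, heD⟩ := he J' hfJ'
  let lJ : AdjoinRoot f →ₗ[F] F := (lft (hs C.fd) v).comp eJ.toLinearMap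
  let lD : AdjoinRoot f →ₗ[F] F := (lft (hs C.fd) v).comp eD.toLinearMap
  have hlJ : ∀ z, lJ z = hermForm 3 F q (evalHom J hfJ z *ᵥ v) v := fun z => by
    rw [← heJ]; rfl
  have hlD : ∀ z, lD z = hermForm 3 F q (evalHom J' hfJ' z *ᵥ v) v := fun z => by
    rw [← heD]; rfl
  have hvne : ∀ e : AdjoinRoot f ≃ₗ[F] (Fin 3 → F), (lft (hs C.fd) v).comp e.toLinearMap ≠ 0 := by
    intro e h0
    have hv : v = 0 := ext_right (hs C.fd) fun x => by
      obtain ⟨z, rfl⟩ := e.surjective x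
      rw [zero_right (hs C.fd)]
      exact LinearMap.congr_fun h0 z
    simpa [v] using congrFun hv 0
  -- `lJ z = lD (c z)`
  let Φ : AdjoinRoot f →ₗ[F] (AdjoinRoot f →ₗ[F] F) :=
    LinearMap.mk₂ F (fun c z => lD (c * z)) (fun a b z => by rw [add_mul, map_add])
      (fun r a z => by rw [smul_mul_assoc, map_smul]) (fun a x y => by rw [mul_add, map_add])
      (fun r a z => by rw [mul_smul_comm, map_smul])
  have hΦinj : Function.Injective Φ := by
    rw [← LinearMap.ker_eq_bot, LinearMap.ker_eq_bot']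
    intro c hc
    by_contra h0
    refine hvne eD (LinearMap.ext fun z => ?_)
    have := LinearMap.congr_fun hc (c⁻¹ * z)
    change lD (c * (c⁻¹ * z)) = 0 at this
    rwa [← mul_assoc, mul_inv_cancel₀ h0, one_mul] at this
  obtain ⟨c, hc⟩ := (LinearMap.injective_iff_surjective_of_finrank_eq_finrank
    (Subspace.dual_finrank_eq (K := F) (V := AdjoinRoot f)).symm).1 hΦinj lJ
  have hc' : ∀ z, lD (c * z) = lJ z := fun z => LinearMap.congr_fun hc z
  have hsymJ : ∀ z, lJ (z ^ q ^ 3) = φ (lJ z) := fun z => by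
    rw [hlJ, hlJ, ← adjoint_right C hJ hfJ, ← (hs C.fd).herm]
  have hsymD : ∀ z, lD (z ^ q ^ 3) = φ (lD z) := fun z => by
    rw [hlD, hlD, ← adjoint_right C hJ' hfJ', ← (hs C.fd).herm]
  have hcs : c ^ q ^ 3 = c := by
    refine hΦinj (LinearMap.ext fun z => ?_)
    show lD (c ^ q ^ 3 * z) = lD (c * z)
    rw [← C.conj_conj z, ← mul_pow, hsymD, hc', ← hsymJ, ← hc', C.conj_conj]
  have hc0 : c ≠ 0 := fun h0 => hvne eJ (LinearMap.ext fun z => by
    show lJ z = 0
    rw [← hc', h0, zero_mul, map_zero])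
  obtain ⟨y, hy⟩ : ∃ y : AdjoinRoot f, y ^ (q ^ 3 + 1) = c := by
    haveI := Fintype.ofFinite (AdjoinRoot f)
    obtain ⟨γ, hγ⟩ := IsCyclic.exists_generator (α := (AdjoinRoot f)ˣ)
    have hcard : Nat.card (AdjoinRoot f) = q ^ 6 := by
      rw [card_adjoinRoot hf, C.deg, C.fd.card, ← pow_mul]
    have hord : orderOf γ = q ^ 6 - 1 := by
      rw [orderOf_eq_card_of_forall_mem_zpowers hγ, Nat.card_units, hcard]
    obtain ⟨k, hk⟩ := mem_powers_iff_mem_zpowers.2 (hγ (Units.mk0 c hc0))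
    have hkc : ((γ ^ k : (AdjoinRoot f)ˣ) : AdjoinRoot f) = c := congrArg Units.val hk
    have hq2 := C.fd.two_le
    have h8 : 8 ≤ q ^ 3 := le_trans (by norm_num) (Nat.pow_le_pow_left hq2 3)
    have h1 : c ^ (q ^ 3 - 1) = 1 := by
      refine mul_right_cancel₀ hc0 ?_
      rw [← pow_succ, Nat.sub_add_cancel (by omega), hcs, one_mul]
    rw [← hkc, ← Units.val_pow_eq_pow_val, Units.val_eq_one, ← pow_mul, ← orderOf_dvd_iff_pow_eq_one,
      hord, show q ^ 6 - 1 = (q ^ 3 + 1) * (q ^ 3 - 1) by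
        rw [show q ^ 6 = (q ^ 3) ^ 2 by ring]; simpa using Nat.sq_sub_sq (q ^ 3) 1] at h1
    obtain ⟨j, hj⟩ := Nat.dvd_of_mul_dvd_mul_right (by omega) h1
    exact ⟨((γ ^ j : (AdjoinRoot f)ˣ) : AdjoinRoot f), by
      rw [← hkc, ← Units.val_pow_eq_pow_val, ← pow_mul, hj, mul_comm]⟩
  let H : (Fin 3 → F) →ₗ[F] (Fin 3 → F) :=
    eD.toLinearMap ∘ₗ LinearMap.mulLeft F y ∘ₗ eJ.symm.toLinearMap
  have hH : ∀ z, H (eJ z) = eD (y * z) := fun z => by simp [H]
  refine ⟨LinearMap.toMatrix' H, fun u w => ?_, ?_⟩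
  · obtain ⟨z, rfl⟩ := eJ.surjective u
    obtain ⟨z', rfl⟩ := eJ.surjective w
    rw [LinearMap.toMatrix'_mulVec, LinearMap.toMatrix'_mulVec, hH, hH, heD, heD, heJ, heJ,
      adjoint_right C hJ' hfJ', adjoint_right C hJ hfJ, mulVec_mulVec, mulVec_mulVec, ← map_mul,
      ← map_mul, ← hlD, ← hlJ, ← hc']
    congr 1
    rw [← hy, mul_pow, pow_succ]
    ring
  · refine Matrix.ext_iff_mulVec.2 fun u => ?_
    obtain ⟨z, rfl⟩ := eJ.surjective u
    rw [← mulVec_mulVec, ← mulVec_mulVec, LinearMap.toMatrix'_mulVec, LinearMap.toMatrix'_mulVec, hH, heD]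
    have h1 : J *ᵥ eJ z = eJ (AdjoinRoot.root f * z) := by
      rw [heJ, heJ, map_mul, evalHom_root, mulVec_mulVec]
    have h2 : J' *ᵥ (evalHom J' hfJ' (y * z) *ᵥ v) =
        evalHom J' hfJ' (AdjoinRoot.root f * (y * z)) *ᵥ v := by
      rw [map_mul (evalHom J' hfJ') (AdjoinRoot.root f), evalHom_root, mulVec_mulVec]
    rw [h1, hH, heD, h2, mul_left_comm]

/-- A unitary root of `f`. -/
theorem exists_unitary_root : ∃ J : Matrix (Fin 3) (Fin 3) F, IsU q J ∧ aeval J f = 0 := by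
  classical
  have hf := C.irr
  haveI : Module.Finite F (AdjoinRoot f) := (AdjoinRoot.powerBasis hf.ne_zero).finite
  haveI : Finite (AdjoinRoot f) := Module.finite_of_finite F
  let B' := (AdjoinRoot.powerBasis hf.ne_zero).basis
  let l0 : AdjoinRoot f →ₗ[F] F := B'.coord ⟨0, by rw [AdjoinRoot.powerBasis_dim]; exact hf.natDegree_pos⟩
  have hsym : ∀ t : F, ∃ l : AdjoinRoot f →ₗ[F] F, ∀ z, l z = t * l0 z + φ (t * l0 (z ^ q ^ 3)) :=
    fun t => ⟨{ toFun := fun z => t * l0 z + φ (t * l0 (z ^ q ^ 3))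
                map_add' := fun x y => by rw [C.conj_add, map_add, map_add, mul_add, mul_add, map_add]; ring
                map_smul' := fun c x => by
                  rw [C.conj_smul, map_smul, map_smul, smul_eq_mul, smul_eq_mul, RingHom.id_apply, smul_eq_mul]
                  simp only [map_mul, C.fd.invol]
                  ring }, fun z => rfl⟩
  obtain ⟨l, hl, z0, hz0⟩ : ∃ l : AdjoinRoot f →ₗ[F] F, (∀ z, l (z ^ q ^ 3) = φ (l z)) ∧ ∃ z, l z ≠ 0 := by
    by_contra hcon
    push Not at hcon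
    have hall : ∀ (t : F) (z : AdjoinRoot f), t * l0 z + φ (t * l0 (z ^ q ^ 3)) = 0 := by
      intro t z
      obtain ⟨l, hl⟩ := hsym t
      rw [← hl]
      exact hcon l (fun w => by
        rw [hl, hl, C.conj_conj]
        simp only [map_add, C.fd.invol]
        ring) z
    obtain ⟨τ, hτ⟩ := C.fd.exists_ne
    have hz1 : l0 (B' ⟨0, by rw [AdjoinRoot.powerBasis_dim]; exact hf.natDegree_pos⟩) = 1 := by
      show B'.coord _ (B' _) = 1
      simp
    have h1 := hall 1 (B' ⟨0, by rw [AdjoinRoot.powerBasis_dim]; exact hf.natDegree_pos⟩)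
    have h2 := hall τ (B' ⟨0, by rw [AdjoinRoot.powerBasis_dim]; exact hf.natDegree_pos⟩)
    rw [hz1, map_mul] at h1 h2
    rw [map_one, one_mul] at h1
    exact hτ (by linear_combination φ τ * h1 - h2)
  let B : AdjoinRoot f →ₛₗ[φ] AdjoinRoot f →ₗ[F] F :=
    LinearMap.mk₂'ₛₗ φ (RingHom.id F) (fun x y => l (y * x ^ q ^ 3))
      (fun x x' y => by rw [C.conj_add, mul_add, map_add])
      (fun c x y => by rw [C.conj_smul, mul_smul_comm, map_smul])
      (fun x y y' => by rw [add_mul, map_add])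
      (fun c x y => by rw [smul_mul_assoc, map_smul, RingHom.id_apply])
  have hB : ∀ x y, B x y = l (y * x ^ q ^ 3) := fun x y => rfl
  obtain ⟨b, hb, hbo⟩ := Forms.exists_orthonormal_family B C.fd.ne_id C.fd.invol
    ⟨fun x y => by rw [hB, hB, ← hl, mul_pow, C.conj_conj, mul_comm]⟩ 3 ⊤
    (by rw [finrank_top, (AdjoinRoot.powerBasis hf.ne_zero).finrank, AdjoinRoot.powerBasis_dim, C.deg])
    (fun x _ hx => by
      by_contra hx0
      refine hz0 ?_
      have h := hx (z0 * (x ^ q ^ 3)⁻¹) trivial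
      rwa [hB, mul_assoc, inv_mul_cancel₀ (pow_ne_zero _ hx0), mul_one] at h)
  have hli : LinearIndependent F b := linearIndependent_of_top_le_span_of_card_eq_finrank hb.ge (by
    rw [(AdjoinRoot.powerBasis hf.ne_zero).finrank, AdjoinRoot.powerBasis_dim, C.deg, Fintype.card_fin])
  let bb := Module.Basis.mk hli hb.ge
  have hform : ∀ u w : Fin 3 → F, hermForm 3 F q u w = B (bb.equivFun.symm w) (bb.equivFun.symm u) := by
    intro u w
    simp only [Module.Basis.equivFun_symm_apply, map_sum, LinearMap.sum_apply, LinearMap.map_smulₛₗ,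
      LinearMap.smul_apply, smul_eq_mul, RingHom.id_apply]
    simp [bb, hbo, hermForm, C.fd.pow, mul_comm]
  refine ⟨Algebra.leftMulMatrix bb (AdjoinRoot.root f), fun u w => ?_, ?_⟩
  · have hmv : ∀ x : Fin 3 → F, bb.equivFun.symm (Algebra.leftMulMatrix bb (AdjoinRoot.root f) *ᵥ x) =
        AdjoinRoot.root f * bb.equivFun.symm x := by
      intro x
      refine bb.equivFun.injective ?_
      rw [LinearEquiv.apply_symm_apply]
      have h := Algebra.leftMulMatrix_mulVec_repr bb (AdjoinRoot.root f) (bb.equivFun.symm x)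
      rw [← Module.Basis.equivFun_apply, ← Module.Basis.equivFun_apply, LinearEquiv.apply_symm_apply] at h
      exact h
    rw [hform, hform, hmv, hmv, hB, hB]
    congr 1
    rw [mul_pow]
    linear_combination (bb.equivFun.symm u * (bb.equivFun.symm w) ^ q ^ 3) * C.root_pow
  · rw [aeval_algHom_apply, AdjoinRoot.aeval_eq, AdjoinRoot.mk_self, map_zero]

end CfsgLib.TwoCover.Unitary
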