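import Cfsg.Agent.Lib.TwoCover.UnitaryThree
import Cfsg.Agent.Lib.TwoCover.UnipThree
import Cfsg.Agent.Lib.TwoCover.UnitaryFour

/-!
`PSU₃(3^a)` is covered by point stabilisers and Singer normalisers.
-/

set_option autoImplicit false

namespace CfsgLib.TwoCover.Unitary

open Matrix Cfsg CfsgLib.TwoCover.Herm Polynomial

variable {F : Type*} [Field F] [Fintype F] {q : ℕ} {φ : F →+* F} [CharP F 3]

omit [CharP F 3] in
theorem exists_isU_inv {n : ℕ} (D : FD q φ) {H : Matrix (Fin n) (Fin n) F} (hH : IsU q H) :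
    ∃ H' : Matrix (Fin n) (Fin n) F, IsU q H' ∧ H' * H = 1 ∧ H * H' = 1 := by
  have hu := Matrix.mulVec_injective_iff_isUnit.1 (isU_injective D hH)
  refine ⟨(hu.unit⁻¹).val, ?_, IsUnit.val_inv_mul hu, IsUnit.mul_val_inv hu⟩
  have hmem : hu.unit⁻¹ ∈ GU n F q := Subgroup.inv_mem _ (show hu.unit ∈ GU n F q from hH)
  exact hmem

/-- In characteristic three a scalar fixes the determinant. -/
theorem exists_su_scalar (D : FD q φ) {H : Matrix (Fin 3) (Fin 3) F} (hH : IsU q H) :
    ∃ (x : SU 3 F q) (d : F), d ≠ 0 ∧ x.1.1 = d • H := by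
  have hdet := isU_det D hH
  set mu := H.det⁻¹ with hmu
  have h0 : H.det ≠ 0 := left_ne_zero_of_mul_eq_one hdet
  have hmu1 : mu ^ (q + 1) = 1 := by
    rw [hmu, inv_pow, pow_succ', ← D.pow, hdet, inv_one]
  have hq3 : ¬ 3 ∣ q + 1 := by
    have hdvd : 3 ∣ q := by
      obtain ⟨k, -, hk⟩ := FiniteField.card F 3
      have h1 : 3 ∣ q ^ 2 := by rw [← D.card, hk]; exact dvd_pow_self 3 (PNat.ne_zero k)
      exact Nat.prime_three.dvd_of_dvd_pow h1
    omega
  obtain ⟨k, hk⟩ : ∃ k, 3 * k % (q + 1) = 1 := by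
    have hq2 := D.two_le
    rcases (by omega : (q + 1) % 3 = 1 ∨ (q + 1) % 3 = 2) with h | h
    · refine ⟨(2 * (q + 1) + 1) / 3, ?_⟩
      rw [Nat.mul_div_cancel' (by omega : 3 ∣ 2 * (q + 1) + 1),
        show 2 * (q + 1) + 1 = 1 + (q + 1) * 2 by ring, Nat.add_mul_mod_self_left, Nat.mod_eq_of_lt (by omega)]
    · refine ⟨((q + 1) + 1) / 3, ?_⟩
      rw [Nat.mul_div_cancel' (by omega : 3 ∣ (q + 1) + 1), Nat.add_mod_left, Nat.mod_eq_of_lt (by omega)]
  set d := mu ^ k
  have hd0 : d ≠ 0 := pow_ne_zero _ (inv_ne_zero h0)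
  have hd : d * φ d = 1 := by
    rw [D.pow, ← pow_succ', ← pow_mul, mul_comm, pow_mul, hmu1, one_pow]
  have hU : IsU q (d • H) := fun u v => by
    rw [smul_mulVec, smul_mulVec, (hs D).smul_left, smul_right (hs D), ← mul_assoc, hd, one_mul, hH]
  obtain ⟨x, hx⟩ := exists_su hU (by
    rw [Matrix.det_smul, Fintype.card_fin, ← pow_mul, mul_comm k 3,
      ← Nat.div_add_mod (3 * k) (q + 1), hk, pow_add, pow_mul, hmu1, one_pow, one_mul, pow_one, hmu,
      inv_mul_cancel₀ h0])
  exact ⟨x, d, hd0, hx⟩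

variable {f : F[X]}

/-- The normaliser of the Singer cycle. -/
def singerStab (q : ℕ) (J : Matrix (Fin 3) (Fin 3) F) (hJ : J ^ q ^ 6 = J) : Subgroup (SU 3 F q) where
  carrier := {g | ∃ k : ℕ, g.1.1 * J = J ^ (q ^ 2) ^ k * g.1.1}
  one_mem' := ⟨0, by
    show (1 : Matrix (Fin 3) (Fin 3) F) * J = J ^ (q ^ 2) ^ 0 * 1
    rw [pow_zero, pow_one, one_mul, mul_one]⟩
  mul_mem' := by
    rintro a b ⟨k, hk⟩ ⟨l, hl⟩
    refine ⟨k + l, ?_⟩
    have hka : ∀ i : ℕ, a.1.1 * J ^ i = (J ^ (q ^ 2) ^ k) ^ i * a.1.1 := fun i =>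
      (SemiconjBy.pow_right (a := a.1.1) (x := J) (y := J ^ (q ^ 2) ^ k) hk i).eq
    rw [su_mul_coe, mul_assoc, hl, ← mul_assoc, hka, ← pow_mul, ← pow_add, mul_assoc]
  inv_mem' := by
    rintro a ⟨k, hk⟩
    refine ⟨2 * k, ?_⟩
    have h3 : J ^ (q ^ 2) ^ (3 * k) = J := by
      clear hk
      induction k with
      | zero => simp
      | succ n ih =>
        rw [Nat.mul_succ, pow_add, pow_mul, ih, ← pow_mul]
        exact hJ
    have hka : a.1.1 * J ^ (q ^ 2) ^ (2 * k) = J * a.1.1 := by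
      rw [(SemiconjBy.pow_right (a := a.1.1) (x := J) (y := J ^ (q ^ 2) ^ k) hk _).eq, ← pow_mul,
        ← pow_add, show k + 2 * k = 3 * k by ring, h3]
    calc (a⁻¹).1.1 * J = (a⁻¹).1.1 * (J * a.1.1) * (a⁻¹).1.1 := by
          rw [mul_assoc, mul_assoc J, su_mul_inv, mul_one]
      _ = J ^ (q ^ 2) ^ (2 * k) * (a⁻¹).1.1 := by
          rw [← hka, ← mul_assoc, su_inv_mul, one_mul]

omit [CharP F 3] in
theorem conj_mem_singer {J : Matrix (Fin 3) (Fin 3) F} (hJ : J ^ q ^ 6 = J) {g x : SU 3 F q}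
    {J' : Matrix (Fin 3) (Fin 3) F} (hx : J * x.1.1 = x.1.1 * J') {k : ℕ}
    (hg : g.1.1 * J' = J' ^ (q ^ 2) ^ k * g.1.1) : x * g * x⁻¹ ∈ singerStab q J hJ := by
  refine ⟨k, ?_⟩
  have h1 : (x⁻¹).1.1 * J = J' * (x⁻¹).1.1 := by
    calc (x⁻¹).1.1 * J = (x⁻¹).1.1 * (J * x.1.1) * (x⁻¹).1.1 := by
          rw [mul_assoc, mul_assoc J, su_mul_inv, mul_one]
      _ = J' * (x⁻¹).1.1 := by rw [hx, ← mul_assoc, su_inv_mul, one_mul]
  have h2 : ∀ i : ℕ, x.1.1 * J' ^ i = J ^ i * x.1.1 := fun i =>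
    (SemiconjBy.pow_right (a := x.1.1) (x := J') (y := J) hx.symm i).eq
  rw [su_mul_coe, su_mul_coe, mul_assoc, h1, ← mul_assoc, mul_assoc x.1.1, hg, ← mul_assoc, h2,
    mul_assoc, mul_assoc, mul_assoc]

variable (C : CD q φ f) [Fact (Irreducible f)]

include C

omit [CharP F 3] in
theorem pow_root_six {J : Matrix (Fin 3) (Fin 3) F} (hf : aeval J f = 0) : J ^ q ^ 6 = J := by
  have h := congrArg (evalHom J hf) (C.pow_six (AdjoinRoot.root f))
  rwa [map_pow, evalHom_root] at h

omit [CharP F 3] in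
theorem aeval_frob {J : Matrix (Fin 3) (Fin 3) F} (hf : aeval J f = 0) :
    aeval (J ^ q ^ 2) f = 0 := by
  have h1 : aeval (AdjoinRoot.root f ^ q ^ 2) f = 0 := by
    rw [← C.fd.card, show AdjoinRoot.root f ^ Fintype.card F =
      FiniteField.frobeniusAlgHom F (AdjoinRoot f) (AdjoinRoot.root f) from rfl, aeval_algHom_apply,
      AdjoinRoot.aeval_eq, AdjoinRoot.mk_self, map_zero]
  have h2 := congrArg (evalHom J hf) h1
  rwa [← aeval_algHom_apply, map_pow, evalHom_root, map_zero] at h2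

omit [CharP F 3] in
/-- Commuting with a root of `f` means lying in its field. -/
theorem mem_field_of_commute {J : Matrix (Fin 3) (Fin 3) F} (hf : aeval J f = 0)
    {N : Matrix (Fin 3) (Fin 3) F} (hN : N * J = J * N) :
    ∃ w : AdjoinRoot f, N = evalHom J hf w := by
  haveI : Module.Finite F (AdjoinRoot f) := (AdjoinRoot.powerBasis C.irr.ne_zero).finite
  set v : Fin 3 → F := Pi.single 0 1
  let l : AdjoinRoot f →ₗ[F] (Fin 3 → F) :=
    { toFun := fun z => evalHom J hf z *ᵥ v
      map_add' := fun x y => by rw [map_add, add_mulVec]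
      map_smul' := fun c x => by rw [map_smul, smul_mulVec, RingHom.id_apply] }
  have hinj : Function.Injective l := by
    rw [← LinearMap.ker_eq_bot, LinearMap.ker_eq_bot']
    intro z hz
    by_contra h0
    have h2 : evalHom J hf z⁻¹ *ᵥ (evalHom J hf z *ᵥ v) = v := by
      rw [mulVec_mulVec, ← map_mul, inv_mul_cancel₀ h0, map_one, one_mulVec]
    rw [show evalHom J hf z *ᵥ v = 0 from hz, mulVec_zero] at h2
    exact one_ne_zero (α := F) (by simpa [v] using (congrFun h2 0).symm)
  have hsurj := (LinearMap.injective_iff_surjective_of_finrank_eq_finrank (by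
    rw [(AdjoinRoot.powerBasis C.irr.ne_zero).finrank, AdjoinRoot.powerBasis_dim, C.deg,
      Module.finrank_fin_fun])).1 hinj
  obtain ⟨w, hw⟩ := hsurj (N *ᵥ v)
  have hcomm : ∀ z : AdjoinRoot f, N * evalHom J hf z = evalHom J hf z * N := by
    intro z
    obtain ⟨r, rfl⟩ := AdjoinRoot.mk_surjective z
    rw [← AdjoinRoot.aeval_eq, ← aeval_algHom_apply, evalHom_root]
    exact ((Algebra.commute_of_mem_adjoin_singleton_of_commute
      (Polynomial.aeval_mem_adjoin_singleton F J) (show Commute N J from hN))).eq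
  refine ⟨w, Matrix.ext_iff_mulVec.2 fun u => ?_⟩
  obtain ⟨z, rfl⟩ := hsurj u
  show N *ᵥ (evalHom J hf z *ᵥ v) = evalHom J hf w *ᵥ (evalHom J hf z *ᵥ v)
  rw [mulVec_mulVec, hcomm, ← mulVec_mulVec, ← show evalHom J hf w *ᵥ v = N *ᵥ v from hw, mulVec_mulVec,
    mulVec_mulVec, ← map_mul, ← map_mul, mul_comm]

/-- The regular unipotent element normalising a Singer cycle. -/
theorem exists_singer_unip {J : Matrix (Fin 3) (Fin 3) F} (hJU : IsU q J) (hf : aeval J f = 0) :
    ∃ u : Matrix (Fin 3) (Fin 3) F, IsU q u ∧ u * J = J ^ q ^ 2 * u ∧ (u - 1) ^ 3 = 0 ∧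
      (u - 1) ^ 2 ≠ 0 := by
  haveI : Fact (Nat.Prime 3) := ⟨Nat.prime_three⟩
  set ψ := evalHom J hf with hψdef
  set α := AdjoinRoot.root f
  have hψ : ψ α = J := evalHom_root J hf
  have hJ2U : IsU q (J ^ q ^ 2) := by
    rw [← hψ, ← map_pow]
    refine isU_eval C hJU hf ?_
    rw [← pow_mul, mul_comm, pow_mul, C.root_pow, one_pow]
  obtain ⟨x, hxU, hx⟩ := conj_roots C hJU hf hJ2U (aeval_frob C hf)
  have hx1 : ∀ z : AdjoinRoot f, x * ψ z = ψ (z ^ q ^ 2) * x := by
    intro z
    obtain ⟨r, rfl⟩ := AdjoinRoot.mk_surjective z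
    have e : (AdjoinRoot.mk f r) ^ q ^ 2 = aeval (α ^ q ^ 2) r := by
      rw [← AdjoinRoot.aeval_eq, ← C.fd.card]
      exact (aeval_algHom_apply (FiniteField.frobeniusAlgHom F (AdjoinRoot f)) α r).symm
    rw [e, ← AdjoinRoot.aeval_eq, ← aeval_algHom_apply, ← aeval_algHom_apply, hψ, map_pow, hψ]
    clear e
    induction r using Polynomial.induction_on' with
    | add p s hp hs' => simp only [map_add, mul_add, add_mul, hp, hs']
    | monomial k c =>
      rw [aeval_monomial, aeval_monomial, ← Algebra.smul_def, ← Algebra.smul_def, mul_smul_comm,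
        smul_mul_assoc]
      congr 1
      exact (SemiconjBy.pow_right (a := x) (x := J) (y := J ^ q ^ 2) hx.symm k).eq
  have hx3 : x ^ 3 * J = J * x ^ 3 := by
    rw [← hψ, pow_succ, pow_two, mul_assoc, mul_assoc, hx1, ← mul_assoc x x, mul_assoc x x, ← mul_assoc x (ψ _),
      hx1, mul_assoc (ψ _) x x, ← mul_assoc x (ψ _), hx1, mul_assoc, mul_assoc]
    congr 2
    rw [← pow_mul, ← pow_mul, ← pow_add, ← pow_add]
    exact C.pow_six α
  obtain ⟨w, hw⟩ := mem_field_of_commute C hf hx3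
  have hxinj := isU_injective C.fd hxU
  have hwF : ∃ c : F, algebraMap F (AdjoinRoot f) c = w := by
    refine mem_range_of_pow_card ?_
    rw [C.fd.card]
    refine (ψ : AdjoinRoot f →+* Matrix (Fin 3) (Fin 3) F).injective ?_
    show ψ (w ^ q ^ 2) = ψ w
    have h1 : ψ (w ^ q ^ 2) * x = ψ w * x := by
      rw [← hx1, hψdef, ← hw, ← pow_succ, ← pow_succ']
    have hu := Matrix.mulVec_injective_iff_isUnit.1 hxinj
    exact hu.mul_right_cancel h1
  obtain ⟨c, rfl⟩ := hwF
  rw [AlgHom.commutes, Algebra.algebraMap_eq_smul_one] at hw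
  have hcc : c * φ c = 1 := by
    have h3 : IsU q (x ^ 3) := by
      rw [pow_succ, pow_two]; exact (hxU.mul hxU).mul hxU
    have := h3 (Pi.single 0 1) (Pi.single 0 1)
    rw [hw, smul_mulVec, one_mulVec, (hs C.fd).smul_left, smul_right (hs C.fd), ← mul_assoc] at this
    have hne : hermForm 3 F q (Pi.single 0 1) (Pi.single 0 1) ≠ 0 := by
      have hq : q ≠ 0 := by have := C.fd.two_le; omega
      simp [hermForm, Pi.single_apply, ite_pow, zero_pow hq]
    exact mul_right_cancel₀ hne (this.trans (one_mul _).symm)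
  have hc1 : c⁻¹ ^ (q + 1) = 1 := by rw [inv_pow, pow_succ', ← C.fd.pow, hcc, inv_one]
  obtain ⟨k, hk⟩ : ∃ k, 3 * k % (q + 1) = 1 := by
    have hq2 := C.fd.two_le
    have hdvd : 3 ∣ q := by
      obtain ⟨k, -, hk⟩ := FiniteField.card F 3
      have h1 : 3 ∣ q ^ 2 := by rw [← C.fd.card, hk]; exact dvd_pow_self 3 (PNat.ne_zero k)
      exact Nat.prime_three.dvd_of_dvd_pow h1
    refine ⟨(2 * (q + 1) + 1) / 3, ?_⟩
    rw [Nat.mul_div_cancel' (by omega : 3 ∣ 2 * (q + 1) + 1),
      show 2 * (q + 1) + 1 = 1 + (q + 1) * 2 by ring, Nat.add_mul_mod_self_left, Nat.mod_eq_of_lt (by omega)]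
  set d := c⁻¹ ^ k
  have hd : d * φ d = 1 := by
    rw [C.fd.pow, ← pow_succ', ← pow_mul, mul_comm, pow_mul, hc1, one_pow]
  have hd3 : d ^ 3 * c = 1 := by
    rw [← pow_mul, mul_comm k 3, ← Nat.div_add_mod (3 * k) (q + 1), hk, pow_add, pow_mul, hc1, one_pow,
      one_mul, pow_one, inv_mul_cancel₀ (left_ne_zero_of_mul_eq_one hcc)]
  have hd0 : d ≠ 0 := left_ne_zero_of_mul_eq_one hd
  refine ⟨d • x, fun u v => ?_, ?_, ?_, ?_⟩
  · rw [smul_mulVec, smul_mulVec, (hs C.fd).smul_left, smul_right (hs C.fd), ← mul_assoc, hd, one_mul, hxU]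
  · rw [smul_mul_assoc, mul_smul_comm, hx]
  · rw [sub_pow_char_of_commute (p := 3) (x := d • x) (y := 1) (Commute.one_right _), one_pow, _root_.smul_pow, hw, smul_smul, hd3,
      one_smul, sub_self]
  · intro h0
    have hone : (1 : Matrix (Fin 3) (Fin 3) F) + d • x + (d • x) ^ 2 = 0 := by
      have h3 : (3 : Matrix (Fin 3) (Fin 3) F) = 0 := by
        exact_mod_cast CharP.cast_eq_zero (Matrix (Fin 3) (Fin 3) F) 3
      have e : ∀ y : Matrix (Fin 3) (Fin 3) F, 1 + y + y ^ 2 = (y - 1) ^ 2 + 3 * y := fun y => by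
        noncomm_ring
      rw [e, h0, h3, zero_mul, add_zero]
    have hu1 : ∀ z, (d • x) * ψ z = ψ (z ^ q ^ 2) * (d • x) := fun z => by
      rw [smul_mul_assoc, hx1, mul_smul_comm]
    set u := d • x
    set a' := α ^ q ^ 2
    set a'' := a' ^ q ^ 2
    have h1 : ψ (a'' - α) + ψ (a'' - a') * u = 0 := by
      have e1 : ψ a'' * (1 + u + u ^ 2) - (1 + u + u ^ 2) * ψ α = 0 := by
        rw [hone, mul_zero, zero_mul, sub_zero]
      have e2 : (1 + u + u ^ 2) * ψ α = ψ α + ψ a' * u + ψ a'' * u ^ 2 := by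
        rw [add_mul, add_mul, one_mul, hu1, show u ^ 2 = u * u from sq u, mul_assoc u u, hu1, ← mul_assoc u, hu1, mul_assoc]
      rw [e2, mul_add, mul_add, mul_one] at e1
      rw [map_sub, map_sub, sub_mul, ← e1]
      abel
    have hne : a'' - a' ≠ 0 := by
      intro e
      have e2 : a'' = a' := sub_eq_zero.1 e
      have e3 : a' = α := by
        have h6 : a'' ^ q ^ 2 = α := by
          show ((α ^ q ^ 2) ^ q ^ 2) ^ q ^ 2 = α
          rw [← pow_mul, ← pow_mul, ← pow_add, ← pow_add]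
          exact C.pow_six α
        rw [e2] at h6
        rw [← e2, ← h6]
      obtain ⟨r, hr⟩ := mem_range_of_pow_card (F := F) (z := α) (by rw [C.fd.card]; exact e3)
      have h7 : aeval (algebraMap F (AdjoinRoot f) r) f = 0 := by
        rw [hr, AdjoinRoot.aeval_eq, AdjoinRoot.mk_self]
      rw [aeval_algebraMap_apply, map_eq_zero_iff _ (algebraMap F (AdjoinRoot f)).injective] at h7
      have h8 : f.natDegree = 1 :=
        natDegree_eq_of_degree_eq_some (degree_eq_one_of_irreducible_of_root C.irr (x := r) (by simpa using h7))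
      rw [C.deg] at h8
      omega
    have hu2 : u = ψ ((a'' - a')⁻¹ * -(a'' - α)) := by
      rw [map_mul, map_neg, ← eq_neg_of_add_eq_zero_right h1, ← mul_assoc, ← map_mul, inv_mul_cancel₀ hne,
        map_one, one_mul]
    have hcomm : ψ α * u = ψ a' * u := by
      rw [← hu1, hu2, ← map_mul, ← map_mul, mul_comm]
    have hu : IsUnit u := by
      refine Matrix.mulVec_injective_iff_isUnit.1 fun a b hab => hxinj ?_
      simp only [u, smul_mulVec] at hab
      exact smul_right_injective _ hd0 hab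
    have e4 : α = a' := (ψ : AdjoinRoot f →+* Matrix (Fin 3) (Fin 3) F).injective (hu.mul_right_cancel hcomm)
    exact hne (by show a' ^ q ^ 2 - a' = 0; rw [← e4, sub_eq_zero]; exact e4.symm)

/-- The three possibilities for an element of `SU₃`. -/
theorem trichotomy (g : SU 3 F q) :
    (∃ v : Fin 3 → F, hermForm 3 F q v v ≠ 0 ∧ ∃ c : F, g.1.1 *ᵥ v = c • v) ∨
    (∃ J, IsU q J ∧ aeval J f = 0 ∧ g.1.1 * J = J * g.1.1) ∨
    ((g.1.1 - 1) ^ 3 = 0 ∧ (g.1.1 - 1) ^ 2 ≠ 0) := by
  classical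
  set M := g.1.1 with hMdef
  have hM : IsU q M := g.2
  have hD := C.fd
  have h := hs (n := 3) hD
  by_cases hev : ∃ v : Fin 3 → F, v ≠ 0 ∧ ∃ c : F, M *ᵥ v = c • v
  · obtain ⟨v, hv0, lam, hv⟩ := hev
    by_cases hvv : hermForm 3 F q v v ≠ 0
    · exact Or.inl ⟨v, hvv, lam, hv⟩
    push Not at hvv
    have hlam : lam ≠ 0 := by
      rintro rfl
      rw [zero_smul] at hv
      exact hv0 (isU_injective hD hM (show M *ᵥ v = M *ᵥ 0 by rw [hv, mulVec_zero]))
    obtain ⟨w, hw⟩ : ∃ w, hermForm 3 F q w v ≠ 0 := by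
      by_contra hc
      push Not at hc
      exact hv0 (ext_right h fun x => by rw [zero_right h, hc])
    obtain ⟨u, hu0, huv, huw⟩ : ∃ u : Fin 3 → F, u ≠ 0 ∧ hermForm 3 F q u v = 0 ∧ hermForm 3 F q u w = 0 := by
      let L : (Fin 3 → F) →ₗ[F] F × F := (lft h v).prod (lft h w)
      have h1 := LinearMap.finrank_range_add_finrank_ker L
      have h2 := (LinearMap.range L).finrank_le
      rw [Module.finrank_prod, Module.finrank_self] at h2
      rw [Module.finrank_fin_fun] at h1
      obtain ⟨u, hu, hu0⟩ := Submodule.exists_mem_ne_zero_of_ne_bot (p := LinearMap.ker L) (fun e => by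
        rw [e, finrank_bot] at h1; omega)
      rw [LinearMap.mem_ker] at hu
      exact ⟨u, hu0, congrArg Prod.fst hu, congrArg Prod.snd hu⟩
    have hli : LinearIndependent F ![v, u, w] := by
      rw [Fintype.linearIndependent_iff]
      intro k hk
      simp only [Fin.sum_univ_three, cons_val_zero, cons_val_one, cons_val_two, head_cons, tail_cons] at hk
      have e1 := congrArg (fun x => hermForm 3 F q x v) hk
      simp only [h.add_left, h.smul_left, hvv, huv, zero_left h, mul_zero, zero_add, mul_eq_zero] at e1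
      have k2 : k 2 = 0 := e1.resolve_right hw
      have e2 := congrArg (fun x => hermForm 3 F q x w) hk
      simp only [h.add_left, h.smul_left, huw, k2, zero_mul, zero_left h, mul_zero, add_zero,
        mul_eq_zero] at e2
      have k0 : k 0 = 0 := e2.resolve_right (fun e => hw (Herm.eq_zero_comm h e))
      rw [k0, k2, zero_smul, zero_smul, zero_add, add_zero] at hk
      have k1 : k 1 = 0 := (smul_eq_zero.1 hk).resolve_right hu0
      intro i
      fin_cases i <;> assumption
    have hdec : ∀ x, ∃ a b c : F, x = a • v + b • u + c • w := by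
      intro x
      have hx : x ∈ Submodule.span F (Set.range ![v, u, w]) := by
        rw [hli.span_eq_top_of_card_eq_finrank (by simp)]; trivial
      rw [Submodule.mem_span_range_iff_exists_fun] at hx
      obtain ⟨k, hk⟩ := hx
      exact ⟨k 0, k 1, k 2, by simpa [Fin.sum_univ_three] using hk.symm⟩
    have huu : hermForm 3 F q u u ≠ 0 := by
      intro e
      refine hu0 (h.nondeg u fun y => ?_)
      obtain ⟨a, b, c, rfl⟩ := hdec y
      simp [add_right h, smul_right h, huv, huw, e]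
    obtain ⟨a, mu, c', hgu⟩ := hdec (M *ᵥ u)
    have hc' : c' = 0 := by
      have e := hM u v
      rw [hgu, hv, smul_right h, huv] at e
      simp [h.add_left, h.smul_left, hvv, huv, hlam, hw] at e
      exact e
    rw [hc', zero_smul, add_zero] at hgu
    by_cases hmu : mu = lam
    swap
    · refine Or.inl ⟨u + (a / (mu - lam)) • v, ?_, mu, ?_⟩
      · simp only [h.add_left, add_right h, h.smul_left, smul_right h, hvv, huv,
          Herm.eq_zero_comm h huv, mul_zero, add_zero]
        exact huu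
      · rw [mulVec_add, mulVec_smul, hgu, hv]
        have : a + (a / (mu - lam)) * lam = mu * (a / (mu - lam)) := by
          field_simp [sub_ne_zero.2 hmu]; ring
        linear_combination (norm := module) congrArg (· • v) this
    subst hmu
    by_cases ha : a = 0
    · exact Or.inl ⟨u, huu, mu, by rw [hgu, ha, zero_smul, zero_add]⟩
    obtain ⟨cw, b, nu, hgw⟩ := hdec (M *ᵥ w)
    have hwv : hermForm 3 F q w v = φ mu * nu * hermForm 3 F q w v := by
      conv_lhs => rw [← hM w v, hv, hgw]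
      simp only [smul_right h, h.add_left, h.smul_left, hvv, huv, mul_zero, zero_add]
      ring
    have hnu : φ mu * nu = 1 := mul_right_cancel₀ hw (hwv.symm.trans (one_mul _).symm)
    have hmm : mu * φ mu = 1 := by
      have e := hM u u
      rw [hgu] at e
      simp only [h.add_left, add_right h, h.smul_left, smul_right h, hvv, huv, Herm.eq_zero_comm h huv,
        mul_zero, zero_add] at e
      exact mul_right_cancel₀ huu (by linear_combination e)
    have hnu' : nu = mu := by linear_combination mu * hnu - nu * hmm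
    rw [hnu'] at hgw
    let bb := basisOfLinearIndependentOfCardEqFinrank hli (by simp)
    have hbb : ∀ i, bb i = ![v, u, w] i := fun i => by
      simp [bb]
    have hrepr : ∀ a b c : F, ∀ i, bb.repr (a • v + b • u + c • w) i = ![a, b, c] i := by
      intro a b c i
      rw [show v = bb 0 from (hbb 0).symm, show u = bb 1 from (hbb 1).symm,
        show w = bb 2 from (hbb 2).symm]
      simp only [map_add, map_smul, Module.Basis.repr_self]
      fin_cases i <;> simp
    have hdet : mu ^ 3 = 1 := by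
      have h1 : LinearMap.det (Matrix.toLin' M) = 1 := by
        rw [LinearMap.det_toLin']; exact g.1.2
      rw [← LinearMap.det_toMatrix bb] at h1
      have hTM : LinearMap.toMatrix bb bb (Matrix.toLin' M) = !![mu, a, cw; 0, mu, b; 0, 0, mu] := by
        ext i j
        rw [LinearMap.toMatrix_apply, Matrix.toLin'_apply, hbb]
        fin_cases j
        · rw [show (![v, u, w] : Fin 3 → Fin 3 → F) (⟨0, by norm_num⟩ : Fin 3) = v from rfl, hv,
            show mu • v = mu • v + (0 : F) • u + (0 : F) • w by rw [zero_smul, zero_smul, add_zero, add_zero],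
            hrepr]
          fin_cases i <;> simp
        · rw [show (![v, u, w] : Fin 3 → Fin 3 → F) (⟨1, by norm_num⟩ : Fin 3) = u from rfl, hgu,
            show a • v + mu • u = a • v + mu • u + (0 : F) • w by rw [zero_smul, add_zero], hrepr]
          fin_cases i <;> simp
        · rw [show (![v, u, w] : Fin 3 → Fin 3 → F) (⟨2, by norm_num⟩ : Fin 3) = w from rfl, hgw, hrepr]
          fin_cases i <;> simp
      rw [hTM, det_fin_three] at h1
      simp at h1
      linear_combination h1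
    have hmu1 : mu = 1 := by
      haveI : Fact (Nat.Prime 3) := ⟨Nat.prime_three⟩
      have : (mu - 1) ^ 3 = 0 := by rw [sub_pow_char, hdet, one_pow, sub_self]
      exact sub_eq_zero.1 (eq_zero_of_pow_eq_zero this)
    subst hmu1
    set N := M - 1
    have hNx : ∀ x, N *ᵥ x = M *ᵥ x - x := fun x => by simp [N, sub_mulVec]
    have hNv : N *ᵥ v = 0 := by rw [hNx, hv, one_smul, sub_self]
    have hNu : N *ᵥ u = a • v := by rw [hNx, hgu, one_smul, add_sub_cancel_right]
    have hNw : N *ᵥ w = cw • v + b • u := by rw [hNx, hgw, one_smul, add_sub_cancel_right]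
    have hb : b ≠ 0 := by
      intro hb
      have e := hM w u
      rw [hgw, hgu, hb] at e
      simp only [h.add_left, add_right h, h.smul_left, smul_right h, hvv, huv, Herm.eq_zero_comm h huv,
        Herm.eq_zero_comm h huw, zero_mul, mul_zero, zero_add, add_zero, map_one, one_mul] at e
      rcases mul_eq_zero.1 e with e | e
      · exact ha (by rw [← hD.invol a, e, map_zero])
      · exact hw e
    refine Or.inr (Or.inr ⟨Matrix.ext_iff_mulVec.2 fun x => ?_, fun h0 => ?_⟩)
    · obtain ⟨a1, b1, c1, rfl⟩ := hdec x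
      simp only [pow_succ, pow_zero, one_mul, ← mulVec_mulVec, mulVec_add, mulVec_smul, hNv, hNu, hNw,
        smul_zero, zero_add, add_zero, mulVec_zero, zero_mulVec]
    · have e := congrArg (· *ᵥ w) h0
      simp only [pow_two, ← mulVec_mulVec, hNw, mulVec_add, mulVec_smul, hNv, hNu, smul_zero,
        zero_add, zero_mulVec, smul_smul] at e
      exact hv0 ((smul_eq_zero.1 e).resolve_left (mul_ne_zero hb ha))
  · right; left
    push Not at hev
    have hno : ∀ U : Submodule F (Fin 3 → F), (∀ u ∈ U, mulVecLin M u ∈ U) → U = ⊥ ∨ U = ⊤ := by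
      intro U hU
      by_contra hc
      push Not at hc
      have h1 : 0 < Module.finrank F U := Nat.pos_of_ne_zero fun e => hc.1 (Submodule.finrank_eq_zero.1 e)
      have h4 : Module.finrank F U < 3 := by
        have := U.finrank_le
        rw [Module.finrank_fin_fun] at this
        refine lt_of_le_of_ne this fun e => hc.2 (Submodule.eq_top_of_finrank_eq ?_)
        rw [e, Module.finrank_fin_fun]
      rcases (by omega : Module.finrank F U = 1 ∨ Module.finrank F U = 2) with h12 | h12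
      · obtain ⟨u, hu0, hu⟩ := (finrank_eq_one_iff' (K := F) (V := U)).1 h12
        obtain ⟨c, hc⟩ := hu ⟨M *ᵥ u.1, hU _ u.2⟩
        exact hev u.1 (fun e => hu0 (Subtype.ext e)) c (congrArg Subtype.val hc).symm
      · obtain ⟨y, hy0, hy, hyu⟩ := exists_perp hD (U := U) (by omega)
        obtain ⟨c, hc⟩ := hyu _ (perp_invariant hD hM hU hy)
        exact hev y hy0 c hc
    haveI : Nontrivial (Fin 3 → F) := inferInstance
    haveI : Finite (Module.End F (Fin 3 → F)) := Module.finite_of_finite F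
    obtain ⟨-, hdeg, hirr, hadj⟩ := irred_facts h hD.card hD.pow hD.invol (mulVecLin M) (fun x y => hM x y) hno
    rw [Module.finrank_fin_fun] at hdeg
    obtain ⟨J, hJmem, hJ⟩ := exists_root_adjoin (mulVecLin M) C.irr (fun p hp hpd => by
      rw [C.deg]
      rw [Polynomial.natDegree_eq_of_degree_eq (degree_eq_degree_of_associated
        (hp.associated_of_dvd hirr hpd)), hdeg])
    have hψ : aeval (LinearMap.toMatrix' J) f = 0 := by
      have := aeval_algHom_apply ((LinearMap.toMatrixAlgEquiv' :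
        _ ≃ₐ[F] Matrix (Fin 3) (Fin 3) F).toAlgHom) J f
      rw [hJ, map_zero] at this
      exact this
    refine ⟨LinearMap.toMatrix' J, fun x y => ?_, hψ, ?_⟩
    · rw [LinearMap.toMatrix'_mulVec, LinearMap.toMatrix'_mulVec,
        hadj (by rw [Module.finrank_fin_fun]) J hJmem, ← Module.End.mul_apply, ← pow_succ]
      have h1 : J ^ (q ^ 3 + 1) = 1 := by
        have e := congrArg (fun z => AdjoinRoot.liftAlgHom f (Algebra.ofId F (Algebra.adjoin F {J}))
          ⟨J, Algebra.self_mem_adjoin_singleton F J⟩ (Subtype.ext (by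
            have h2 := (aeval_algHom_apply (Algebra.adjoin F {J}).val
              (⟨J, Algebra.self_mem_adjoin_singleton F J⟩ : Algebra.adjoin F {J}) f).symm.trans hJ
            simpa [← Polynomial.aeval_def] using h2)) z) C.root_pow
        simp only [map_pow, map_one, AdjoinRoot.liftAlgHom_root] at e
        exact congrArg Subtype.val e
      rw [h1, Module.End.one_apply]
    · have hc : mulVecLin M * J = J * mulVecLin M :=
        (Algebra.commute_of_mem_adjoin_singleton_of_commute hJmem (Commute.refl (mulVecLin M))).eq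
      refine Matrix.ext_iff_mulVec.2 fun x => ?_
      rw [← mulVec_mulVec, ← mulVec_mulVec, LinearMap.toMatrix'_mulVec, LinearMap.toMatrix'_mulVec]
      exact LinearMap.congr_fun hc x

omit C [Fact (Irreducible f)] in
theorem psu_three_cover (D : FD q φ) :
    ∃ H K : Subgroup (PSU 3 F q), H ≠ ⊤ ∧ K ≠ ⊤ ∧
      ∀ g : PSU 3 F q, ∃ x : PSU 3 F q, x * g * x⁻¹ ∈ H ∨ x * g * x⁻¹ ∈ K := by
  classical
  obtain ⟨f, hf, hdeg, hroot⟩ := exists_cubic D
  haveI := Fact.mk hf
  have C : CD q φ f := ⟨D, hf, hdeg, hroot⟩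
  obtain ⟨J0, hJU, hJf⟩ := exists_unitary_root C
  have hJ6 := pow_root_six C hJf
  obtain ⟨u0, hu0U, hu0J, hu03, hu02⟩ := exists_singer_unip C hJU hJf
  have hfix : ∀ (J : Matrix (Fin 3) (Fin 3) F) (hJ : aeval J f = 0) (N : Matrix (Fin 3) (Fin 3) F)
      (v : Fin 3 → F) (c : F), v ≠ 0 → N * J = J * N → N *ᵥ v = c • v → N = c • 1 := by
    intro J hJ N v c hv0 hcomm hv
    obtain ⟨w, hw⟩ := mem_field_of_commute C hJ hcomm
    have hz : evalHom J hJ (w - c • 1) *ᵥ v = 0 := by
      rw [map_sub, map_smul, map_one, ← hw, sub_mulVec, smul_mulVec, one_mulVec, hv, sub_self]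
    by_contra hne
    have hwc : w - c • 1 ≠ 0 := by
      intro e
      refine hne ?_
      rw [hw, sub_eq_zero.1 e, map_smul, map_one]
    have := congrArg (evalHom J hJ (w - c • 1)⁻¹ *ᵥ ·) hz
    simp only [mulVec_mulVec, ← map_mul, inv_mul_cancel₀ hwc, map_one, one_mulVec, mulVec_zero] at this
    exact hv0 this
  have hKtop : singerStab q J0 hJ6 ≠ ⊤ := by
    intro hK
    obtain ⟨γ, hγ⟩ := IsCyclic.exists_generator (α := Fˣ)
    have hq2 := D.two_le
    have hord : orderOf γ = q ^ 2 - 1 := by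
      rw [orderOf_eq_card_of_forall_mem_zpowers hγ, Nat.card_units, Nat.card_eq_fintype_card, D.card]
    have hsq : q ^ 2 - 1 = (q - 1) * (q + 1) := by rw [mul_comm]; simpa using Nat.sq_sub_sq q 1
    set δ : F := ((γ ^ (q - 1) : Fˣ) : F)
    have hδ : δ * δ ^ q = 1 := by
      rw [← pow_succ', ← Units.val_pow_eq_pow_val, Units.val_eq_one, ← pow_mul, ← orderOf_dvd_iff_pow_eq_one,
        hord, hsq]
    have hδ3 : δ ^ 3 ≠ 1 := by
      rw [Ne, ← Units.val_pow_eq_pow_val, Units.val_eq_one, ← pow_mul, ← orderOf_dvd_iff_pow_eq_one, hord, hsq]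
      intro h
      have h2 := Nat.le_of_dvd (by norm_num : 0 < 3) (Nat.dvd_of_mul_dvd_mul_left (by omega) h)
      have h3 : q = 2 := by omega
      have hdvd : 3 ∣ q ^ 2 := by
        obtain ⟨k, -, hk⟩ := FiniteField.card F 3
        rw [← D.card, hk]; exact dvd_pow_self 3 (PNat.ne_zero k)
      rw [h3] at hdvd
      norm_num at hdvd
    have hδ0 : δ ≠ 0 := Units.ne_zero _
    obtain ⟨g, hg⟩ := exists_su (isU_diagonal (q := q) (d := ![δ, δ⁻¹, 1]) fun i => by
      fin_cases i <;> simp [hδ, ← mul_inv]) (by simp [det_diagonal, Fin.prod_univ_three, hδ0])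
    obtain ⟨k, hk⟩ := (hK ▸ Subgroup.mem_top g : g ∈ singerStab q J0 hJ6)
    rw [hg] at hk
    set d := diagonal ![δ, δ⁻¹, (1 : F)]
    have h3 : d ^ 3 * J0 = J0 * d ^ 3 := by
      have hs' : ∀ i : ℕ, d * J0 ^ i = (J0 ^ (q ^ 2) ^ k) ^ i * d := fun i =>
        (SemiconjBy.pow_right (a := d) (x := J0) (y := J0 ^ (q ^ 2) ^ k) hk i).eq
      rw [pow_succ, pow_two, mul_assoc (d * d), hk, ← mul_assoc, mul_assoc d d (J0 ^ _), hs',
        ← mul_assoc d, ← pow_mul, hs', ← pow_mul, mul_assoc, mul_assoc]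
      congr 1
      · rw [← pow_add, ← pow_add]
        have : ∀ n, J0 ^ (q ^ 2) ^ (3 * n) = J0 := by
          intro n
          induction n with
          | zero => simp
          | succ n ih =>
            rw [Nat.mul_succ, pow_add, pow_mul, ih, ← pow_mul]
            exact hJ6
        rw [show k + (k + k) = 3 * k by ring, this]
      · rw [mul_assoc]
    have h1 : d ^ 3 = (1 : F) • 1 := hfix J0 hJf _ (Pi.single 2 1) 1 (by simp) h3 (by
      funext i
      simp [d, diagonal_pow, mulVec_diagonal]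
      fin_cases i <;> simp)
    rw [one_smul] at h1
    have := congrFun (congrFun h1 0) 0
    simp [d, diagonal_pow] at this
    exact hδ3 this
  set e0 : Fin 3 → F := Pi.single (⟨0, by norm_num⟩ : Fin 3) 1
  refine quotient_cover _ (subStab q (F ∙ e0)) (singerStab q J0 hJ6) (center_le_subStab D le_rfl _) ?_
    (lineStab_ne_top D le_rfl) hKtop fun g => ?_
  · intro z hz
    obtain ⟨c, -, hc⟩ := center_scalar D le_rfl hz
    refine ⟨0, ?_⟩
    rw [pow_zero, pow_one]
    refine Matrix.ext_iff_mulVec.2 fun x => ?_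
    rw [← mulVec_mulVec, ← mulVec_mulVec, hc, hc, mulVec_smul]
  rcases trichotomy C g with ⟨v, hv, a, ha⟩ | ⟨J, hJ1, hJ2, hcomm⟩ | ⟨h3, h2⟩
  · obtain ⟨x, hx⟩ := exists_line_map D (by norm_num) hv
    refine ⟨x, Or.inl (conj_mem (U := F ∙ v) ?_ hx ?_)⟩
    · intro w hw
      obtain ⟨b, rfl⟩ := Submodule.mem_span_singleton.1 hw
      rw [mulVec_smul, ha, smul_smul]
      exact Submodule.smul_mem _ _ (Submodule.mem_span_singleton_self v)
    · rw [finrank_span_singleton, finrank_span_singleton]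
      · simp [e0]
      · exact fun e => hv (by rw [e, zero_left (hs D)])
  · obtain ⟨H, hH, hHJ⟩ := conj_roots C hJ1 hJ2 hJU hJf
    obtain ⟨x, d, -, hx⟩ := exists_su_scalar D hH
    refine ⟨x, Or.inr (conj_mem_singer hJ6 (J' := J) ?_ (k := 0) ?_)⟩
    · rw [hx, mul_smul_comm, hHJ, smul_mul_assoc]
    · rw [pow_zero, pow_one, hcomm]
  · obtain ⟨H1, hH1, e1⟩ := exists_frame D (M := g.1.1) g.2 h3 h2
    obtain ⟨H2, hH2, e2⟩ := exists_frame D hu0U hu03 hu02
    obtain ⟨H1', hH1', ha1, hb1⟩ := exists_isU_inv D hH1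
    obtain ⟨x, d, hd, hx⟩ := exists_su_scalar D (hH2.mul hH1')
    refine ⟨x, Or.inr ⟨1, ?_⟩⟩
    have hP : Equiv.Perm.permMatrix F (Equiv.symm (finRotate 3)) * H1' = H1' * g.1.1 := by
      calc Equiv.Perm.permMatrix F (Equiv.symm (finRotate 3)) * H1'
          = H1' * (H1 * Equiv.Perm.permMatrix F (Equiv.symm (finRotate 3))) * H1' := by
            rw [← mul_assoc H1' H1, ha1, one_mul]
        _ = H1' * g.1.1 := by rw [e1, mul_assoc, mul_assoc, hb1, mul_one]
    have hxg : x.1.1 * g.1.1 = u0 * x.1.1 := by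
      rw [hx, smul_mul_assoc, mul_smul_comm, mul_assoc, ← hP, ← mul_assoc, e2, mul_assoc]
    rw [su_mul_coe, su_mul_coe, hxg, mul_assoc u0, su_mul_inv, mul_one, pow_one, hu0J]

end CfsgLib.TwoCover.Unitary
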